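import Mathlib

set_option autoImplicit false

/-!
# Extending a subgroup by a commuting involution (helper4)

`extSub U x` is `U ∪ xU` for an involution `x` commuting with `U`; `fourSub a b` is `{1, a, b, ab}`
for commuting involutions.
-/

namespace Cfsg.Agent.Helper4

variable {G : Type*} [Group G]

/-- `U ∪ xU` for an involution `x` commuting with `U` -/
def extSub (U : Subgroup G) (x : G) (hx : x * x = 1) (hc : ∀ u ∈ U, x * u = u * x) : Subgroup G where
  carrier := {w | w ∈ U ∨ x * w ∈ U}
  one_mem' := Or.inl U.one_mem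
  mul_mem' := by
    rintro a b (ha | ha) (hb | hb)
    · exact Or.inl (U.mul_mem ha hb)
    · right
      have : x * (a * b) = a * (x * b) := by rw [← mul_assoc, hc a ha, mul_assoc]
      rw [this]; exact U.mul_mem ha hb
    · right
      rw [← mul_assoc]; exact U.mul_mem ha hb
    · left
      have h1 : x * (x * a) = (x * a) * x := hc _ ha
      have : a * b = (x * a) * (x * b) := by
        calc a * b = (x * x) * a * b := by rw [hx, one_mul]
          _ = x * (x * a) * b := by simp only [mul_assoc]
          _ = (x * a) * x * b := by rw [h1]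
          _ = (x * a) * (x * b) := by simp only [mul_assoc]
      rw [this]; exact U.mul_mem ha hb
  inv_mem' := by
    rintro a (ha | ha)
    · exact Or.inl (U.inv_mem ha)
    · right
      have h1 : x * (x * a) = (x * a) * x := hc _ ha
      have hxi : x⁻¹ = x := inv_eq_of_mul_eq_one_left hx
      -- `a` commutes with `x`
      have hax : x * a = a * x := by
        have h2 : x * (x * a) = a := by rw [← mul_assoc, hx, one_mul]
        have h3 : x * a * x = a := by rw [← h1, h2]
        calc x * a = x * a * (x * x) := by rw [hx, mul_one]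
          _ = (x * a * x) * x := by simp only [mul_assoc]
          _ = a * x := by rw [h3]
      have : x * a⁻¹ = (x * a)⁻¹ := by
        rw [hax, mul_inv_rev, hxi]
      rw [this]; exact U.inv_mem ha

theorem mem_extSub {U : Subgroup G} {x : G} {hx : x * x = 1} {hc : ∀ u ∈ U, x * u = u * x}
    {w : G} : w ∈ extSub U x hx hc ↔ w ∈ U ∨ x * w ∈ U := Iff.rfl

theorem le_extSub (U : Subgroup G) (x : G) (hx : x * x = 1) (hc : ∀ u ∈ U, x * u = u * x) :
    U ≤ extSub U x hx hc := fun _ hu => Or.inl hu

theorem self_mem_extSub (U : Subgroup G) (x : G) (hx : x * x = 1) (hc : ∀ u ∈ U, x * u = u * x) :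
    x ∈ extSub U x hx hc := Or.inr (by rw [hx]; exact U.one_mem)

/-- members of `extSub U x` commute with `x` -/
theorem commute_of_mem_extSub {U : Subgroup G} {x : G} {hx : x * x = 1}
    {hc : ∀ u ∈ U, x * u = u * x} {w : G} (hw : w ∈ extSub U x hx hc) : x * w = w * x := by
  rcases hw with hw | hw
  · exact hc w hw
  · have h1 : x * (x * w) = (x * w) * x := hc _ hw
    have h2 : x * (x * w) = w := by rw [← mul_assoc, hx, one_mul]
    have h3 : x * w * x = w := by rw [← h1, h2]
    calc x * w = x * w * (x * x) := by rw [hx, mul_one]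
      _ = (x * w * x) * x := by simp only [mul_assoc]
      _ = w * x := by rw [h3]

/-- squares are trivial in `extSub U x` if they are in `U` -/
theorem sq_extSub {U : Subgroup G} {x : G} {hx : x * x = 1} {hc : ∀ u ∈ U, x * u = u * x}
    (hU : ∀ u ∈ U, u * u = 1) {w : G} (hw : w ∈ extSub U x hx hc) : w * w = 1 := by
  have hcw := commute_of_mem_extSub hw
  rcases hw with hw | hw
  · exact hU w hw
  · have h1 := hU _ hw
    calc w * w = (x * x) * (w * w) := by rw [hx, one_mul]
      _ = x * (x * w) * w := by simp only [mul_assoc]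
      _ = x * (w * x) * w := by rw [hcw]
      _ = (x * w) * (x * w) := by simp only [mul_assoc]
      _ = 1 := h1

/-- an element commuting with `U` and `x` commutes with `extSub U x` -/
theorem commute_extSub {U : Subgroup G} {x : G} {hx : x * x = 1} {hc : ∀ u ∈ U, x * u = u * x}
    {y : G} (hyU : ∀ u ∈ U, y * u = u * y) (hyx : y * x = x * y) {w : G}
    (hw : w ∈ extSub U x hx hc) : y * w = w * y := by
  rcases hw with hw | hw
  · exact hyU w hw
  · have h1 : y * (x * w) = (x * w) * y := hyU _ hw
    have h2 : x * (y * w) = x * (w * y) := by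
      calc x * (y * w) = (x * y) * w := by rw [mul_assoc]
        _ = (y * x) * w := by rw [hyx]
        _ = y * (x * w) := by rw [mul_assoc]
        _ = (x * w) * y := h1
        _ = x * (w * y) := by rw [mul_assoc]
    exact mul_left_cancel h2

/-- the order doubles -/
theorem card_extSub [Finite G] (U : Subgroup G) (x : G) (hx : x * x = 1)
    (hc : ∀ u ∈ U, x * u = u * x) (hxU : x ∉ U) :
    Nat.card (extSub U x hx hc) = 2 * Nat.card U := by
  set W := extSub U x hx hc with hW
  have hle : U ≤ W := le_extSub U x hx hc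
  have hidx : (U.subgroupOf W).index = 2 := by
    rw [Subgroup.index_eq_two_iff]
    refine ⟨⟨x, self_mem_extSub U x hx hc⟩, ?_⟩
    rintro ⟨b, hb⟩
    simp only [Subgroup.mem_subgroupOf, Subgroup.coe_mul]
    have hcb : x * b = b * x := commute_of_mem_extSub hb
    by_cases hbU : b ∈ U
    · right
      refine ⟨hbU, ?_⟩
      intro h
      apply hxU
      have : x = b⁻¹ * (b * x) := by group
      rw [this]; exact U.mul_mem (U.inv_mem hbU) h
    · left
      refine ⟨?_, hbU⟩
      rcases hb with hb | hb
      · exact absurd hb hbU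
      · rw [← hcb]; exact hb
  have h1 := (U.subgroupOf W).card_mul_index
  rw [hidx] at h1
  have h2 : Nat.card (U.subgroupOf W) = Nat.card U :=
    Nat.card_congr (Subgroup.subgroupOfEquivOfLe hle).toEquiv
  rw [h2] at h1
  omega

/-- `{1, a}` for an involution `a` -/
def twoSub (a : G) (ha : a * a = 1) : Subgroup G :=
  extSub ⊥ a ha (fun u hu => by rw [Subgroup.mem_bot.mp hu, mul_one, one_mul])

theorem mem_twoSub {a : G} {ha : a * a = 1} {w : G} : w ∈ twoSub a ha ↔ w = 1 ∨ w = a := by
  unfold twoSub
  rw [mem_extSub, Subgroup.mem_bot, Subgroup.mem_bot]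
  constructor
  · rintro (h | h)
    · exact Or.inl h
    · right
      have : a * w = a * a := by rw [h, ha]
      exact mul_left_cancel this
  · rintro (h | h)
    · exact Or.inl h
    · right; rw [h, ha]

theorem card_twoSub [Finite G] {a : G} (ha : a * a = 1) (ha1 : a ≠ 1) :
    Nat.card (twoSub a ha) = 2 := by
  unfold twoSub
  rw [card_extSub _ _ _ _ (by rw [Subgroup.mem_bot]; exact ha1), Subgroup.card_bot]

/-- `{1, a, b, ab}` for commuting involutions -/
def fourSub (a b : G) (ha : a * a = 1) (hb : b * b = 1) (hab : a * b = b * a) : Subgroup G :=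
  extSub (twoSub a ha) b hb (fun u hu => by
    rcases mem_twoSub.mp hu with h | h
    · rw [h, mul_one, one_mul]
    · rw [h, hab])

theorem mem_fourSub {a b : G} {ha : a * a = 1} {hb : b * b = 1} {hab : a * b = b * a} {w : G} :
    w ∈ fourSub a b ha hb hab ↔ w = 1 ∨ w = a ∨ w = b ∨ w = a * b := by
  unfold fourSub
  rw [mem_extSub, mem_twoSub, mem_twoSub]
  constructor
  · rintro ((h | h) | (h | h))
    · exact Or.inl h
    · exact Or.inr (Or.inl h)
    · right; right; left
      have : b * w = b * b := by rw [h, hb]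
      exact mul_left_cancel this
    · right; right; right
      have : b * w = b * (a * b) := by rw [h, hab, ← mul_assoc, hb, one_mul]
      exact mul_left_cancel this
  · rintro (h | h | h | h)
    · exact Or.inl (Or.inl h)
    · exact Or.inl (Or.inr h)
    · right; left; rw [h, hb]
    · right; right; rw [h, hab, ← mul_assoc, hb, one_mul]

theorem sq_fourSub {a b : G} {ha : a * a = 1} {hb : b * b = 1} {hab : a * b = b * a} {w : G}
    (hw : w ∈ fourSub a b ha hb hab) : w * w = 1 := by
  unfold fourSub at hw
  refine sq_extSub ?_ hw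
  intro u hu
  rcases mem_twoSub.mp hu with h | h
  · rw [h, mul_one]
  · rw [h, ha]

theorem card_fourSub [Finite G] {a b : G} (ha : a * a = 1) (hb : b * b = 1) (hab : a * b = b * a)
    (ha1 : a ≠ 1) (hb1 : b ≠ 1) (hne : a ≠ b) : Nat.card (fourSub a b ha hb hab) = 4 := by
  unfold fourSub
  rw [card_extSub, card_twoSub ha ha1]
  rw [mem_twoSub]
  rintro (h | h)
  · exact hb1 h
  · exact hne h.symm

/-- a subgroup of order four and exponent two is a Klein four-group -/
theorem isKleinFour_of_card_of_sq [Finite G] (V : Subgroup G) (hcard : Nat.card V = 4)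
    (hsq : ∀ v ∈ V, v * v = 1) : IsKleinFour V := by
  refine ⟨hcard, ?_⟩
  have h1 : Monoid.exponent V ∣ 2 := by
    rw [Monoid.exponent_dvd_iff_forall_pow_eq_one]
    rintro ⟨v, hv⟩
    apply Subtype.ext
    simp only [Subgroup.coe_pow, Subgroup.coe_one, pow_two]
    exact hsq v hv
  rcases (Nat.dvd_prime Nat.prime_two).mp h1 with h | h
  · exfalso
    rw [Monoid.exp_eq_one_iff] at h
    have := Nat.card_eq_one_iff_unique.mpr ⟨h, ⟨1⟩⟩
    omega
  · exact h

theorem isKleinFour_fourSub [Finite G] {a b : G} (ha : a * a = 1) (hb : b * b = 1)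
    (hab : a * b = b * a) (ha1 : a ≠ 1) (hb1 : b ≠ 1) (hne : a ≠ b) :
    IsKleinFour (fourSub a b ha hb hab) :=
  isKleinFour_of_card_of_sq _ (card_fourSub ha hb hab ha1 hb1 hne) (fun _ hv => sq_fourSub hv)

end Cfsg.Agent.Helper4
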