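import Mathlib

set_option autoImplicit false

namespace Cfsg.Agent.Helper4

variable {G : Type*} [Group G]

theorem conj_inv_of_conj_eq_inv {c x : G} (hc : c * x * c⁻¹ = x⁻¹) : c * x⁻¹ * c⁻¹ = x := by
  have h4 : (c * x * c⁻¹)⁻¹ = x := by rw [hc, inv_inv]
  calc c * x⁻¹ * c⁻¹ = (c * x * c⁻¹)⁻¹ := by group
    _ = x := h4

theorem commute_sq_of_conj_eq_inv {c x : G} (hc : c * x * c⁻¹ = x⁻¹) : Commute (c ^ 2) x := by
  have h1 : c * x = x⁻¹ * c := by rw [← hc]; group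
  have h3 : c * x⁻¹ = x * c := by
    have := conj_inv_of_conj_eq_inv hc
    calc c * x⁻¹ = c * x⁻¹ * c⁻¹ * c := by group
      _ = x * c := by rw [this]
  show c ^ 2 * x = x * c ^ 2
  calc c ^ 2 * x = c * (c * x) := by rw [pow_two, mul_assoc]
    _ = c * (x⁻¹ * c) := by rw [h1]
    _ = (c * x⁻¹) * c := by group
    _ = x * c * c := by rw [h3]
    _ = x * c ^ 2 := by rw [pow_two, mul_assoc]

theorem conj_odd_pow_of_conj_eq_inv {c x : G} (hc : c * x * c⁻¹ = x⁻¹) (j : ℕ) :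
    c ^ (2 * j + 1) * x * (c ^ (2 * j + 1))⁻¹ = x⁻¹ := by
  have h2 : Commute ((c ^ 2) ^ j) x⁻¹ := ((commute_sq_of_conj_eq_inv hc).pow_left j).inv_right
  have e : c ^ (2 * j + 1) = (c ^ 2) ^ j * c := by rw [pow_succ, pow_mul]
  rw [e]
  calc (c ^ 2) ^ j * c * x * ((c ^ 2) ^ j * c)⁻¹ = (c ^ 2) ^ j * (c * x * c⁻¹) * ((c ^ 2) ^ j)⁻¹ := by group
    _ = (c ^ 2) ^ j * x⁻¹ * ((c ^ 2) ^ j)⁻¹ := by rw [hc]
    _ = x⁻¹ * (c ^ 2) ^ j * ((c ^ 2) ^ j)⁻¹ := by rw [h2.eq]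
    _ = x⁻¹ := by group

/-- an element of odd order inverting `x` forces `x ^ 2 = 1`. -/
theorem sq_eq_one_of_conj_eq_inv_of_odd {c x : G} (hc : c * x * c⁻¹ = x⁻¹) (hodd : Odd (orderOf c)) :
    x ^ 2 = 1 := by
  obtain ⟨k, hk⟩ := hodd
  have h := conj_odd_pow_of_conj_eq_inv hc k
  rw [← hk, pow_orderOf_eq_one] at h
  have hxx : x = x⁻¹ := by simpa using h
  rw [pow_two]
  nth_rewrite 2 [hxx]
  exact mul_inv_cancel x

theorem orderOf_eq_two_of_sq {t : G} (h2 : t ^ 2 = 1) (h1 : t ≠ 1) : orderOf t = 2 :=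
  orderOf_eq_prime h2 h1

theorem sq_eq_one_of_orderOf_eq_two {t : G} (h : orderOf t = 2) : t ^ 2 = 1 := by
  rw [← h]; exact pow_orderOf_eq_one t

theorem ne_one_of_orderOf_eq_two {t : G} (h : orderOf t = 2) : t ≠ 1 := by
  intro h1; rw [h1, orderOf_one] at h; omega

end Cfsg.Agent.Helper4
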