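import Mathlib
import Cfsg.Agent.Lib.Helper4.Inv

set_option autoImplicit false

namespace Cfsg.Agent.Helper4

variable {G : Type*} [Group G]

theorem mul_self_of_orderOf_eq_two {t : G} (h : orderOf t = 2) : t * t = 1 := by
  have := sq_eq_one_of_orderOf_eq_two h
  rwa [pow_two] at this

theorem pair_fst_conj {u v x : G} (hu : orderOf u = 2) (hv : orderOf v = 2) (h : u * v = x) :
    u * x * u⁻¹ = x⁻¹ := by
  have hu' : u⁻¹ = u := inv_eq_self_of_orderOf_eq_two hu
  have hv' : v⁻¹ = v := inv_eq_self_of_orderOf_eq_two hv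
  have huu := mul_self_of_orderOf_eq_two hu
  subst h
  rw [mul_inv_rev, hu', hv']
  calc u * (u * v) * u = (u * u) * v * u := by group
    _ = v * u := by rw [huu, one_mul]

theorem pair_snd_eq {u v x : G} (hu : orderOf u = 2) (h : u * v = x) : v = u * x := by
  have huu := mul_self_of_orderOf_eq_two hu
  subst h
  rw [← mul_assoc, huu, one_mul]

/-- if the involution `t` inverts `x` then `(t * x)^2 = 1`. -/
theorem mul_sq_of_inverts {t x : G} (ht : orderOf t = 2) (h : t * x * t⁻¹ = x⁻¹) :
    (t * x) * (t * x) = 1 := by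
  have ht' : t⁻¹ = t := inv_eq_self_of_orderOf_eq_two ht
  rw [ht'] at h
  calc t * x * (t * x) = (t * x * t) * x := by group
    _ = 1 := by rw [h, inv_mul_cancel]

theorem mul_mul_of_orderOf_eq_two {t : G} (x : G) (ht : orderOf t = 2) : t * (t * x) = x := by
  rw [← mul_assoc, mul_self_of_orderOf_eq_two ht, one_mul]

end Cfsg.Agent.Helper4
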