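import Mathlib
import Cfsg.Agent.Lib.Helper4.Pairs

set_option autoImplicit false

namespace Cfsg.Agent.Helper4

variable {G : Type*} [Group G]

section
variable {x y : G} (hx : orderOf x = 2) (hy : orderOf y = 2)
include hx hy

theorem dih_conj : x * (x * y) * x⁻¹ = (x * y)⁻¹ :=
  pair_fst_conj hx hy rfl

theorem dih_conj_y : y * (x * y) * y⁻¹ = (x * y)⁻¹ := by
  have hx' : x⁻¹ = x := inv_eq_self_of_orderOf_eq_two hx
  have hy' : y⁻¹ = y := inv_eq_self_of_orderOf_eq_two hy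
  rw [mul_inv_rev, hx', hy', mul_assoc, mul_assoc, mul_self_of_orderOf_eq_two hy, mul_one]

theorem dih_conj_zpow (k : ℤ) : x * (x * y) ^ k * x⁻¹ = (x * y) ^ (-k) := by
  rw [← conj_zpow, dih_conj hx hy, inv_zpow, zpow_neg]

theorem dih_x_mul_zpow (k : ℤ) : x * (x * y) ^ k = (x * y) ^ (-k) * x := by
  rw [← dih_conj_zpow hx hy k]; group

theorem dih_y_eq : y = (x * y) ^ (-1 : ℤ) * x := by
  have hx' : x⁻¹ = x := inv_eq_self_of_orderOf_eq_two hx
  have hy' : y⁻¹ = y := inv_eq_self_of_orderOf_eq_two hy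
  rw [zpow_neg, zpow_one, mul_inv_rev, hx', hy', mul_assoc, mul_self_of_orderOf_eq_two hx, mul_one]

/-- description of the elements of the subgroup generated by two involutions -/
theorem dih_mem_closure {d : G} (hd : d ∈ Subgroup.closure ({x, y} : Set G)) :
    ∃ k : ℤ, d = (x * y) ^ k ∨ d = (x * y) ^ k * x := by
  have hx' : x⁻¹ = x := inv_eq_self_of_orderOf_eq_two hx
  have hxx : x * x = 1 := mul_self_of_orderOf_eq_two hx
  induction hd using Subgroup.closure_induction with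
  | mem a ha =>
    rcases ha with rfl | ha
    · exact ⟨0, Or.inr (by simp)⟩
    · rw [Set.mem_singleton_iff] at ha
      subst ha
      exact ⟨-1, Or.inr (dih_y_eq hx hy)⟩
  | one => exact ⟨0, Or.inl (by simp)⟩
  | mul a b _ _ iha ihb =>
    obtain ⟨i, rfl | rfl⟩ := iha <;> obtain ⟨j, rfl | rfl⟩ := ihb
    · exact ⟨i + j, Or.inl (zpow_add _ _ _).symm⟩
    · exact ⟨i + j, Or.inr (by rw [zpow_add, mul_assoc])⟩
    · refine ⟨i + -j, Or.inr ?_⟩
      rw [mul_assoc, dih_x_mul_zpow hx hy, ← mul_assoc, ← zpow_add]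
    · refine ⟨i + -j, Or.inl ?_⟩
      calc (x * y) ^ i * x * ((x * y) ^ j * x) = (x * y) ^ i * (x * (x * y) ^ j) * x := by group
        _ = (x * y) ^ i * ((x * y) ^ (-j) * x) * x := by rw [dih_x_mul_zpow hx hy]
        _ = (x * y) ^ i * (x * y) ^ (-j) * (x * x) := by group
        _ = (x * y) ^ (i + -j) := by rw [hxx, mul_one, ← zpow_add]
  | inv a _ iha =>
    obtain ⟨i, rfl | rfl⟩ := iha
    · exact ⟨-i, Or.inl (zpow_neg _ _).symm⟩
    · refine ⟨i, Or.inr ?_⟩
      rw [mul_inv_rev, hx', ← zpow_neg, dih_x_mul_zpow hx hy, neg_neg]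

theorem dih_zpow_mem (k : ℤ) : (x * y) ^ k ∈ Subgroup.closure ({x, y} : Set G) := by
  apply Subgroup.zpow_mem
  apply Subgroup.mul_mem
  · exact Subgroup.subset_closure (by simp)
  · exact Subgroup.subset_closure (by simp)

theorem dih_zpow_mul_mem (k : ℤ) : (x * y) ^ k * x ∈ Subgroup.closure ({x, y} : Set G) :=
  Subgroup.mul_mem _ (dih_zpow_mem hx hy k) (Subgroup.subset_closure (by simp))

theorem dih_zpow_conj_x (k : ℤ) :
    (x * y) ^ k * x * ((x * y) ^ k)⁻¹ = (x * y) ^ (2 * k) * x := by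
  rw [← zpow_neg, mul_assoc, dih_x_mul_zpow hx hy, neg_neg, ← mul_assoc, ← zpow_add, two_mul]

theorem dih_zpow_mul_conj_x (k : ℤ) :
    ((x * y) ^ k * x) * x * ((x * y) ^ k * x)⁻¹ = (x * y) ^ (2 * k) * x := by
  have hx' : x⁻¹ = x := inv_eq_self_of_orderOf_eq_two hx
  have hxx : x * x = 1 := mul_self_of_orderOf_eq_two hx
  rw [mul_inv_rev, hx', ← zpow_neg]
  calc (x * y) ^ k * x * x * (x * (x * y) ^ (-k)) = (x * y) ^ k * (x * x) * (x * (x * y) ^ (-k)) := by group
    _ = (x * y) ^ k * ((x * y) ^ (- -k) * x) := by rw [hxx, mul_one, dih_x_mul_zpow hx hy]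
    _ = (x * y) ^ (2 * k) * x := by rw [neg_neg, ← mul_assoc, ← zpow_add, two_mul]

/-- every element of the dihedral group conjugates `x` to `r^(2k) x`. -/
theorem dih_conj_x {d : G} (hd : d ∈ Subgroup.closure ({x, y} : Set G)) :
    ∃ k : ℤ, d * x * d⁻¹ = (x * y) ^ (2 * k) * x := by
  obtain ⟨k, rfl | rfl⟩ := dih_mem_closure hx hy hd
  · exact ⟨k, dih_zpow_conj_x hx hy k⟩
  · exact ⟨k, dih_zpow_mul_conj_x hx hy k⟩

theorem dih_zpow_mul_x_sq (k : ℤ) : ((x * y) ^ k * x) * ((x * y) ^ k * x) = 1 := by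
  have hxx : x * x = 1 := mul_self_of_orderOf_eq_two hx
  calc (x * y) ^ k * x * ((x * y) ^ k * x) = (x * y) ^ k * (x * (x * y) ^ k) * x := by group
    _ = (x * y) ^ k * ((x * y) ^ (-k) * x) * x := by rw [dih_x_mul_zpow hx hy]
    _ = ((x * y) ^ k * (x * y) ^ (-k)) * (x * x) := by group
    _ = 1 := by rw [hxx, ← zpow_add, add_neg_cancel, zpow_zero, mul_one]

theorem dih_x_notMem_zpowers : x ∉ Subgroup.zpowers (x * y) := by
  intro hmem
  have hx' : x⁻¹ = x := inv_eq_self_of_orderOf_eq_two hx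
  have hy' : y⁻¹ = y := inv_eq_self_of_orderOf_eq_two hy
  obtain ⟨k, hk⟩ := Subgroup.mem_zpowers_iff.mp hmem
  -- x commutes with x*y
  have hc : Commute x (x * y) := by
    have hc' : Commute ((x * y) ^ k) (x * y) := (Commute.refl (x * y)).zpow_left k
    rwa [hk] at hc'
  have h1 : x * (x * y) * x⁻¹ = x * y := by
    rw [hc.eq]; group
  rw [dih_conj hx hy] at h1
  -- (x*y)⁻¹ = x*y, i.e. y*x = x*y
  rw [mul_inv_rev, hx', hy'] at h1
  -- so (x*y)^2 = 1
  have h2 : (x * y) * (x * y) = 1 := by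
    nth_rewrite 1 [← h1]
    calc y * x * (x * y) = y * (x * x) * y := by group
      _ = 1 := by rw [mul_self_of_orderOf_eq_two hx, mul_one, mul_self_of_orderOf_eq_two hy]
  -- x = (x*y)^k with (x*y)^2 = 1: x = 1 or x = x*y
  have h3 : ∀ j : ℤ, (x * y) ^ j = 1 ∨ (x * y) ^ j = x * y := by
    intro j
    rcases Int.even_or_odd' j with ⟨m, rfl | rfl⟩
    · left
      rw [zpow_mul, zpow_two, h2, one_zpow]
    · right
      rw [zpow_add, zpow_mul, zpow_two, h2, one_zpow, one_mul, zpow_one]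
  rcases h3 k with h4 | h4
  · rw [h4] at hk
    exact ne_one_of_orderOf_eq_two hx hk.symm
  · rw [h4] at hk
    have : y = 1 := by
      have := congrArg (fun t => x⁻¹ * t) hk
      simpa using this
    exact ne_one_of_orderOf_eq_two hy this

end

end Cfsg.Agent.Helper4
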