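import Mathlib
import Cfsg.Agent.Lib.Helper87.PsuA
import Cfsg.Agent.Lib.Helper13.SUPrim

/-!
# SUO (S2282): the Witt step of the concrete side (helper4, any `n`)

Given a unitary `u`, a vector `v` with `H v v = 0`, `H v (u v) = 0`, `H v (u² v) ≠ 0` and a target
triple `(p, e0, x)` with the same Gram matrix, plus a unit vector orthogonal to the target triple,
there is `h ∈ SU_n` with `h v = p`, `h (u v) = e0`, `h (u² v) = x`; hence `l := h u h⁻¹` has
`l e0 = x` and `l⁻¹ e0 = p`.
-/

set_option autoImplicit false
set_option linter.unusedSectionVars false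
set_option linter.unusedVariables false
set_option quotPrecheck false

namespace Cfsg.Agent.Helper4.SUO

open Matrix Cfsg Cfsg.Agent.Helper13 Cfsg.Agent.Helper87.PsuA

variable {F : Type*} [Field F] [Fintype F] {q n : ℕ}

local notation "V" => Fin n → F
local notation "G" => ↥(Cfsg.SU n F q)
local notation "H" => Cfsg.hermForm n F q

/-- a triple `a, b, c` with `H a b = 0`, `H b c = 0`, `H c c = 0`, `H a c ≠ 0`, `b ≠ 0` is
linearly independent -/
theorem h4_li3 (hF : Fintype.card F = q ^ 2) (a b c : V) (hab : H a b = 0) (hbc : H b c = 0)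
    (hcc : H c c = 0) (hac : H a c ≠ 0) (hb : b ≠ 0) : LinearIndependent F ![a, b, c] := by
  rw [Fintype.linearIndependent_iff]
  intro g hg
  rw [Fin.sum_univ_three] at hg
  simp only [Matrix.cons_val_zero, Matrix.cons_val_one, Matrix.cons_val_two, Matrix.head_cons,
    Matrix.tail_cons] at hg
  have h0 : g 0 = 0 := by
    have := congrArg (fun z => H z c) hg
    simp only [hermForm_add_left, hermForm_smul_left, hbc, hcc, mul_zero, add_zero,
      H_zero_left hF] at this
    rcases mul_eq_zero.mp this with h | h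
    · exact h
    · exact absurd h hac
  rw [h0, zero_smul, zero_add] at hg
  have h2 : g 2 = 0 := by
    have := congrArg (fun z => H a z) hg
    simp only [hermForm_add_right hF, hermForm_smul_right, hab, mul_zero, zero_add,
      H_zero_right hF] at this
    rcases mul_eq_zero.mp this with h | h
    · exact pow_eq_zero_iff (q_pos hF).ne' |>.mp h
    · exact absurd h hac
  rw [h2, zero_smul, add_zero] at hg
  have h1 : g 1 = 0 := by
    rcases smul_eq_zero.mp hg with h | h
    · exact h
    · exact absurd h hb
  intro i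
  fin_cases i
  · exact h0
  · exact h1
  · exact h2

/-- **Witt step.** -/
theorem exists_conj_frame (hF : Fintype.card F = q ^ 2) (u : G) (v p e0 x f : V)
    (h1 : H v v = 0) (h2 : H v (actv u v) = 0) (h3 : H v (actv u (actv u v)) ≠ 0)
    (hp : H p p = 0) (hpe : H p e0 = 0) (hpx : H p x = H v (actv u (actv u v)))
    (hee : H e0 e0 = 0) (hex : H e0 x = 0) (hxx : H x x = 0) (he0 : e0 ≠ 0)
    (hf : H f f = 1) (hfp : H f p = 0) (hfe : H f e0 = 0) (hfx : H f x = 0) :
    ∃ h : G, actv (h * u * h⁻¹) e0 = x ∧ actv (h * u * h⁻¹)⁻¹ e0 = p := by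
  have hv0 : v ≠ 0 := by
    rintro rfl
    exact h3 (H_zero_left hF _)
  have huv0 : actv u v ≠ 0 := by
    intro h
    apply hv0
    have := actv_inv_actv u v
    rw [h, actv_zero] at this
    exact this.symm
  -- Gram data of the source triple
  have g11 : H (actv u v) (actv u v) = 0 := by rw [H_actv]; exact h1
  have g12 : H (actv u v) (actv u (actv u v)) = 0 := by rw [H_actv]; exact h2
  have g22 : H (actv u (actv u v)) (actv u (actv u v)) = 0 := by
    rw [H_actv, H_actv]; exact h1
  have hpx0 : H p x ≠ 0 := by rw [hpx]; exact h3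
  have li1 := h4_li3 hF v (actv u v) (actv u (actv u v)) h2 g12 g22 h3 huv0
  have li2 := h4_li3 hF p e0 x hpe hex hxx hpx0 he0
  have hGram : ∀ a b : Fin 3, stdB hF n (![v, actv u v, actv u (actv u v)] a)
      (![v, actv u v, actv u (actv u v)] b) = stdB hF n (![p, e0, x] a) (![p, e0, x] b) := by
    have c10 : H (actv u v) v = 0 := H_symm_zero hF h2
    have c21 : H (actv u (actv u v)) (actv u v) = 0 := H_symm_zero hF g12
    have d10 : H e0 p = 0 := H_symm_zero hF hpe
    have d21 : H x e0 = 0 := H_symm_zero hF hex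
    have c20 : H (actv u (actv u v)) v = H x p := by
      rw [← hermForm_conj hF v, ← hermForm_conj hF p, hpx]
    intro a b
    fin_cases a <;> fin_cases b <;>
      simp only [stdB_apply, Matrix.cons_val_zero, Matrix.cons_val_one, Matrix.cons_val_two,
        Matrix.head_cons, Matrix.tail_cons, Fin.zero_eta, Fin.mk_one, Fin.reduceFinMk,
        h1, h2, hp, hpe, hpx, hee, hex, hxx, g11, g12, g22, c10, c21, d10, d21, c20]
  have hfy : ∀ a : Fin 3, stdB hF n f (![p, e0, x] a) = 0 := by
    intro a
    fin_cases a <;>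
      simp only [stdB_apply, Matrix.cons_val_zero, Matrix.cons_val_one, Matrix.cons_val_two,
        Matrix.head_cons, Matrix.tail_cons, Fin.zero_eta, Fin.mk_one, Fin.reduceFinMk]
    · exact H_symm_zero hF hfp
    · exact H_symm_zero hF hfe
    · exact H_symm_zero hF hfx
  obtain ⟨h, hh⟩ := exists_SU_frame hF ![v, actv u v, actv u (actv u v)] ![p, e0, x] li1 li2
    hGram f hf hfy
  have hh0 : actv h v = p := by simpa using hh 0
  have hh1 : actv h (actv u v) = e0 := by simpa using hh 1
  have hh2 : actv h (actv u (actv u v)) = x := by simpa using hh 2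
  have hinv : actv h⁻¹ e0 = actv u v := actv_inv h _ _ hh1
  refine ⟨h, ?_, ?_⟩
  · rw [actv_mul, actv_mul, hinv, hh2]
  · apply actv_inv
    rw [actv_mul, actv_mul, actv_inv h v p hh0, hh1]

end Cfsg.Agent.Helper4.SUO
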