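import Mathlib
import Cfsg.Agent.Lib.Helper82.CAFamily
import Cfsg.Agent.Lib.Helper76.CD2Basic
import Cfsg.Agent.Lib.Helper80.CharBasic

/-!
# Frobenius-type normal subgroups: sums of the relevant characters (helper4)
Abstract facts about a finite group `X` with an abelian normal subgroup `K` containing the
centralizers of its non-identity elements.
-/

set_option autoImplicit false
set_option linter.style.haveILetI false
set_option linter.unusedSectionVars false

namespace Cfsg.Agent.Helper4.ZassFeitA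

open Cfsg Cfsg.Agent.Helper81 Cfsg.Agent.Helper82
open scoped ComplexConjugate

universe u

variable {X : Type u} [Group X] [Fintype X] (K : Subgroup X) [hKn : K.Normal]
  (hC : ∀ n ∈ K, n ≠ 1 → Subgroup.centralizer ({n} : Set X) ≤ K)
  (hab : ∀ a ∈ K, ∀ b ∈ K, a * b = b * a)

open Classical in
/-- sum over the relevant subtype equals sum over the filter. -/
theorem sum_rel_eq_filter (F : IrrCharacter X → ℂ) :
    ∑ χ : {χ : IrrCharacter X // ∃ k ∈ K, (χ : X → ℂ) k ≠ (χ : X → ℂ) 1}, F χ.1 =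
      ∑ ζ ∈ Finset.univ.filter
        (fun ζ : IrrCharacter X => ¬ K ≤ Cfsg.Agent.Helper79.irrKer ζ), F ζ := by
  classical
  symm
  apply Finset.sum_subtype
  intro ζ
  rw [Finset.mem_filter, not_le_irrKer_iff]
  simp

include hC hab in
open Classical in
theorem sum_rel_apply {k : X} (hk : k ∈ K) (hk1 : k ≠ 1) :
    ∑ χ : {χ : IrrCharacter X // ∃ k ∈ K, (χ : X → ℂ) k ≠ (χ : X → ℂ) 1},
      (χ.1 : X → ℂ) k = -1 := by
  classical
  have h0 := Cfsg.Agent.Helper79.sum_degree_mul k hk1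
  rw [← Finset.sum_filter_add_sum_filter_not Finset.univ
    (fun ζ : IrrCharacter X => K ≤ Cfsg.Agent.Helper79.irrKer ζ)] at h0
  have h1 : ∑ ζ ∈ Finset.univ.filter
      (fun ζ : IrrCharacter X => K ≤ Cfsg.Agent.Helper79.irrKer ζ),
      (ζ : X → ℂ) 1 * (ζ : X → ℂ) k = (K.index : ℂ) := by
    rw [← sum_sq_le_ker_complex K]
    apply Finset.sum_congr rfl
    intro ζ hζ
    rw [Finset.mem_filter] at hζ
    rw [(Cfsg.Agent.Helper79.mem_irrKer ζ k).1 (hζ.2 hk)]
  have h2 : ∑ ζ ∈ Finset.univ.filter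
      (fun ζ : IrrCharacter X => ¬ K ≤ Cfsg.Agent.Helper79.irrKer ζ),
      (ζ : X → ℂ) 1 * (ζ : X → ℂ) k = (K.index : ℂ) * ∑ ζ ∈ Finset.univ.filter
      (fun ζ : IrrCharacter X => ¬ K ≤ Cfsg.Agent.Helper79.irrKer ζ), (ζ : X → ℂ) k := by
    rw [Finset.mul_sum]
    apply Finset.sum_congr rfl
    intro ζ hζ
    rw [Finset.mem_filter] at hζ
    rw [relevant_degree K hC hab ζ.2 ((not_le_irrKer_iff K ζ).1 hζ.2), index_cast_eq]
  rw [h1, h2] at h0
  rw [sum_rel_eq_filter K (fun ζ => (ζ : X → ℂ) k)]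
  have hi0 : (K.index : ℂ) ≠ 0 := by exact_mod_cast Subgroup.index_ne_zero_of_finite (H := K)
  have h3 : (K.index : ℂ) * (1 + ∑ ζ ∈ Finset.univ.filter
      (fun ζ : IrrCharacter X => ¬ K ≤ Cfsg.Agent.Helper79.irrKer ζ), (ζ : X → ℂ) k) = 0 := by
    linear_combination h0
  have h4 := (mul_eq_zero.1 h3).resolve_left hi0
  linear_combination h4

include hC hab in
theorem card_centralizer_eq {k : X} (hk : k ∈ K) (hk1 : k ≠ 1) :
    Nat.card (Subgroup.centralizer ({k} : Set X)) = Nat.card K := by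
  have : Subgroup.centralizer ({k} : Set X) = K := by
    apply le_antisymm (hC k hk hk1)
    intro x hx
    rw [Subgroup.mem_centralizer_iff]
    intro y hy
    rw [Set.mem_singleton_iff] at hy
    subst hy
    exact hab y hk x hx
  rw [this]

include hC hab in
open Classical in
theorem sum_rel_sq {k : X} (hk : k ∈ K) (hk1 : k ≠ 1) :
    ∑ χ : {χ : IrrCharacter X // ∃ k ∈ K, (χ : X → ℂ) k ≠ (χ : X → ℂ) 1},
      (χ.1 : X → ℂ) k * conj ((χ.1 : X → ℂ) k) = (Nat.card K : ℂ) - (K.index : ℂ) := by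
  classical
  have h0 := Cfsg.Agent.Helper79.col_orth_self k
  rw [card_centralizer_eq K hC hab hk hk1] at h0
  rw [← Finset.sum_filter_add_sum_filter_not Finset.univ
    (fun ζ : IrrCharacter X => K ≤ Cfsg.Agent.Helper79.irrKer ζ)] at h0
  have h1 : ∑ ζ ∈ Finset.univ.filter
      (fun ζ : IrrCharacter X => K ≤ Cfsg.Agent.Helper79.irrKer ζ),
      (ζ : X → ℂ) k * conj ((ζ : X → ℂ) k) = (K.index : ℂ) := by
    rw [← sum_sq_le_ker_complex K]
    apply Finset.sum_congr rfl
    intro ζ hζ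
    rw [Finset.mem_filter] at hζ
    rw [(Cfsg.Agent.Helper79.mem_irrKer ζ k).1 (hζ.2 hk), (Cfsg.Agent.Helper79.irr_one_eq ζ).1,
      Complex.conj_natCast]
  rw [h1] at h0
  rw [sum_rel_eq_filter K (fun ζ => (ζ : X → ℂ) k * conj ((ζ : X → ℂ) k))]
  linear_combination h0

/-- the sum of a function over `K`, written as a sum over `X`. -/
noncomputable def sumK (F : X → ℂ) : ℂ :=
  haveI := Classical.decPred (· ∈ K)
  ∑ x : X, if x ∈ K then F x else 0

theorem sumK_add (F₁ F₂ : X → ℂ) : sumK K (F₁ + F₂) = sumK K F₁ + sumK K F₂ := by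
  classical
  unfold sumK
  rw [← Finset.sum_add_distrib]
  apply Finset.sum_congr rfl
  intro x _
  split_ifs <;> simp

theorem sumK_sum {ι : Type*} (s : Finset ι) (F : ι → X → ℂ) :
    sumK K (fun x => ∑ i ∈ s, F i x) = ∑ i ∈ s, sumK K (F i) := by
  classical
  unfold sumK
  rw [Finset.sum_comm]
  apply Finset.sum_congr rfl
  intro x _
  split_ifs
  · rfl
  · simp

theorem sumK_mul_left (c : ℂ) (F : X → ℂ) : sumK K (fun x => c * F x) = c * sumK K F := by
  classical
  unfold sumK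
  rw [Finset.mul_sum]
  apply Finset.sum_congr rfl
  intro x _
  split_ifs <;> simp

/-- a function vanishing on `K ∖ {1}`. -/
theorem sumK_of_vanish {F : X → ℂ} (h : ∀ k ∈ K, k ≠ 1 → F k = 0) : sumK K F = F 1 := by
  classical
  unfold sumK
  rw [Finset.sum_eq_single (1 : X)]
  · rw [if_pos K.one_mem]
  · intro x _ hx
    split_ifs with hxK
    · exact h x hxK hx
    · rfl
  · intro h1
    exact absurd (Finset.mem_univ _) h1

/-- a function constant on `K`. -/
theorem sumK_of_const {F : X → ℂ} {c : ℂ} (h : ∀ k ∈ K, F k = c) :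
    sumK K F = (Nat.card K : ℂ) * c := by
  classical
  unfold sumK
  have : ∀ x : X, (if x ∈ K then F x else 0) = if x ∈ K then c else 0 := by
    intro x
    split_ifs with hx
    · exact h x hx
    · rfl
  rw [Finset.sum_congr rfl (fun x _ => this x), Finset.sum_ite, Finset.sum_const_zero, add_zero,
    Finset.sum_const, nsmul_eq_mul, Nat.card_eq_fintype_card, Fintype.card_subtype]

include hC in
/-- relevant characters sum to zero over `K`. -/
theorem sumK_rel (χ : IrrCharacter X) (hrel : ∃ k ∈ K, (χ : X → ℂ) k ≠ (χ : X → ℂ) 1) :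
    sumK K (χ : X → ℂ) = 0 := by
  classical
  unfold sumK
  have h1 : ∀ x : X, (if x ∈ K then (χ : X → ℂ) x else 0) = (χ : X → ℂ) x := by
    intro x
    split_ifs with hx
    · rfl
    · exact (rel_vanish K hC χ.2 hrel hx).symm
  rw [Finset.sum_congr rfl (fun x _ => h1 x)]
  have hne : (χ : X → ℂ) ≠ (fun _ => (1 : ℂ)) := by
    intro h
    obtain ⟨k, _, hk⟩ := hrel
    apply hk
    rw [h]
  have h2 := irr_orthonormal χ.2 (isIrrCharacter_one (G := X))
  rw [if_neg hne] at h2
  unfold classInner at h2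
  have hX : (Nat.card X : ℂ)⁻¹ ≠ 0 := by
    apply inv_ne_zero
    exact_mod_cast (Nat.card_pos (α := X)).ne'
  have h3 := (mul_eq_zero.1 h2).resolve_left hX
  rw [← h3]
  apply Finset.sum_congr rfl
  intro x _
  rw [map_one, mul_one]

/-- when `X / K` is commutative, the characters with `K` in the kernel are linear. -/
theorem irrelevant_linear (hcomm : ∀ x y : X, x * y * x⁻¹ * y⁻¹ ∈ K) (ζ : IrrCharacter X)
    (hζ : K ≤ Cfsg.Agent.Helper79.irrKer ζ) : (ζ : X → ℂ) 1 = 1 := by
  obtain ⟨ψ, hψ⟩ := Cfsg.Agent.Helper79.exists_deflate K ζ hζ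
  have hq : ∀ a b : X ⧸ K, a * b = b * a := by
    intro a b
    induction a using QuotientGroup.induction_on with
    | H x =>
      induction b using QuotientGroup.induction_on with
      | H y =>
        rw [← QuotientGroup.mk_mul, ← QuotientGroup.mk_mul, QuotientGroup.eq]
        have := hcomm y⁻¹ x⁻¹
        have e : (x * y)⁻¹ * (y * x) = y⁻¹ * x⁻¹ * y⁻¹⁻¹ * x⁻¹⁻¹ := by group
        rw [e]
        exact this
  have h1 := Cfsg.Agent.Helper76.CD2.all_linear_of_comm hq ψ
  rw [← hψ, (Cfsg.Agent.Helper79.irr_one_eq _).1, Cfsg.Agent.Helper79.charDegree_inflate, h1,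
    Nat.cast_one]

end Cfsg.Agent.Helper4.ZassFeitA
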