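import Mathlib
import Cfsg.Agent.Lib.Helper4.ZassFeitA
import Cfsg.Agent.Lib.Helper81.PermChar

/-!
# Restriction sums and the permutation character (helper4)
-/

set_option autoImplicit false
set_option linter.style.haveILetI false
set_option linter.unusedSectionVars false

namespace Cfsg.Agent.Helper4.ZassFeitC

open Cfsg Cfsg.Agent.Helper81 Cfsg.Agent.Helper82 Cfsg.Agent.Helper4.ZassFeitA
open scoped ComplexConjugate

universe u

variable {G : Type u} [Group G] [Fintype G] (N : Subgroup G) [Fintype N] (K' : Subgroup N)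
  [hKn : K'.Normal]
  (hC' : ∀ n ∈ K', n ≠ 1 → Subgroup.centralizer ({n} : Set N) ≤ K')
  (hcomm : ∀ x y : N, x * y * x⁻¹ * y⁻¹ ∈ K')

include hC' hcomm in
open Classical in
/-- The sum over `K'` of a character of `G` counts the constituents of its restriction to `N`
having `K'` in the kernel. -/
theorem sumK_restrict {ψ : G → ℂ} (hψ : IsCharacter G ψ) :
    ∃ m : IrrCharacter N → ℕ,
      (∀ ζ : IrrCharacter N, classInner ψ (indFun N (ζ : N → ℂ)) = (m ζ : ℂ)) ∧
      sumK K' (fun x : N => ψ x) = (Nat.card K' : ℂ) *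
        ∑ ζ ∈ Finset.univ.filter
          (fun ζ : IrrCharacter N => K' ≤ Cfsg.Agent.Helper79.irrKer ζ), (m ζ : ℂ) := by
  have hres := isCharacter_restrict N hψ
  obtain ⟨m, hm⟩ := exists_nat_decomp hres
  refine ⟨m, ?_, ?_⟩
  · intro ζ
    rw [← restrict_inner_ind N (isClassFunction_of_isCharacter hψ) (ζ : N → ℂ), hm]
    exact classInner_nat_decomp (fun ζ => (m ζ : ℂ)) ζ
  · have h1 : (fun x : N => ψ x) =
        fun x => ∑ ζ ∈ (Finset.univ : Finset (IrrCharacter N)), (m ζ : ℂ) * (ζ : N → ℂ) x := by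
      rw [hm]
      funext x
      rw [Finset.sum_apply]
      apply Finset.sum_congr rfl
      intro ζ _
      rw [Pi.smul_apply, smul_eq_mul]
    rw [h1, sumK_sum]
    have h2 : ∀ ζ : IrrCharacter N, sumK K' (fun x => (m ζ : ℂ) * (ζ : N → ℂ) x) =
        if K' ≤ Cfsg.Agent.Helper79.irrKer ζ then (Nat.card K' : ℂ) * (m ζ : ℂ) else 0 := by
      intro ζ
      rw [sumK_mul_left]
      split_ifs with hζ
      · have hlin := irrelevant_linear K' hcomm ζ hζ
        rw [sumK_of_const K' (F := (ζ : N → ℂ)) (c := 1)]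
        · ring
        · intro k hk
          rw [(Cfsg.Agent.Helper79.mem_irrKer ζ k).1 (hζ hk), hlin]
      · rw [sumK_rel K' hC' ζ ((not_le_irrKer_iff K' ζ).1 hζ), mul_zero]
    rw [Finset.sum_congr rfl (fun ζ _ => h2 ζ), Finset.sum_ite, Finset.sum_const_zero, add_zero,
      Finset.mul_sum]

/-- multiplicities in the permutation character `1_N^G` of rank two. -/
theorem pi_mult (hpipi : classInner (indFun N (1 : N → ℂ)) (indFun N (1 : N → ℂ)) = 2) :
    ∃ n : IrrCharacter G → ℕ,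
      (∀ ψ : IrrCharacter G, classInner (indFun N (1 : N → ℂ)) (ψ : G → ℂ) = (n ψ : ℂ)) ∧
      ∑ ψ : IrrCharacter G, (n ψ) ^ 2 = 2 ∧
      ∀ ψ : IrrCharacter G, (ψ : G → ℂ) = (fun _ => 1) → n ψ = 1 := by
  have hπ : IsCharacter G (indFun N (1 : N → ℂ)) :=
    isCharacter_indFun N (IsIrrCharacter.isCharacter (isIrrCharacter_one (G := N)))
  obtain ⟨n, hn⟩ := exists_nat_decomp hπ
  have h1 : ∀ ψ : IrrCharacter G,
      classInner (indFun N (1 : N → ℂ)) (ψ : G → ℂ) = (n ψ : ℂ) := by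
    intro ψ
    have := classInner_nat_decomp (fun ζ => (n ζ : ℂ)) ψ
    rw [← hn] at this
    exact this
  refine ⟨n, h1, ?_, ?_⟩
  · have h2 : classInner (indFun N (1 : N → ℂ)) (indFun N (1 : N → ℂ)) =
        ∑ ψ : IrrCharacter G, (n ψ : ℂ) * (n ψ : ℂ) := by
      have h3 : classInner (indFun N (1 : N → ℂ)) (indFun N (1 : N → ℂ)) =
          classInner (∑ χ : IrrCharacter G, (n χ : ℂ) • (χ : G → ℂ)) (indFun N (1 : N → ℂ)) :=
        congrArg (fun F => classInner F (indFun N (1 : N → ℂ))) hn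
      rw [h3, classInner_sum_left]
      apply Finset.sum_congr rfl
      intro ψ _
      rw [classInner_smul_left, classInner_conj_symm (indFun N (1 : N → ℂ)) (ψ : G → ℂ), h1 ψ,
        Complex.conj_natCast]
    rw [hpipi] at h2
    have h4 : ((∑ ψ : IrrCharacter G, (n ψ) ^ 2 : ℕ) : ℂ) = ((2 : ℕ) : ℂ) := by
      push_cast
      rw [h2]
      apply Finset.sum_congr rfl
      intro ψ _
      ring
    exact_mod_cast h4
  · intro ψ hψ
    have h5 := h1 ψ
    rw [hψ, frobenius_reciprocity N (1 : N → ℂ) (χ := fun _ : G => (1 : ℂ)) (fun _ _ => rfl)] at h5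
    have h6 : classInner (1 : N → ℂ) (fun _ : N => (1 : ℂ)) = 1 := by
      have := irr_orthonormal (isIrrCharacter_one (G := N)) (isIrrCharacter_one (G := N))
      rw [if_pos rfl] at this
      exact this
    rw [h6] at h5
    exact_mod_cast h5.symm

/-- three distinct constituents are impossible. -/
theorem pi_three {n : IrrCharacter G → ℕ} (hsum : ∑ ψ : IrrCharacter G, (n ψ) ^ 2 = 2)
    {ψ₁ ψ₂ ψ₃ : IrrCharacter G} (h12 : ψ₁ ≠ ψ₂) (h13 : ψ₁ ≠ ψ₃) (h23 : ψ₂ ≠ ψ₃)
    (h1 : n ψ₁ ≠ 0) (h2 : n ψ₂ ≠ 0) (h3 : n ψ₃ ≠ 0) : False := by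
  classical
  have hsub : ({ψ₁, ψ₂, ψ₃} : Finset (IrrCharacter G)) ⊆ Finset.univ := Finset.subset_univ _
  have hle := Finset.sum_le_sum_of_subset (f := fun ψ => (n ψ) ^ 2) hsub
  rw [hsum, Finset.sum_insert (by simp [h12, h13]), Finset.sum_insert (by simp [h23]),
    Finset.sum_singleton] at hle
  have e1 : 1 ≤ n ψ₁ ^ 2 := Nat.one_le_pow _ _ (Nat.pos_of_ne_zero h1)
  have e2 : 1 ≤ n ψ₂ ^ 2 := Nat.one_le_pow _ _ (Nat.pos_of_ne_zero h2)
  have e3 : 1 ≤ n ψ₃ ^ 2 := Nat.one_le_pow _ _ (Nat.pos_of_ne_zero h3)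
  omega

end Cfsg.Agent.Helper4.ZassFeitC
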