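import Mathlib
import Cfsg.Prelude.Def_Characters
import Cfsg.Prelude.Def_LieExceptional
import Cfsg.Agent.S0739
import Cfsg.Agent.Lib.Helper19.ZassD
import Cfsg.Agent.Lib.Helper15.LinearHom
import Cfsg.Agent.Lib.Helper15.NormOne

set_option autoImplicit false

/-! Simple Zassenhaus groups with odd two-point stabiliser: a non-trivial linear character of the
point stabiliser that is trivial on the Frobenius kernel induces irreducibly. -/

namespace Cfsg.Agent.Helper4.Zass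

open MulAction Cfsg
open scoped ComplexConjugate

section analytic

theorem unit_mul_conj {P : Type*} [Group P] [Finite P] (ν : P →* ℂˣ) (p : P) :
    (ν p : ℂ) * conj (ν p : ℂ) = 1 := by
  have h1 : (ν p : ℂ) ^ Nat.card P = 1 := by
    rw [← Units.val_pow_eq_pow_val, ← map_pow, pow_card_eq_one', map_one, Units.val_one]
  have h2 : ‖(ν p : ℂ)‖ = 1 := Complex.norm_eq_one_of_pow_eq_one h1 Nat.card_pos.ne'
  rw [Complex.mul_conj, Complex.normSq_eq_norm_sq, h2]
  norm_num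

theorem conj_unit_inv {P : Type*} [Group P] [Finite P] (ν : P →* ℂˣ) (p : P) :
    conj (((ν p)⁻¹ : ℂˣ) : ℂ) = (ν p : ℂ) := by
  have h1 := unit_mul_conj ν p⁻¹
  rw [map_inv] at h1
  have h2 : (((ν p)⁻¹ : ℂˣ) : ℂ) * (ν p : ℂ) = 1 := by
    rw [← Units.val_mul, inv_mul_cancel, Units.val_one]
  have h3 : (((ν p)⁻¹ : ℂˣ) : ℂ) ≠ 0 := Units.ne_zero _
  exact mul_left_cancel₀ h3 (h1.trans h2.symm)

theorem sq_ne_one_of_odd {P : Type*} [Group P] [Finite P] (ν : P →* ℂˣ) (d : P) (n : ℕ)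
    (hn : Odd n) (hd : d ^ n = 1) (h1 : ν d ≠ 1) :
    (ν d : ℂ) * conj (((ν d)⁻¹ : ℂˣ) : ℂ) ≠ 1 := by
  rw [conj_unit_inv]
  intro h
  apply h1
  have h2 : ν d * ν d = 1 := Units.ext (by rw [Units.val_mul, h, Units.val_one])
  obtain ⟨k, rfl⟩ := hn
  have h3 : (ν d) ^ (2 * k + 1) = 1 := by rw [← map_pow, hd, map_one]
  rw [pow_succ, pow_mul, pow_two, h2, one_pow, one_mul] at h3
  exact h3

theorem sum_ite_mem {G : Type*} [Group G] [Fintype G] (P : Subgroup G) [DecidablePred (· ∈ P)]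
    (c : ℂ) : ∑ x : G, (if x ∈ P then c else 0) = (Nat.card P : ℂ) * c := by
  rw [Finset.sum_ite, Finset.sum_const_zero, add_zero, Finset.sum_const, nsmul_eq_mul,
    Nat.card_eq_fintype_card, Fintype.card_subtype]

theorem extendByZero_mul_left {G : Type*} [Group G] (P : Subgroup G) (ν : P →* ℂˣ) {g : G}
    (hg : g ∈ P) (y : G) :
    extendByZero P (fun p => (ν p : ℂ)) (g * y)
      = (ν ⟨g, hg⟩ : ℂ) * extendByZero P (fun p => (ν p : ℂ)) y := by
  by_cases hy : y ∈ P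
  · rw [Cfsg.Agent.Helper81.extendByZero_apply_mem P _ (P.mul_mem hg hy),
      Cfsg.Agent.Helper81.extendByZero_apply_mem P _ hy]
    have : (⟨g * y, P.mul_mem hg hy⟩ : P) = ⟨g, hg⟩ * ⟨y, hy⟩ := rfl
    rw [this, map_mul, Units.val_mul]
  · have : g * y ∉ P := fun h => hy (by simpa using P.mul_mem (P.inv_mem hg) h)
    rw [Cfsg.Agent.Helper81.extendByZero_apply_not_mem P _ this,
      Cfsg.Agent.Helper81.extendByZero_apply_not_mem P _ hy, mul_zero]

/-- Mackey-type irreducibility criterion for an induced linear character. -/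
theorem classInner_indFun_lin {G : Type*} [Group G] [Fintype G] (P : Subgroup G) [Fintype P]
    (ν : P →* ℂˣ)
    (hkey : ∀ x : G, x ∉ P → ∃ d : P, ∃ h : x⁻¹ * (d : G) * x ∈ P,
      (ν d : ℂ) * conj (ν ⟨x⁻¹ * (d : G) * x, h⟩ : ℂ) ≠ 1) :
    classInner (indFun P (fun p => (ν p : ℂ))) (indFun P (fun p => (ν p : ℂ))) = 1 := by
  classical
  set μ : P → ℂ := fun p => (ν p : ℂ) with hμdef
  rw [Cfsg.Agent.Helper81.frobenius_reciprocity P μ (Cfsg.Agent.Helper81.indFun_isClassFunction P μ)]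
  unfold classInner
  simp only [Cfsg.Agent.Helper81.indFun_apply]
  have hP : (Nat.card P : ℂ) ≠ 0 := by exact_mod_cast (Nat.card_pos (α := P)).ne'
  have hT : ∀ x : G, ∑ p : P, μ p * conj (extendByZero P μ (x⁻¹ * (p : G) * x))
      = if x ∈ P then (Nat.card P : ℂ) else 0 := by
    intro x
    split_ifs with hx
    · have hterm : ∀ p : P, μ p * conj (extendByZero P μ (x⁻¹ * (p : G) * x)) = 1 := by
        intro p
        have hmem : x⁻¹ * (p : G) * x ∈ P := P.mul_mem (P.mul_mem (P.inv_mem hx) p.2) hx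
        rw [Cfsg.Agent.Helper81.extendByZero_apply_mem P _ hmem]
        have : (⟨x⁻¹ * (p : G) * x, hmem⟩ : P) = (⟨x, hx⟩ : P)⁻¹ * p * ⟨x, hx⟩ := rfl
        rw [this]
        show (ν p : ℂ) * conj (ν ((⟨x, hx⟩ : P)⁻¹ * p * ⟨x, hx⟩) : ℂ) = 1
        rw [map_mul, map_mul, map_inv, mul_comm _ (ν ⟨x, hx⟩), mul_inv_cancel_left]
        exact unit_mul_conj ν p
      rw [Finset.sum_congr rfl (fun p _ => hterm p), Finset.sum_const, Finset.card_univ,
        nsmul_eq_mul, mul_one, Nat.card_eq_fintype_card]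
    · obtain ⟨d, h, hne⟩ := hkey x hx
      set S := ∑ p : P, μ p * conj (extendByZero P μ (x⁻¹ * (p : G) * x)) with hS
      have hshift : S = ((ν d : ℂ) * conj (ν ⟨x⁻¹ * (d : G) * x, h⟩ : ℂ)) * S := by
        rw [hS, Finset.mul_sum, ← Equiv.sum_comp (Equiv.mulLeft d)]
        refine Finset.sum_congr rfl fun p _ => ?_
        simp only [Equiv.coe_mulLeft]
        have e1 : x⁻¹ * ((d * p : P) : G) * x = (x⁻¹ * (d : G) * x) * (x⁻¹ * (p : G) * x) := by
          rw [Subgroup.coe_mul]; group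
        rw [e1, extendByZero_mul_left P ν h, map_mul (starRingEnd ℂ)]
        show (ν (d * p) : ℂ) * _ = _
        rw [map_mul, Units.val_mul]
        ring
      have h0 : (1 - (ν d : ℂ) * conj (ν ⟨x⁻¹ * (d : G) * x, h⟩ : ℂ)) * S = 0 := by
        rw [sub_mul, one_mul, ← hshift, sub_self]
      rcases mul_eq_zero.mp h0 with h1 | h1
      · exact absurd (sub_eq_zero.mp h1).symm hne
      · exact h1
  have h1 : ∀ p : P, μ p * conj ((Nat.card P : ℂ)⁻¹ * ∑ x : G, extendByZero P μ (x⁻¹ * (p : G) * x))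
      = (Nat.card P : ℂ)⁻¹ * ∑ x : G, μ p * conj (extendByZero P μ (x⁻¹ * (p : G) * x)) := by
    intro p
    rw [map_mul, map_inv₀, Complex.conj_natCast, map_sum, mul_left_comm, Finset.mul_sum]
  rw [Finset.sum_congr rfl (fun p _ => h1 p), ← Finset.mul_sum, Finset.sum_comm,
    Finset.sum_congr rfl (fun x _ => hT x), sum_ite_mem]
  field_simp

end analytic

section group

variable {G Ω : Type*} [Group G] [Finite G] [MulAction G Ω] [Fintype Ω]

/-- A simple Zassenhaus group has no normal `q`-complements. -/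
theorem hnil_of_simple (hZ : IsZassenhausGroup G Ω) [IsSimpleGroup G] {a b : Ω} (hab : a ≠ b)
    {H : Subgroup G} (hHa : H ≤ stabilizer G a) (hHcard : Nat.card H + 1 = Fintype.card Ω)
    (hHfix : ∀ u ∈ H, u ≠ 1 → ∀ c : Ω, u • c = c → c = a) :
    ∀ q : ℕ, q.Prime → q ∣ Nat.card ↥(stabilizer G a ⊓ stabilizer G b) →
      ¬ ∃ N : Subgroup G, N.Normal ∧ N.index = q ^ (Nat.card G).factorization q := by
  rintro q hq hqe ⟨N, hN, hidx⟩
  have hcard := Cfsg.Agent.Helper19.ZassD.card_G hZ hHa hHcard hHfix hab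
  have hqG : q ∣ Nat.card G := hqe.trans (Subgroup.card_subgroup_dvd_card _)
  have hk : 1 ≤ (Nat.card G).factorization q :=
    (hq.dvd_iff_one_le_factorization Nat.card_pos.ne').mp hqG
  have hN1 : N ≠ ⊤ := by
    intro h
    rw [h, Subgroup.index_top] at hidx
    have : 1 < q ^ (Nat.card G).factorization q := Nat.one_lt_pow (by omega) hq.one_lt
    omega
  have hN0 : N = ⊥ := (hN.eq_bot_or_eq_top).resolve_right hN1
  rw [hN0, Subgroup.index_bot] at hidx
  obtain ⟨k, hk'⟩ : ∃ k, Nat.card G = q ^ k := ⟨_, hidx⟩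
  have h3 := Cfsg.Agent.S0878.card_ge_three hZ
  have hh : 2 ≤ Nat.card H := by omega
  have h1 : Nat.card H ∣ q ^ k := by
    rw [← hk', hcard]
    exact ⟨(Nat.card H + 1) * Nat.card ↥(stabilizer G a ⊓ stabilizer G b), by ring⟩
  have h2 : Nat.card H + 1 ∣ q ^ k := by
    rw [← hk', hcard]
    exact Dvd.intro _ rfl
  obtain ⟨i, -, hi⟩ := (Nat.dvd_prime_pow hq).mp h1
  obtain ⟨j, -, hj⟩ := (Nat.dvd_prime_pow hq).mp h2
  have hi0 : i ≠ 0 := by
    rintro rfl
    rw [pow_zero] at hi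
    omega
  have hj0 : j ≠ 0 := by
    rintro rfl
    rw [pow_zero] at hj
    omega
  have hd1 : q ∣ Nat.card H := by rw [hi]; exact dvd_pow_self q hi0
  have hd2 : q ∣ Nat.card H + 1 := by rw [hj]; exact dvd_pow_self q hj0
  have hd3 : q ∣ 1 := (Nat.dvd_add_right hd1).mp hd2
  exact hq.one_lt.ne' (Nat.dvd_one.mp hd3)

variable {a : Ω} {H : Subgroup G}

/-- A non-trivial linear character trivial on `H` is non-trivial on every two-point stabiliser. -/
theorem exists_D_ne (hHa : H ≤ stabilizer G a) (hHcard : Nat.card H + 1 = Fintype.card Ω)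
    (hHfix : ∀ u ∈ H, u ≠ 1 → ∀ c : Ω, u • c = c → c = a) {c : Ω} (hc : c ≠ a)
    (ν : stabilizer G a →* ℂˣ) (hνH : ∀ u : stabilizer G a, (u : G) ∈ H → ν u = 1)
    (hν : ν ≠ 1) : ∃ d : stabilizer G a, (d : G) • c = c ∧ ν d ≠ 1 := by
  by_contra hcon
  push Not at hcon
  apply hν
  ext p
  obtain ⟨u, hu, d, hd, hg⟩ := Cfsg.Agent.Helper19.ZassH.stab_decomp hHa hHcard hHfix hc p.2
  have hd' := Subgroup.mem_inf.mp hd
  have hp : p = (⟨u, hHa hu⟩ : stabilizer G a) * ⟨d, hd'.1⟩ := Subtype.ext hg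
  rw [hp, map_mul, hνH ⟨u, hHa hu⟩ hu, hcon ⟨d, hd'.1⟩ hd'.2, one_mul]
  rfl

/-- Conjugating an element of a two-point stabiliser `G_{a,c}` by `x` with `x • a = c` inverts the
value of a linear character of `G_a`. -/
theorem nu_conj_eq_inv (hZ : IsZassenhausGroup G Ω) [IsSimpleGroup G] {b : Ω} (hab : a ≠ b)
    (hodd : Odd (Nat.card ↥(stabilizer G a ⊓ stabilizer G b)))
    (hHa : H ≤ stabilizer G a) (hHcard : Nat.card H + 1 = Fintype.card Ω)
    (hHfix : ∀ u ∈ H, u ≠ 1 → ∀ c : Ω, u • c = c → c = a)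
    (ν : stabilizer G a →* ℂˣ) {x : G} {c : Ω} (hxc : x • a = c) (hca : c ≠ a)
    (d : stabilizer G a) (hd : (d : G) • c = c) :
    ∃ h : x⁻¹ * (d : G) * x ∈ stabilizer G a, ν ⟨x⁻¹ * (d : G) * x, h⟩ = (ν d)⁻¹ := by
  have hac : a ≠ c := Ne.symm hca
  have h2 := hZ.2.1
  obtain ⟨s, hsa, hsc⟩ := Cfsg.Agent.Helper19.ZassH.two_trans' h2 hac hac.symm
  have hodd' : Odd (Nat.card ↥(stabilizer G a ⊓ stabilizer G c)) := by
    rw [Cfsg.Agent.Helper19.ZassH.card_stab_inf_eq h2 hab hac]; exact hodd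
  have hnil := hnil_of_simple hZ hac hHa hHcard hHfix
  have hinv := (Cfsg.Agent.S0739.result hZ hac hodd' hnil).2.2 s⁻¹
    (by rw [inv_smul_eq_iff, hsc]) (by rw [inv_smul_eq_iff, hsa]) (d : G)
    (Subgroup.mem_inf.mpr ⟨d.2, hd⟩)
  rw [inv_inv] at hinv
  have hq : s⁻¹ * x ∈ stabilizer G a := by
    rw [mem_stabilizer_iff, mul_smul, hxc, inv_smul_eq_iff, hsa]
  have hmem : x⁻¹ * (d : G) * x ∈ stabilizer G a := by
    rw [mem_stabilizer_iff, mul_smul, mul_smul, hxc, hd, inv_smul_eq_iff, hxc]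
  refine ⟨hmem, ?_⟩
  have heq : (⟨x⁻¹ * (d : G) * x, hmem⟩ : stabilizer G a)
      = (⟨s⁻¹ * x, hq⟩ : stabilizer G a)⁻¹ * d⁻¹ * ⟨s⁻¹ * x, hq⟩ := by
    apply Subtype.ext
    simp only [Subgroup.coe_mul, Subgroup.coe_inv]
    rw [← hinv]
    group
  rw [heq, map_mul, map_mul, map_inv, map_inv, mul_comm, mul_inv_cancel_left]

/-- The hypothesis of the Mackey criterion. -/
theorem key (hZ : IsZassenhausGroup G Ω) [IsSimpleGroup G] {b : Ω} (hab : a ≠ b)
    (hodd : Odd (Nat.card ↥(stabilizer G a ⊓ stabilizer G b)))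
    (hHa : H ≤ stabilizer G a) (hHcard : Nat.card H + 1 = Fintype.card Ω)
    (hHfix : ∀ u ∈ H, u ≠ 1 → ∀ c : Ω, u • c = c → c = a)
    (ν : stabilizer G a →* ℂˣ) (hνH : ∀ u : stabilizer G a, (u : G) ∈ H → ν u = 1)
    (hν : ν ≠ 1) (x : G) (hx : x ∉ stabilizer G a) :
    ∃ d : stabilizer G a, ∃ h : x⁻¹ * (d : G) * x ∈ stabilizer G a,
      (ν d : ℂ) * conj (ν ⟨x⁻¹ * (d : G) * x, h⟩ : ℂ) ≠ 1 := by
  have hxa : x • a ≠ a := hx
  obtain ⟨d, hdc, hd1⟩ := exists_D_ne hHa hHcard hHfix hxa ν hνH hν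
  obtain ⟨h, hinv⟩ := nu_conj_eq_inv hZ hab hodd hHa hHcard hHfix ν rfl hxa d hdc
  refine ⟨d, h, ?_⟩
  rw [hinv]
  have h2 := hZ.2.1
  have hodd' : Odd (Nat.card ↥(stabilizer G a ⊓ stabilizer G (x • a))) := by
    rw [Cfsg.Agent.Helper19.ZassH.card_stab_inf_eq h2 hab (Ne.symm hxa)]; exact hodd
  have hmem : (d : G) ∈ stabilizer G a ⊓ stabilizer G (x • a) := Subgroup.mem_inf.mpr ⟨d.2, hdc⟩
  have hdvd : orderOf (d : G) ∣ Nat.card ↥(stabilizer G a ⊓ stabilizer G (x • a)) :=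
    Subgroup.orderOf_dvd_natCard _ hmem
  have hoddn : Odd (orderOf (d : G)) := Odd.of_dvd_nat hodd' hdvd
  have hpow : d ^ orderOf (d : G) = 1 := by
    apply Subtype.ext
    rw [Subgroup.coe_pow, pow_orderOf_eq_one, Subgroup.coe_one]
  exact sq_ne_one_of_odd ν d _ hoddn hpow hd1

end group

section values

variable {G Ω : Type*} [Group G] [Fintype G] [MulAction G Ω] [Fintype Ω]

/-- The induced function takes the value `1` on the non-identity elements of `H`. -/
theorem indFun_eq_one (hZ : IsZassenhausGroup G Ω) {a : Ω} {H : Subgroup G}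
    (hHa : H ≤ stabilizer G a) (hHcard : Nat.card H + 1 = Fintype.card Ω)
    (hHfix : ∀ u ∈ H, u ≠ 1 → ∀ c : Ω, u • c = c → c = a)
    (μ : stabilizer G a → ℂ) (hμH : ∀ u : stabilizer G a, (u : G) ∈ H → μ u = 1)
    {u : G} (hu : u ∈ H) (hu1 : u ≠ 1) : indFun (stabilizer G a) μ u = 1 := by
  classical
  rw [Cfsg.Agent.Helper81.indFun_apply]
  have hterm : ∀ x : G, extendByZero (stabilizer G a) μ (x⁻¹ * u * x)
      = if x ∈ stabilizer G a then 1 else 0 := by
    intro x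
    split_ifs with hx
    · have hmem : x⁻¹ * u * x ∈ H := by
        have := Cfsg.Agent.Helper19.ZassH.H_conj_mem hZ hHa hHcard hHfix
          ((stabilizer G a).inv_mem hx) hu
        simpa using this
      rw [Cfsg.Agent.Helper81.extendByZero_apply_mem _ _ (hHa hmem)]
      exact hμH _ hmem
    · apply Cfsg.Agent.Helper81.extendByZero_apply_not_mem
      intro hmem
      apply hx
      have h1 : u • (x • a) = x • a := by
        have := mem_stabilizer_iff.mp hmem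
        rw [mul_smul, mul_smul, inv_smul_eq_iff] at this
        exact this
      exact hHfix u hu hu1 _ h1
  rw [Finset.sum_congr rfl (fun x _ => hterm x), sum_ite_mem, mul_one]
  have hP : (Nat.card (stabilizer G a) : ℂ) ≠ 0 := by
    exact_mod_cast (Nat.card_pos (α := stabilizer G a)).ne'
  exact inv_mul_cancel₀ hP

end values

end Cfsg.Agent.Helper4.Zass
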