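import Mathlib
import Cfsg.Agent.S0881
import Cfsg.Agent.Lib.Helper4.ZassFeitC
import Cfsg.Agent.Lib.Helper12.ZassFeitGT
import Cfsg.Agent.Lib.Helper19.ZassClasses
import Cfsg.Agent.Lib.Helper81.PermChar

/-!
# Feit's bound for simple Zassenhaus groups with abelian kernel: the instantiation (helper4)

`bound_of_core` derives the bound `|Ω| - 2 ≤ 2 |G_ab|` from the abstract character-theoretic
core statement (`CoreStatement`, proved by helper82), by checking its hypotheses in the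
Zassenhaus setting with `K := H` and `N := G_a`.
-/

set_option autoImplicit false
set_option linter.style.haveILetI false
set_option linter.unusedSectionVars false
set_option linter.unusedVariables false

namespace Cfsg.Agent.Helper4.ZassFeitInst

open Cfsg MulAction Cfsg.Agent.Helper81
open scoped ComplexConjugate

universe u v

/-- The abstract character-theoretic core (the statement of
`Cfsg.Agent.Helper82.ZassFeitAbel.core`). -/
def CoreStatement : Prop :=
  ∀ {G : Type u} [Group G] [Fintype G] (K N : Subgroup G) [Fintype N]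
    (_hN : Subgroup.normalizer (K : Set G) = N)
    (_hTI : ∀ g : G, g ∉ N → ∀ k ∈ K, g * k * g⁻¹ ∈ K → k = 1)
    (_hlt : K < N)
    (_hC : ∀ k ∈ K, k ≠ 1 → Subgroup.centralizer ({k} : Set G) ≤ K)
    (_hab : ∀ a ∈ K, ∀ b ∈ K, a * b = b * a)
    (_hlin : ∀ ζ : N → ℂ, Cfsg.IsIrrCharacter N ζ →
      (∀ k : N, (k : G) ∈ K → ζ k = ζ 1) → ζ 1 = 1)
    (_hInd : ∀ ζ : N → ℂ, Cfsg.IsCharacter N ζ → ζ 1 = 1 →
      (∀ k : N, (k : G) ∈ K → ζ k = 1) → ζ ≠ (fun _ => 1) →
      Cfsg.IsIrrCharacter G (Cfsg.indFun N ζ) ∧ ∀ k ∈ K, k ≠ 1 → Cfsg.indFun N ζ k = 1)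
    (_hperm : ∃ χ₀ : G → ℂ, Cfsg.IsIrrCharacter G χ₀ ∧
      (∀ g, Cfsg.indFun N (fun _ : N => (1 : ℂ)) g = 1 + χ₀ g) ∧ ∀ k ∈ K, k ≠ 1 → χ₀ k = 0)
    (_hcls : K.relIndex N ≤
      Nat.card {C : ConjClasses G // ∀ g : G, ConjClasses.mk g = C → g ∉ K})
    (_hidx : N.index = Nat.card K + 1)
    (_hbig : 2 * K.relIndex N + 1 < Nat.card K), False

section orbits

variable {G : Type u} {Ω : Type v} [Group G] [MulAction G Ω]

/-- The point stabiliser of a 2-transitive group has exactly two orbits. -/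
theorem card_orbits_stab (h2 : IsMultiplyPretransitive G Ω 2) {a b : Ω} (hab : a ≠ b) :
    Nat.card (Quotient (MulAction.orbitRel (stabilizer G a) Ω)) = 2 := by
  classical
  let f : Quotient (MulAction.orbitRel (stabilizer G a) Ω) → Bool :=
    Quotient.lift (fun x => decide (x = a)) (by
      intro x y hxy
      obtain ⟨n, hn⟩ := MulAction.orbitRel_apply.mp hxy
      have hn' : (n : G) • y = x := hn
      have hna : (n : G) • a = a := n.2
      apply decide_eq_decide.mpr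
      constructor
      · intro hx
        rw [hx] at hn'
        exact smul_left_cancel (n : G) (hn'.trans hna.symm)
      · intro hy
        rw [hy, hna] at hn'
        exact hn'.symm)
  have hbij : Function.Bijective f := by
    constructor
    · intro q₁ q₂
      induction q₁ using Quotient.inductionOn with
      | h x =>
        induction q₂ using Quotient.inductionOn with
        | h y =>
          intro hxy
          have hxy' : (x = a ↔ y = a) := decide_eq_decide.mp hxy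
          apply Quotient.sound
          apply MulAction.orbitRel_apply.mpr
          by_cases hx : x = a
          · have hy := hxy'.mp hx
            rw [hx, hy]
            exact MulAction.mem_orbit_self _
          · have hy : y ≠ a := fun h => hx (hxy'.mpr h)
            obtain ⟨g, hga, hgy⟩ :=
              Cfsg.Agent.Helper19.ZassH.two_trans' h2 (Ne.symm hy) (Ne.symm hx)
            exact ⟨⟨g, hga⟩, hgy⟩
    · intro c
      cases c
      · refine ⟨Quotient.mk _ b, ?_⟩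
        change decide (b = a) = false
        exact decide_eq_false (Ne.symm hab)
      · refine ⟨Quotient.mk _ a, ?_⟩
        change decide (a = a) = true
        exact decide_eq_true rfl
  rw [Nat.card_congr (Equiv.ofBijective f hbij), Nat.card_eq_fintype_card, Fintype.card_bool]

end orbits

section fintype

variable {G : Type u} {Ω : Type v} [Group G] [Fintype G] [MulAction G Ω] [Fintype Ω]

/-- the permutation character of a Zassenhaus group is `1 + χ₀` with `χ₀` irreducible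
vanishing on the non-identity elements of the kernel `H`. -/
theorem perm_char (hZ : IsZassenhausGroup G Ω) {a b : Ω} (hab : a ≠ b) {H : Subgroup G}
    (hHa : H ≤ stabilizer G a) (hHcard : Nat.card H + 1 = Fintype.card Ω)
    (hHfix : ∀ u ∈ H, u ≠ 1 → ∀ c : Ω, u • c = c → c = a) :
    ∃ χ₀ : G → ℂ, IsIrrCharacter G χ₀ ∧
      (∀ g, indFun (stabilizer G a) (fun _ : stabilizer G a => (1 : ℂ)) g = 1 + χ₀ g) ∧
      ∀ k ∈ H, k ≠ 1 → χ₀ k = 0 := by
  classical
  haveI : Fintype (stabilizer G a) := Fintype.ofFinite _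
  haveI : IsPretransitive G Ω := ⟨Cfsg.Agent.Helper96.zass_trans hZ⟩
  have hpipi : classInner (indFun (stabilizer G a) (1 : stabilizer G a → ℂ))
      (indFun (stabilizer G a) (1 : stabilizer G a → ℂ)) = 2 := by
    rw [classInner_indFun_stabilizer_one a, card_orbits_stab hZ.2.1 hab]
    norm_num
  obtain ⟨n, hn1, hn2, hn3⟩ := Cfsg.Agent.Helper4.ZassFeitC.pi_mult (stabilizer G a) hpipi
  let τ : IrrCharacter G := ⟨fun _ => 1, isIrrCharacter_one⟩
  have hτ : n τ = 1 := hn3 τ rfl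
  have h1 : ∑ ψ ∈ Finset.univ.erase τ, (n ψ) ^ 2 = 1 := by
    have := Finset.add_sum_erase Finset.univ (fun ψ => (n ψ) ^ 2) (Finset.mem_univ τ)
    rw [hn2, hτ] at this
    omega
  have h2 : ∃ ψ₀ ∈ Finset.univ.erase τ, n ψ₀ ≠ 0 := by
    by_contra hcon
    push Not at hcon
    rw [Finset.sum_eq_zero (fun ψ hψ => by rw [hcon ψ hψ]; rfl)] at h1
    omega
  obtain ⟨ψ₀, hψ₀, hnψ₀⟩ := h2
  have hψ₀τ : ψ₀ ≠ τ := Finset.ne_of_mem_erase hψ₀
  have h3 : ∀ ψ, ψ ≠ τ → ψ ≠ ψ₀ → n ψ = 0 := by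
    intro ψ hψτ hψψ₀
    by_contra hne
    exact Cfsg.Agent.Helper4.ZassFeitC.pi_three hn2 (ψ₁ := τ) (ψ₂ := ψ₀) (ψ₃ := ψ)
      (Ne.symm hψ₀τ) (Ne.symm hψτ) (Ne.symm hψψ₀) (by rw [hτ]; exact one_ne_zero) hnψ₀ hne
  have h4 : n ψ₀ = 1 := by
    have := Finset.add_sum_erase (Finset.univ.erase τ) (fun ψ => (n ψ) ^ 2) hψ₀
    rw [h1] at this
    have h5 : n ψ₀ ^ 2 ≤ 1 := by
      have : n ψ₀ ^ 2 ≤ n ψ₀ ^ 2 + ∑ x ∈ (Finset.univ.erase τ).erase ψ₀, n x ^ 2 :=
        Nat.le_add_right _ _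
      omega
    have h6 : n ψ₀ ≤ 1 := by
      by_contra h7
      have : 2 ≤ n ψ₀ := by omega
      nlinarith
    omega
  have hexp := class_function_expansion
    (f := indFun (stabilizer G a) (1 : stabilizer G a → ℂ)) (indFun_isClassFunction _ _)
  have hval : ∀ g : G, indFun (stabilizer G a) (1 : stabilizer G a → ℂ) g
      = 1 + (ψ₀ : G → ℂ) g := by
    intro g
    have hg : indFun (stabilizer G a) (1 : stabilizer G a → ℂ) g =
        ∑ ψ : IrrCharacter G, (n ψ : ℂ) * (ψ : G → ℂ) g := by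
      have := congrFun hexp g
      rw [Finset.sum_apply] at this
      refine this.trans ?_
      apply Finset.sum_congr rfl
      intro ψ _
      rw [Pi.smul_apply, smul_eq_mul, hn1 ψ]
    rw [hg, ← Finset.add_sum_erase Finset.univ _ (Finset.mem_univ τ),
      ← Finset.add_sum_erase (Finset.univ.erase τ) _ hψ₀, Finset.sum_eq_zero, hτ, h4]
    · simp [τ]
    · intro ψ hψ
      have h5 := Finset.ne_of_mem_erase hψ
      have h6 := Finset.ne_of_mem_erase (Finset.mem_of_mem_erase hψ)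
      rw [h3 ψ h6 h5]
      simp
  refine ⟨(ψ₀ : G → ℂ), ψ₀.2, hval, ?_⟩
  intro k hk hk1
  have h5 := hval k
  have h6 := Cfsg.Agent.Helper4.Zass.indFun_eq_one hZ hHa hHcard hHfix
    (fun _ : stabilizer G a => (1 : ℂ)) (fun _ _ => rfl) hk hk1
  change indFun (stabilizer G a) (1 : stabilizer G a → ℂ) k = 1 at h6
  rw [h6] at h5
  linear_combination -h5

end fintype

section main

variable {G : Type u} {Ω : Type v} [Group G] [Finite G] [MulAction G Ω] [Fintype Ω]

/-- `G_a / H` is commutative. -/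
theorem comm_mod_H [IsSimpleGroup G] (hZ : IsZassenhausGroup G Ω) {a b : Ω} (hab : a ≠ b)
    (hodd : Odd (Nat.card ↥(stabilizer G a ⊓ stabilizer G b : Subgroup G)))
    {H : Subgroup G} (hHa : H ≤ stabilizer G a) (hHcard : Nat.card H + 1 = Fintype.card Ω)
    (hHfix : ∀ u ∈ H, u ≠ 1 → ∀ c : Ω, u • c = c → c = a)
    (x y : stabilizer G a) : x * y * x⁻¹ * y⁻¹ ∈ H.subgroupOf (stabilizer G a) := by
  haveI := Cfsg.Agent.Helper19.ZassD.H_normal hZ hHa hHcard hHfix
  have hnil := Cfsg.Agent.Helper4.Zass.hnil_of_simple hZ hab hHa hHcard hHfix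
  have hDc := Cfsg.Agent.Helper19.ZassD.D_comm hZ hHa hHcard hHfix hab hodd hnil
  obtain ⟨u₁, hu₁, d₁, hd₁, hx⟩ :=
    Cfsg.Agent.Helper19.ZassH.stab_decomp hHa hHcard hHfix hab.symm (g := (x : G)) x.2
  obtain ⟨u₂, hu₂, d₂, hd₂, hy⟩ :=
    Cfsg.Agent.Helper19.ZassH.stab_decomp hHa hHcard hHfix hab.symm (g := (y : G)) y.2
  set U₁ : stabilizer G a := ⟨u₁, hHa hu₁⟩ with hU₁
  set U₂ : stabilizer G a := ⟨u₂, hHa hu₂⟩ with hU₂
  set D₁ : stabilizer G a := ⟨d₁, (Subgroup.mem_inf.mp hd₁).1⟩ with hD₁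
  set D₂ : stabilizer G a := ⟨d₂, (Subgroup.mem_inf.mp hd₂).1⟩ with hD₂
  have hx' : x = U₁ * D₁ := Subtype.ext hx
  have hy' : y = U₂ * D₂ := Subtype.ext hy
  have hU₁K : (U₁ : stabilizer G a ⧸ H.subgroupOf (stabilizer G a)) = 1 :=
    (QuotientGroup.eq_one_iff U₁).mpr (Subgroup.mem_subgroupOf.mpr hu₁)
  have hU₂K : (U₂ : stabilizer G a ⧸ H.subgroupOf (stabilizer G a)) = 1 :=
    (QuotientGroup.eq_one_iff U₂).mpr (Subgroup.mem_subgroupOf.mpr hu₂)
  have hDD : D₁ * D₂ = D₂ * D₁ := Subtype.ext (hDc d₁ hd₁ d₂ hd₂)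
  rw [← QuotientGroup.eq_one_iff]
  have hqx : (x : stabilizer G a ⧸ H.subgroupOf (stabilizer G a)) = D₁ := by
    rw [hx', QuotientGroup.mk_mul, hU₁K, one_mul]
  have hqy : (y : stabilizer G a ⧸ H.subgroupOf (stabilizer G a)) = D₂ := by
    rw [hy', QuotientGroup.mk_mul, hU₂K, one_mul]
  rw [QuotientGroup.mk_mul, QuotientGroup.mk_mul, QuotientGroup.mk_mul, QuotientGroup.mk_inv,
    QuotientGroup.mk_inv, hqx, hqy, ← QuotientGroup.mk_mul, hDD, QuotientGroup.mk_mul]
  group

/-- Feit's bound from the abstract core. -/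
theorem bound_of_core (hcore : CoreStatement.{u}) [IsSimpleGroup G]
    (hZ : Cfsg.IsZassenhausGroup G Ω) {a b : Ω} (hab : a ≠ b)
    (hodd : Odd (Nat.card ↥(MulAction.stabilizer G a ⊓ MulAction.stabilizer G b : Subgroup G)))
    (H : Subgroup G) (hHa : H ≤ MulAction.stabilizer G a)
    (hHcard : Nat.card H + 1 = Fintype.card Ω)
    (hHfix : ∀ u ∈ H, u ≠ 1 → ∀ c : Ω, u • c = c → c = a)
    (hHab : ∀ u ∈ H, ∀ v ∈ H, u * v = v * u) :
    Fintype.card Ω - 2 ≤
      2 * Nat.card ↥(MulAction.stabilizer G a ⊓ MulAction.stabilizer G b : Subgroup G) := by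
  classical
  by_contra hnot
  haveI : Fintype G := Fintype.ofFinite G
  haveI : Fintype (stabilizer G a) := Fintype.ofFinite _
  haveI : IsPretransitive G Ω := ⟨Cfsg.Agent.Helper96.zass_trans hZ⟩
  haveI hKn := Cfsg.Agent.Helper19.ZassD.H_normal hZ hHa hHcard hHfix
  have hrel := Cfsg.Agent.Helper12.ZassFeitGT.relIndex_eq (b := b) hab hHa hHcard hHfix
  refine hcore H (stabilizer G a)
    (Cfsg.Agent.Helper12.ZassFeitGT.normalizer_eq hZ hHa hHcard hHfix)
    (Cfsg.Agent.Helper12.ZassFeitGT.ti hZ hHa hHcard hHfix)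
    (Cfsg.Agent.Helper12.ZassFeitGT.H_lt hZ hab hHa hHfix)
    (Cfsg.Agent.Helper12.ZassFeitGT.centralizer_le hZ hab hHa hHcard hHfix hHab)
    hHab ?_ ?_ (perm_char hZ hab hHa hHcard hHfix) ?_ ?_
    (Cfsg.Agent.Helper12.ZassFeitGT.big_of_not hab hHa hHcard hHfix hnot)
  · -- hlin
    intro ζ hζ hk
    refine Cfsg.Agent.Helper4.ZassFeitA.irrelevant_linear (H.subgroupOf (stabilizer G a))
      (comm_mod_H hZ hab hodd hHa hHcard hHfix) ⟨ζ, hζ⟩ ?_
    intro k hk'
    exact (Cfsg.Agent.Helper79.mem_irrKer (⟨ζ, hζ⟩ : IrrCharacter (stabilizer G a)) k).2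
      (hk k (Subgroup.mem_subgroupOf.mp hk'))
  · -- hInd
    intro ζ hζ hζ1 hζK hζne
    have hlt : Nat.card ↥(stabilizer G a ⊓ stabilizer G b : Subgroup G) < Fintype.card Ω - 2 := by
      omega
    exact Cfsg.Agent.S0881.result hZ hab hodd hlt H hHa hHcard hHfix ζ ⟨hζ, hζ1⟩ hζK hζne
  · -- hcls
    rw [hrel]
    exact Cfsg.Agent.Helper19.ZassClasses.classes_avoiding_kernel hZ hab (Nat.card H)
      (Nat.card ↥(stabilizer G a ⊓ stabilizer G b : Subgroup G)) hHcard.symm rfl hodd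
      (by omega) H hHa hHcard hHfix
  · -- hidx
    rw [MulAction.index_stabilizer_of_transitive G a, Nat.card_eq_fintype_card, hHcard]

end main

end Cfsg.Agent.Helper4.ZassFeitInst
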