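import Mathlib
import Cfsg.Agent.Lib.Helper4.ZassFeitInst
import Cfsg.Agent.Lib.Helper82.ZassFeitAbel

/-!
# Feit's bound for simple Zassenhaus groups with abelian kernel (helper4)

`bound`: in a simple Zassenhaus group `G` on `Ω` whose two-point stabiliser `G_ab` has odd
order and whose kernel `H` (of the Frobenius group `G_a`) is abelian, `|Ω| - 2 ≤ 2 |G_ab|`.
Assembled from helper82's character-theoretic core and the instantiation in `ZassFeitInst`.
-/

set_option autoImplicit false

namespace Cfsg.Agent.Helper4.ZassFeitAbel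

theorem bound {G Ω : Type*} [Group G] [Finite G] [MulAction G Ω] [Fintype Ω] [IsSimpleGroup G]
    (hZ : Cfsg.IsZassenhausGroup G Ω) {a b : Ω} (hab : a ≠ b)
    (hodd : Odd (Nat.card ↥(MulAction.stabilizer G a ⊓ MulAction.stabilizer G b : Subgroup G)))
    (H : Subgroup G) (hHa : H ≤ MulAction.stabilizer G a)
    (hHcard : Nat.card H + 1 = Fintype.card Ω)
    (hHfix : ∀ u ∈ H, u ≠ 1 → ∀ c : Ω, u • c = c → c = a)
    (hHab : ∀ u ∈ H, ∀ v ∈ H, u * v = v * u) :
    Fintype.card Ω - 2 ≤
      2 * Nat.card ↥(MulAction.stabilizer G a ⊓ MulAction.stabilizer G b : Subgroup G) :=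
  Cfsg.Agent.Helper4.ZassFeitInst.bound_of_core
    (fun K N _ hN hTI hlt hC hab hlin hInd hperm hcls hidx hbig =>
      Cfsg.Agent.Helper82.ZassFeitAbel.core K N hN hTI hlt hC hab hlin hInd hperm hcls hidx hbig)
    hZ hab hodd H hHa hHcard hHfix hHab

end Cfsg.Agent.Helper4.ZassFeitAbel
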