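import Mathlib
import Cfsg.Agent.Lib.Helper4.ZassFeitAbel
import Cfsg.Agent.S1534
import Cfsg.Agent.Lib.Helper82.TIFrob
import Cfsg.Agent.Lib.Helper76.CD2Deg

/-!
# Feit's bound for simple Zassenhaus groups, general (nilpotent) kernel: the instantiation (helper4)

`bound_gen_of_core` derives, for a simple Zassenhaus group `G` on `Ω` with odd two-point
stabiliser, the dichotomy `|Ω| - 2 ≤ 2 |G_ab|` or `H` is a non-abelian `2`-group with
`|H : H'| ≤ 4 |G_ab|² + 1`, from
* the abelian-kernel bound `ZassFeitAbel.bound`,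
* the Feit–Sibley theorem `S1534`,
* an abstract coherent-case character-theoretic core (`CoreCohStatement`).
-/

set_option autoImplicit false
set_option linter.style.haveILetI false
set_option linter.unusedSectionVars false
set_option linter.unusedVariables false

namespace Cfsg.Agent.Helper4.ZassFeitGen

open Cfsg MulAction Cfsg.Agent.Helper81
open scoped ComplexConjugate

universe u v

/-- The abstract coherent-case core: as `ZassFeitInst.CoreStatement` but without commutativity of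
`K`, with a relevant irreducible character of degree `|N : K|` and a coherence isometry. -/
def CoreCohStatement : Prop :=
  ∀ {G : Type u} [Group G] [Fintype G] (K N : Subgroup G) [Fintype N]
    (_hN : Subgroup.normalizer (K : Set G) = N)
    (_hTI : ∀ g : G, g ∉ N → ∀ k ∈ K, g * k * g⁻¹ ∈ K → k = 1)
    (_hlt : K < N)
    (_hC : ∀ k ∈ K, k ≠ 1 → Subgroup.centralizer ({k} : Set G) ≤ K)
    (_hlin : ∀ ζ : N → ℂ, Cfsg.IsIrrCharacter N ζ →
      (∀ k : N, (k : G) ∈ K → ζ k = ζ 1) → ζ 1 = 1)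
    (_hInd : ∀ ζ : N → ℂ, Cfsg.IsCharacter N ζ → ζ 1 = 1 →
      (∀ k : N, (k : G) ∈ K → ζ k = 1) → ζ ≠ (fun _ => 1) →
      Cfsg.IsIrrCharacter G (Cfsg.indFun N ζ) ∧ ∀ k ∈ K, k ≠ 1 → Cfsg.indFun N ζ k = 1)
    (_hperm : ∃ χ₀ : G → ℂ, Cfsg.IsIrrCharacter G χ₀ ∧
      (∀ g, Cfsg.indFun N (fun _ : N => (1 : ℂ)) g = 1 + χ₀ g) ∧ ∀ k ∈ K, k ≠ 1 → χ₀ k = 0)
    (_hcls : K.relIndex N ≤
      Nat.card {C : ConjClasses G // ∀ g : G, ConjClasses.mk g = C → g ∉ K})
    (_hidx : N.index = Nat.card K + 1)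
    (_hbig : 2 * K.relIndex N + 1 < Nat.card K)
    (_hone : ∃ χ₁ : N → ℂ, Cfsg.IsIrrCharacter N χ₁ ∧
      (∃ k : N, (k : G) ∈ K ∧ χ₁ k ≠ χ₁ 1) ∧ χ₁ 1 = (K.relIndex N : ℂ))
    (star : (N → ℂ) → (G → ℂ))
    (_hstar : Cfsg.IsLinearIsometryOn
      (Cfsg.zspan {χ : N → ℂ | Cfsg.IsIrrCharacter N χ ∧ ∃ k : N, (k : G) ∈ K ∧ χ k ≠ χ 1}) star)
    (_hext : ∀ α ∈ Cfsg.zspanOn
      {χ : N → ℂ | Cfsg.IsIrrCharacter N χ ∧ ∃ k : N, (k : G) ∈ K ∧ χ k ≠ χ 1} ({1}ᶜ : Set N),
      star α = Cfsg.indFun N α), False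

section general

/-- Feit–Sibley (`S1534`) with the normaliser as a separate variable. -/
theorem feit_sibley {G : Type u} [Group G] [Fintype G] (K N : Subgroup G) [Fintype N]
    (hN : Subgroup.normalizer (K : Set G) = N) (hK1 : K ≠ ⊥) (hnil : Group.IsNilpotent K)
    (hTI : ∀ g : G, g ∉ N → ∀ k ∈ K, g * k * g⁻¹ ∈ K → k = 1) (hlt : K < N)
    (hC : ∀ k ∈ K, k ≠ 1 → Subgroup.centralizer ({k} : Set G) ≤ K) :
    (Nat.card {χ : N → ℂ // IsIrrCharacter N χ ∧ ∃ k : N, (k : G) ∈ K ∧ χ k ≠ χ 1} = 1 ∧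
      Nat.card K = (K.subgroupOf N).index + 1 ∧ ∃ p : ℕ, p.Prime ∧ IsElementaryAbelian p K) ∨
    (Nat.card K = 2 ^ (Nat.card G).factorization 2 ∧
      (⁅K, K⁆.subgroupOf K).index < 4 * (K.subgroupOf N).index ^ 2) ∨
    IsCoherent {χ : N → ℂ | IsIrrCharacter N χ ∧ ∃ k : N, (k : G) ∈ K ∧ χ k ≠ χ 1} {1}ᶜ
      (fun α => indFun N α) := by
  subst hN
  exact Cfsg.Agent.S1534.result K hK1 hnil hTI hlt hC

/-- A nontrivial nilpotent normal subgroup `K` containing the centralisers of its non-identity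
elements affords a relevant irreducible character of degree `|X : K|`. -/
theorem exists_relevant_degree {X : Type u} [Group X] [Fintype X] (K : Subgroup X)
    [hKn : K.Normal]
    (hC : ∀ n ∈ K, n ≠ 1 → Subgroup.centralizer ({n} : Set X) ≤ K)
    (hnil : Group.IsNilpotent K) (hK1 : K ≠ ⊥) :
    ∃ χ₁ : X → ℂ, IsIrrCharacter X χ₁ ∧ (∃ k ∈ K, χ₁ k ≠ χ₁ 1) ∧ χ₁ 1 = (K.index : ℂ) := by
  classical
  haveI : Fintype K := Fintype.ofFinite K
  haveI : Nontrivial K := (Subgroup.nontrivial_iff_ne_bot K).mpr hK1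
  haveI := hnil
  have hlt : commutator K < ⊤ := Group.IsSolvable.commutator_lt_top_of_nontrivial K
  obtain ⟨y, hy⟩ : ∃ y : K, y ∉ commutator K := by
    by_contra hcon
    push Not at hcon
    exact hlt.ne (eq_top_iff.mpr (fun y _ => hcon y))
  have hy' : (Abelianization.of y : Abelianization K) ≠ 1 := by
    intro h
    exact hy ((QuotientGroup.eq_one_iff y).mp h)
  obtain ⟨φ, hφ⟩ :=
    CommGroup.exists_apply_ne_one_of_hasEnoughRootsOfUnity (Abelianization K) ℂ hy'
  let lam : K →* ℂˣ := φ.comp Abelianization.of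
  have hlam : lam y ≠ 1 := hφ
  set τ : K → ℂ := Cfsg.Agent.Helper76.CD2.linFun lam with hτ
  have hτirr : IsIrrCharacter K τ := Cfsg.Agent.Helper76.CD2.isIrr_linFun lam
  have hτ1 : τ ≠ fun _ => 1 := by
    intro h
    have h2 := congrFun h y
    apply hlam
    exact Units.ext h2
  have hirr := Cfsg.Agent.Helper82.indFun_irr_of_centralizer K hC τ hτirr hτ1
  refine ⟨indFun K τ, hirr, ?_, ?_⟩
  · by_contra hcon
    push Not at hcon
    have h1 : classInner (indFun K τ) (indFun K τ) = 1 := by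
      rw [irr_orthonormal hirr hirr, if_pos rfl]
    rw [frobenius_reciprocity K τ (isClassFunction_of_isCharacter (IsIrrCharacter.isCharacter hirr))] at h1
    have h2 : (fun h : K => indFun K τ h) = (indFun K τ 1) • (fun _ : K => (1 : ℂ)) := by
      funext h
      rw [Pi.smul_apply, smul_eq_mul, mul_one]
      exact hcon h h.2
    rw [h2, classInner_smul_right, irr_orthonormal hτirr isIrrCharacter_one, if_neg hτ1,
      mul_zero] at h1
    exact zero_ne_one h1
  · rw [indFun_one]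
    have : τ 1 = 1 := by
      rw [hτ, Cfsg.Agent.Helper76.CD2.linFun_apply, map_one, Units.val_one]
    rw [this, mul_one]

end general

section zass

variable {G : Type u} {Ω : Type v} [Group G] [Finite G] [MulAction G Ω] [Fintype Ω]
  {a b : Ω} {H : Subgroup G}

/-- `C_G(u) ≤ H` for `1 ≠ u ∈ H`, no commutativity assumption. -/
theorem centralizer_le_gen (hZ : IsZassenhausGroup G Ω) (hab : a ≠ b)
    (hHa : H ≤ stabilizer G a) (hHcard : Nat.card H + 1 = Fintype.card Ω)
    (hHfix : ∀ u ∈ H, u ≠ 1 → ∀ c : Ω, u • c = c → c = a) :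
    ∀ u ∈ H, u ≠ 1 → Subgroup.centralizer ({u} : Set G) ≤ H := by
  intro u hu hu1 x hx
  rw [Subgroup.mem_centralizer_iff] at hx
  have hxu : u * x = x * u := hx u (Set.mem_singleton u)
  have hua : u • a = a := hHa hu
  have hxa : x • a = a := by
    apply hHfix u hu hu1
    rw [← mul_smul, hxu, mul_smul, hua]
  obtain ⟨u', hu', d, hd, hxd⟩ :=
    Cfsg.Agent.Helper19.ZassH.stab_decomp hHa hHcard hHfix hab.symm (g := x) hxa
  have hda : d • a = a := (Subgroup.mem_inf.mp hd).1
  have hdb : d • b = b := (Subgroup.mem_inf.mp hd).2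
  by_cases hd1 : d = 1
  · rw [hxd, hd1, mul_one]
    exact hu'
  · have hconj : ∀ w ∈ H, d * w * d⁻¹ ∈ H := fun w hw =>
      Cfsg.Agent.Helper19.ZassH.H_conj_mem hZ hHa hHcard hHfix hda hw
    have hCd : ∀ w ∈ H, w * d = d * w → w = 1 := by
      intro w hw hwd
      by_contra hw1
      have hwa : w • a = a := hHa hw
      have hwb : w • b ≠ b := fun h => hab.symm (hHfix w hw hw1 b h)
      have hwb' : w • b ≠ a := fun h => hab.symm (smul_left_cancel w (h.trans hwa.symm))
      have hdwb : d • w • b = w • b := by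
        rw [← mul_smul, ← hwd, mul_smul, hdb]
      exact hd1 (hZ.2.2.1 d a b (w • b) hab (Ne.symm hwb) (Ne.symm hwb') hda hdb hdwb)
    let φ : H → H := fun h =>
      ⟨(h : G) * (d * (h : G)⁻¹ * d⁻¹), H.mul_mem h.2 (hconj _ (H.inv_mem h.2))⟩
    have hφinj : Function.Injective φ := by
      intro h k hhk
      have h1 : (h : G) * (d * (h : G)⁻¹ * d⁻¹) = (k : G) * (d * (k : G)⁻¹ * d⁻¹) :=
        congrArg Subtype.val hhk
      have h3 : (h : G) * d * (h : G)⁻¹ = (k : G) * d * (k : G)⁻¹ := by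
        have h2 := congrArg (· * d) h1
        simp only [mul_assoc, inv_mul_cancel, mul_one] at h2
        simpa [mul_assoc] using h2
      have h2 : ((k : G)⁻¹ * h) * d = d * ((k : G)⁻¹ * h) := by
        calc ((k : G)⁻¹ * h) * d = (k : G)⁻¹ * ((h : G) * d * (h : G)⁻¹) * h := by group
          _ = (k : G)⁻¹ * ((k : G) * d * (k : G)⁻¹) * h := by rw [h3]
          _ = d * ((k : G)⁻¹ * h) := by group
      have h4 := hCd _ (H.mul_mem (H.inv_mem k.2) h.2) h2
      apply Subtype.ext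
      exact (inv_mul_eq_one.mp h4).symm
    obtain ⟨h, hh⟩ := (Finite.injective_iff_surjective.mp hφinj) ⟨u', hu'⟩
    have hh' : (h : G) * (d * (h : G)⁻¹ * d⁻¹) = u' := congrArg Subtype.val hh
    have hx' : x = (h : G) * d * (h : G)⁻¹ := by
      rw [hxd, ← hh']
      group
    have hha : (h : G) • a = a := hHa h.2
    have hca : (h : G) • b ≠ a := by
      intro hcae
      exact hab (smul_left_cancel (h : G) (hcae.trans hha.symm)).symm
    have hxc : x • ((h : G) • b) = (h : G) • b := by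
      rw [hx', ← mul_smul, inv_mul_cancel_right, mul_smul, hdb]
    have huc : u • ((h : G) • b) ≠ (h : G) • b := fun h' => hca (hHfix u hu hu1 _ h')
    have huc' : u • ((h : G) • b) ≠ a := fun h' => hca (smul_left_cancel u (h'.trans hua.symm))
    have hxuc : x • u • ((h : G) • b) = u • ((h : G) • b) := by
      rw [← mul_smul, ← hxu, mul_smul, hxc]
    have hx1 : x = 1 :=
      hZ.2.2.1 x a ((h : G) • b) (u • ((h : G) • b)) (Ne.symm hca) (Ne.symm huc) (Ne.symm huc')
        hxa hxc hxuc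
    rw [hx1]
    exact H.one_mem

/-- Feit's dichotomy from the abstract coherent core. -/
theorem bound_gen_of_core (hcoh : CoreCohStatement.{u}) [IsSimpleGroup G]
    (hZ : Cfsg.IsZassenhausGroup G Ω) (hab : a ≠ b)
    (hodd : Odd (Nat.card ↥(MulAction.stabilizer G a ⊓ MulAction.stabilizer G b : Subgroup G)))
    (H : Subgroup G) (hHa : H ≤ MulAction.stabilizer G a)
    (hHcard : Nat.card H + 1 = Fintype.card Ω)
    (hHfix : ∀ u ∈ H, u ≠ 1 → ∀ c : Ω, u • c = c → c = a) :
    Fintype.card Ω - 2 ≤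
        2 * Nat.card ↥(MulAction.stabilizer G a ⊓ MulAction.stabilizer G b : Subgroup G) ∨
      (IsPGroup 2 H ∧ (∃ u v : H, u * v ≠ v * u) ∧ (commutator H).index ≤
        4 * Nat.card ↥(MulAction.stabilizer G a ⊓ MulAction.stabilizer G b : Subgroup G) ^ 2
          + 1) := by
  classical
  by_cases hHab : ∀ u ∈ H, ∀ v ∈ H, u * v = v * u
  · left
    exact Cfsg.Agent.Helper4.ZassFeitAbel.bound hZ hab hodd H hHa hHcard hHfix hHab
  by_contra hcon
  rw [not_or] at hcon
  obtain ⟨hnot, hnex⟩ := hcon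
  haveI : Fintype G := Fintype.ofFinite G
  haveI : Fintype (stabilizer G a) := Fintype.ofFinite _
  haveI : IsPretransitive G Ω := ⟨Cfsg.Agent.Helper96.zass_trans hZ⟩
  haveI hKn := Cfsg.Agent.Helper19.ZassD.H_normal hZ hHa hHcard hHfix
  have hrel := Cfsg.Agent.Helper12.ZassFeitGT.relIndex_eq (b := b) hab hHa hHcard hHfix
  have hrel' : (H.subgroupOf (stabilizer G a)).index =
      Nat.card ↥(stabilizer G a ⊓ stabilizer G b : Subgroup G) := hrel
  have hH1 : H ≠ ⊥ := by
    intro h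
    rw [h, Subgroup.card_bot] at hHcard
    omega
  have hnilH : Group.IsNilpotent H :=
    Cfsg.Agent.Helper19.ZassH.H_nilpotent hZ hHa hHcard hHfix hab
  have hNeq := Cfsg.Agent.Helper12.ZassFeitGT.normalizer_eq hZ hHa hHcard hHfix
  have hTI := Cfsg.Agent.Helper12.ZassFeitGT.ti hZ hHa hHcard hHfix
  have hlt := Cfsg.Agent.Helper12.ZassFeitGT.H_lt hZ hab hHa hHfix
  have hC := centralizer_le_gen hZ hab hHa hHcard hHfix
  rcases feit_sibley H (stabilizer G a) hNeq hH1 hnilH hTI hlt hC with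
    ⟨_, hcard, _⟩ | ⟨h2, hidx⟩ | hcohS
  · -- `|H| = e + 1`
    rw [hrel'] at hcard
    omega
  · -- the exceptional case
    apply hnex
    refine ⟨IsPGroup.of_card h2, ?_, ?_⟩
    · push Not at hHab
      obtain ⟨u, hu, v, hv, huv⟩ := hHab
      exact ⟨⟨u, hu⟩, ⟨v, hv⟩, fun h => huv (congrArg Subtype.val h)⟩
    · have hcomm : (⁅H, H⁆.subgroupOf H) = commutator H := by
        rw [← Subgroup.map_subtype_commutator, Subgroup.subgroupOf,
          Subgroup.comap_map_eq_self_of_injective (Subgroup.subtype_injective H)]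
      rw [hcomm, hrel'] at hidx
      omega
  · -- the coherent case
    obtain ⟨_, star, hstar, hext⟩ := hcohS
    refine hcoh H (stabilizer G a) hNeq hTI hlt hC ?_ ?_
      (Cfsg.Agent.Helper4.ZassFeitInst.perm_char hZ hab hHa hHcard hHfix) ?_ ?_
      (Cfsg.Agent.Helper12.ZassFeitGT.big_of_not hab hHa hHcard hHfix hnot) ?_ star hstar hext
    · -- hlin
      intro ζ hζ hk
      refine Cfsg.Agent.Helper4.ZassFeitA.irrelevant_linear (H.subgroupOf (stabilizer G a))
        (Cfsg.Agent.Helper4.ZassFeitInst.comm_mod_H hZ hab hodd hHa hHcard hHfix) ⟨ζ, hζ⟩ ?_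
      intro k hk'
      exact (Cfsg.Agent.Helper79.mem_irrKer (⟨ζ, hζ⟩ : IrrCharacter (stabilizer G a)) k).2
        (hk k (Subgroup.mem_subgroupOf.mp hk'))
    · -- hInd
      intro ζ hζ hζ1 hζK hζne
      have hlt' : Nat.card ↥(stabilizer G a ⊓ stabilizer G b : Subgroup G) <
          Fintype.card Ω - 2 := by
        omega
      exact Cfsg.Agent.S0881.result hZ hab hodd hlt' H hHa hHcard hHfix ζ ⟨hζ, hζ1⟩ hζK hζne
    · -- hcls
      rw [hrel]
      exact Cfsg.Agent.Helper19.ZassClasses.classes_avoiding_kernel hZ hab (Nat.card H)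
        (Nat.card ↥(stabilizer G a ⊓ stabilizer G b : Subgroup G)) hHcard.symm rfl hodd
        (by omega) H hHa hHcard hHfix
    · -- hidx
      rw [MulAction.index_stabilizer_of_transitive G a, Nat.card_eq_fintype_card, hHcard]
    · -- hone
      have hC' : ∀ n ∈ H.subgroupOf (stabilizer G a), n ≠ 1 →
          Subgroup.centralizer ({n} : Set (stabilizer G a)) ≤ H.subgroupOf (stabilizer G a) := by
        intro n hn hn1 y hy
        rw [Subgroup.mem_subgroupOf] at hn ⊢
        apply hC (n : G) hn (fun h => hn1 (Subtype.ext h))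
        rw [Subgroup.mem_centralizer_iff] at hy ⊢
        intro z hz
        rw [Set.mem_singleton_iff] at hz
        rw [hz]
        have := hy n (Set.mem_singleton n)
        exact congrArg Subtype.val this
      have hnil' : Group.IsNilpotent (H.subgroupOf (stabilizer G a)) := by
        haveI := hnilH
        exact Group.nilpotent_of_mulEquiv (Subgroup.subgroupOfEquivOfLe hHa).symm
      have hK1' : H.subgroupOf (stabilizer G a) ≠ ⊥ := by
        intro h
        apply hH1
        rw [Subgroup.subgroupOf_eq_bot] at h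
        rw [eq_bot_iff]
        intro z hz
        have : z ∈ H ⊓ stabilizer G a := ⟨hz, hHa hz⟩
        rw [disjoint_iff.mp h] at this
        exact this
      obtain ⟨χ₁, hχ₁, ⟨k, hk, hkne⟩, hdeg⟩ :=
        exists_relevant_degree (H.subgroupOf (stabilizer G a)) hC' hnil' hK1'
      exact ⟨χ₁, hχ₁, ⟨k, Subgroup.mem_subgroupOf.mp hk, hkne⟩, hdeg⟩

end zass

end Cfsg.Agent.Helper4.ZassFeitGen
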