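import Mathlib
import Cfsg.Agent.Lib.Helper4.ZassFeitGen
import Cfsg.Agent.Lib.Helper12.ZassFeitRed

/-!
# Feit's theorem for simple Zassenhaus groups from the abstract coherent core (helper4)

`simpleFeit_of_core`: the hypothesis `SimpleFeit` of helper12's reduction
(`Cfsg.Agent.Helper12.ZassFeitRed`) follows from the abstract coherent-case core
`ZassFeitGen.CoreCohStatement`.
-/

set_option autoImplicit false

namespace Cfsg.Agent.Helper4.ZassFeitGen

universe u v

theorem simpleFeit_of_core (hcoh : CoreCohStatement.{u}) :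
    Cfsg.Agent.Helper12.ZassFeitRed.SimpleFeit.{u, v} :=
  fun _ _ _ _ _ _ _ hZ _ _ hab hodd H hHa hHcard hHfix =>
    bound_gen_of_core hcoh hZ hab hodd H hHa hHcard hHfix

end Cfsg.Agent.Helper4.ZassFeitGen
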