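import Mathlib
import Cfsg.Agent.Lib.Helper14.GLIDefs
import Cfsg.Agent.Lib.Helper29.SPICDVD
import Cfsg.Agent.Lib.Helper42.SPIIDC

set_option autoImplicit false

/-!
GLI (GIDC) for helper14's server (S5958): if every part of a direct decomposition is invariant,
the codimension of the fixed space is a sum of multiples of `c`, each at most `a`.
(= Helper42.SPIIDC without the form.)
-/

namespace Cfsg.Agent.Helper4.GLI

open Module Polynomial Cfsg.Agent.Helper14.GLI

/-- `x` maps `(x-1) W` into itself when `W` is invariant -/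
theorem h4_map_sub_one_inv {F V : Type*} [Field F] [AddCommGroup V] [Module F V]
    (x : V →ₗ[F] V) (W : Submodule F V) (hWx : W.map x ≤ W) :
    (W.map (x - 1)).map x ≤ W.map (x - 1) := by
  rintro _ ⟨_, ⟨w, hw, rfl⟩, rfl⟩
  refine ⟨x w, hWx (Submodule.mem_map_of_mem hw), ?_⟩
  simp only [LinearMap.sub_apply, Module.End.one_apply, map_sub]

/-- a fixed vector in `(x-1) W` is zero when `x ^ r = 1`, `r ≠ 0` in `F` -/
theorem h4_fpf_moved {F V : Type*} [Field F] [AddCommGroup V] [Module F V]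
    (x : V →ₗ[F] V) (r : ℕ) (hr0 : (r : F) ≠ 0) (hxr : x ^ r = 1)
    (W : Submodule F V) : ∀ v ∈ W.map (x - 1), x v = v → v = 0 := by
  rintro _ ⟨w, _, rfl⟩ hfix
  set v := (x - 1) w with hv
  have hgeom : (∑ i ∈ Finset.range r, x ^ i) * (x - 1) = 0 := by
    rw [geom_sum_mul, hxr, sub_self]
  have h0 : (∑ i ∈ Finset.range r, x ^ i) v = 0 := by
    have := congrArg (fun f : Module.End F V => f w) hgeom
    exact this
  have hpow : ∀ i : ℕ, (x ^ i) v = v := by
    intro i
    induction i with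
    | zero => rfl
    | succ n ih => rw [pow_succ, Module.End.mul_apply, hfix, ih]
  have h1 : (∑ i ∈ Finset.range r, x ^ i) v = (r : F) • v := by
    rw [LinearMap.sum_apply, Finset.sum_congr rfl (fun i _ => hpow i), Finset.sum_const,
      Finset.card_range, Nat.cast_smul_eq_nsmul]
  rw [h1] at h0
  exact (smul_eq_zero.mp h0).resolve_left hr0

/-- (GIDC) = SPI (IDC) without the form. -/
theorem gl_id_case {F V : Type*} [Field F] [Fintype F] [AddCommGroup V] [Module F V]
    [FiniteDimensional F V] (x : V →ₗ[F] V) (r : ℕ) [Fact r.Prime] (hr0 : (r : F) ≠ 0)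
    (hrq : ¬ r ∣ Fintype.card F) (hxr : x ^ r = 1)
    {t : ℕ} (a : ℕ) (D : Fin t → Submodule F V) (hD : IsIndepFam ⊤ D)
    (hDa : ∀ j, finrank F (D j) = a) (hσ : ∀ j, (D j).map x ≤ D j) :
    ∃ ρ : Fin t → ℕ, (∀ j, orderOf ((Fintype.card F : ℕ) : ZMod r) ∣ ρ j ∧ ρ j ≤ a) ∧
      finrank F (LinearMap.ker (x - 1)) + ∑ j, ρ j = finrank F V := by
  classical
  have hle : ∀ j, (D j).map (x - 1) ≤ D j := by
    intro j y hy
    obtain ⟨v, hv, rfl⟩ := Submodule.mem_map.mp hy
    rw [LinearMap.sub_apply, Module.End.one_apply]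
    exact Submodule.sub_mem _ (hσ j (Submodule.mem_map_of_mem hv)) hv
  refine ⟨fun j => finrank F ((D j).map (x - 1)), ?_, ?_⟩
  · intro j
    refine ⟨Cfsg.Agent.Helper29.SPI.h29_order_dvd_finrank x r hrq hxr ((D j).map (x - 1))
      (h4_map_sub_one_inv x (D j) (hσ j)) (h4_fpf_moved x r hr0 hxr (D j)), ?_⟩
    rw [← hDa j]
    exact Submodule.finrank_mono (hle j)
  · have hind : iSupIndep (fun j => (D j).map (x - 1)) := hD.indep.mono hle
    have hrange : LinearMap.range (x - 1) = ⨆ j, (D j).map (x - 1) := by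
      rw [LinearMap.range_eq_map, ← hD.sup, Submodule.map_iSup]
    have h1 := LinearMap.finrank_range_add_finrank_ker (x - 1)
    rw [hrange, Cfsg.Agent.Helper42.SPI.idc_finrank_iSup _ hind] at h1
    rw [add_comm]
    exact h1

end Cfsg.Agent.Helper4.GLI
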