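import Mathlib
import Cfsg.Agent.Lib.Helper93.MD0

/-!
Piece (C) of helper93's lemma server "MD" (row S2140): `card_PhiA`, (T1) `sum_card_inf_Bst`,
(C2) `reduce`.
-/

set_option autoImplicit false

namespace Cfsg.Agent.Helper4.MD

open Module Cfsg.Agent.Helper93.McL Cfsg.Agent.Helper93.MD

variable {F V : Type*} [Field F] [Fintype F] [AddCommGroup V] [Module F V] [FiniteDimensional F V]

theorem card_PhiA {u : V} (hu : u ≠ 0) :
    Nat.card ↥(PhiA u : AddSubgroup (Dual F V)) = Fintype.card F ^ (finrank F V - 1) := by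
  have h1 := Subspace.finrank_add_finrank_dualAnnihilator_eq (Submodule.span F {u} : Subspace F V)
  rw [finrank_span_singleton hu] at h1
  have h2 : Nat.card ↥(Submodule.dualAnnihilator (Submodule.span F {u})) =
      Fintype.card F ^ (finrank F V - 1) := by
    rw [Module.natCard_eq_pow_finrank (K := F), Nat.card_eq_fintype_card]
    congr 1; omega
  rw [← h2]
  apply Nat.card_congr
  apply Equiv.subtypeEquivRight
  intro φ
  rw [mem_PhiA, Submodule.mem_dualAnnihilator]
  constructor
  · intro h w hw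
    obtain ⟨c, rfl⟩ := Submodule.mem_span_singleton.mp hw
    rw [map_smul, h, smul_zero]
  · intro h
    exact h u (Submodule.mem_span_singleton_self u)

omit [Fintype F] [FiniteDimensional F V] in
theorem h4_fp_stv_zero {Ω : Type*} [Fintype Ω] [MulAction ↥(SLV F V) Ω] (u : V) :
    fp Ω (stv u (0 : Dual F V)) = Fintype.card Ω := by
  have h1 : (stv u (0 : Dual F V) : ↥(SLV F V)) = 1 := Subtype.ext (tv_zero_right u)
  unfold fp
  rw [h1, ← Nat.card_eq_fintype_card]
  exact Nat.card_congr (Equiv.subtypeUnivEquiv (fun ω => by simp))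

/-- (T1) double counting of pairs `(φ, ω)`, `φ ∈ M`, `stv u φ • ω = ω`. -/
theorem sum_card_inf_Bst {Ω : Type*} [Fintype Ω] [MulAction ↥(SLV F V) Ω] {u : V} (hu : u ≠ 0)
    (f : ℕ) (hf : ∀ φ : Dual F V, φ u = 0 → φ ≠ 0 → fp Ω (stv u φ) = f)
    (M : AddSubgroup (Dual F V)) (hM : M ≤ PhiA u) :
    ∑ ω : Ω, Nat.card ↥(M ⊓ Bst u ω) = Fintype.card Ω + (Nat.card ↥M - 1) * f := by
  classical
  have : Finite (Dual F V) := Module.finite_of_finite F
  let _ : Fintype (Dual F V) := Fintype.ofFinite _
  have ha : ∀ ω : Ω, Nat.card ↥(M ⊓ Bst u ω) =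
      ∑ φ : Dual F V, if (φ ∈ M ∧ stv u φ • ω = ω) then 1 else 0 := by
    intro ω
    rw [← Finset.card_filter, Nat.card_eq_fintype_card, Fintype.card_subtype]
    congr 1
    ext φ
    simp only [Finset.mem_filter, Finset.mem_univ, true_and, AddSubgroup.mem_inf, mem_Bst]
    constructor
    · rintro ⟨h1, _, h3⟩; exact ⟨h1, h3⟩
    · rintro ⟨h1, h3⟩; exact ⟨h1, hM h1, h3⟩
  simp_rw [ha]
  rw [Finset.sum_comm]
  have hc : ∀ φ : Dual F V, (∑ ω : Ω, if (φ ∈ M ∧ stv u φ • ω = ω) then 1 else 0) =
      if φ ∈ M then fp Ω (stv u φ) else 0 := by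
    intro φ
    by_cases hφ : φ ∈ M
    · simp only [hφ, true_and, if_true]
      rw [← Finset.card_filter]
      unfold fp
      rw [Nat.card_eq_fintype_card, Fintype.card_subtype]
      congr 1
    · simp [hφ]
  simp_rw [hc]
  rw [← Finset.sum_filter]
  have h0 : (0 : Dual F V) ∈ Finset.univ.filter (· ∈ M) := by simp [M.zero_mem]
  rw [← Finset.add_sum_erase _ _ h0, h4_fp_stv_zero]
  congr 1
  have hall : ∀ φ ∈ (Finset.univ.filter (· ∈ M)).erase (0 : Dual F V), fp Ω (stv u φ) = f := by
    intro φ hφ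
    rw [Finset.mem_erase, Finset.mem_filter] at hφ
    exact hf φ (hM hφ.2.2) hφ.1
  rw [Finset.sum_congr rfl hall, Finset.sum_const, Finset.card_erase_of_mem h0, smul_eq_mul]
  congr 2
  rw [Nat.card_eq_fintype_card, Fintype.card_subtype]

/-- (C2) Burnside for the group of all transvections with centre `u`. -/
theorem reduce {Ω : Type*} [Fintype Ω] [MulAction ↥(SLV F V) Ω] (hn : 3 ≤ finrank F V) {u : V}
    (hu : u ≠ 0)
    (f : ℕ) (hf : ∀ φ : Dual F V, φ u = 0 → φ ≠ 0 → fp Ω (stv u φ) = f)
    (hlt : f < Fintype.card Ω) :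
    Fintype.card F ^ finrank F V - 1 ≤ (Fintype.card F - 1) * Fintype.card Ω ∨
      Fintype.card Ω = f + Fintype.card F ^ (finrank F V - 1) := by
  classical
  have : Finite (Dual F V) := Module.finite_of_finite F
  let _ : Fintype (Dual F V) := Fintype.ofFinite _
  let hom : Multiplicative ↥(PhiA u : AddSubgroup (Dual F V)) →* ↥(SLV F V) :=
    { toFun := fun a => stv u ((Multiplicative.toAdd a : ↥(PhiA u : AddSubgroup (Dual F V))) : Dual F V)
      map_one' := Subtype.ext (tv_zero_right u)
      map_mul' := fun a b => Subtype.ext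
        (tv_mul_axis (Multiplicative.toAdd a).2 (Multiplicative.toAdd b).2).symm }
  let _ : MulAction (Multiplicative ↥(PhiA u : AddSubgroup (Dual F V))) Ω := MulAction.compHom Ω hom
  have hB := MulAction.sum_card_fixedBy_eq_card_orbits_mul_card_group
    (Multiplicative ↥(PhiA u : AddSubgroup (Dual F V))) Ω
  set k := Fintype.card (Quotient (MulAction.orbitRel
    (Multiplicative ↥(PhiA u : AddSubgroup (Dual F V))) Ω)) with hk
  set Q := Fintype.card F ^ (finrank F V - 1) with hQ
  have hcardA : Fintype.card (Multiplicative ↥(PhiA u : AddSubgroup (Dual F V))) = Q := by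
    rw [Fintype.card_multiplicative, ← Nat.card_eq_fintype_card, card_PhiA hu]
  have hfix : ∀ a : Multiplicative ↥(PhiA u : AddSubgroup (Dual F V)),
      Fintype.card (MulAction.fixedBy Ω a) =
        fp Ω (stv u ((Multiplicative.toAdd a : ↥(PhiA u : AddSubgroup (Dual F V))) : Dual F V)) := by
    intro a
    unfold fp
    rw [← Nat.card_eq_fintype_card]
    rfl
  have hsum : ∑ a : Multiplicative ↥(PhiA u : AddSubgroup (Dual F V)),
      Fintype.card (MulAction.fixedBy Ω a) = Fintype.card Ω + (Q - 1) * f := by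
    simp_rw [hfix]
    have h1 : (1 : Multiplicative ↥(PhiA u : AddSubgroup (Dual F V))) ∈
        (Finset.univ : Finset (Multiplicative ↥(PhiA u : AddSubgroup (Dual F V)))) :=
      Finset.mem_univ _
    rw [← Finset.add_sum_erase _ _ h1]
    have e1 : fp Ω (stv u ((Multiplicative.toAdd
        (1 : Multiplicative ↥(PhiA u : AddSubgroup (Dual F V))) :
          ↥(PhiA u : AddSubgroup (Dual F V))) : Dual F V)) = Fintype.card Ω :=
      h4_fp_stv_zero u
    rw [e1]
    congr 1
    have hall : ∀ a ∈ (Finset.univ : Finset (Multiplicative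
        ↥(PhiA u : AddSubgroup (Dual F V)))).erase 1,
        fp Ω (stv u ((Multiplicative.toAdd a : ↥(PhiA u : AddSubgroup (Dual F V))) : Dual F V))
          = f := by
      intro a ha
      rw [Finset.mem_erase] at ha
      apply hf _ (Multiplicative.toAdd a).2
      intro h0
      apply ha.1
      have : Multiplicative.toAdd a = 0 := Subtype.ext h0
      exact Multiplicative.toAdd.injective this
    rw [Finset.sum_congr rfl hall, Finset.sum_const, Finset.card_erase_of_mem h1,
      Finset.card_univ, hcardA, smul_eq_mul]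
  rw [hsum, hcardA] at hB
  -- arithmetic
  have hq2 : 2 ≤ Fintype.card F := Fintype.one_lt_card
  have hQpos : 0 < Q := pow_pos (by omega) _
  have hqn : Fintype.card F ^ finrank F V = Fintype.card F * Q := by
    rw [hQ, ← pow_succ']
    congr 1; omega
  have hB' : Fintype.card Ω + Q * f = k * Q + f := by
    have : (Q - 1) * f + f = Q * f := by
      have : Q - 1 + 1 = Q := by omega
      calc (Q - 1) * f + f = (Q - 1 + 1) * f := by ring
        _ = Q * f := by rw [this]
    omega
  have hkf : f < k := by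
    by_contra hle
    have hle' : k ≤ f := Nat.le_of_not_lt hle
    have : k * Q ≤ Q * f := by rw [mul_comm]; exact Nat.mul_le_mul_left Q hle'
    omega
  obtain ⟨d, hd⟩ : ∃ d, k = f + 1 + d := ⟨k - f - 1, by omega⟩
  have hm : Fintype.card Ω = f + Q + d * Q := by
    rw [hd] at hB'
    have : (f + 1 + d) * Q = Q * f + Q + d * Q := by ring
    omega
  rcases Nat.eq_zero_or_pos d with h0 | hpos
  · right
    rw [hm, h0]; ring
  · left
    have hm2 : 2 * Q ≤ Fintype.card Ω := by
      have : Q ≤ d * Q := Nat.le_mul_of_pos_left Q hpos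
      omega
    rw [hqn]
    have h3 : (Fintype.card F - 1) * (2 * Q) ≤ (Fintype.card F - 1) * Fintype.card Ω :=
      Nat.mul_le_mul_left _ hm2
    have h4 : Fintype.card F * Q ≤ (Fintype.card F - 1) * (2 * Q) := by
      obtain ⟨c, hc⟩ : ∃ c, Fintype.card F = c + 2 := ⟨Fintype.card F - 2, by omega⟩
      rw [hc]
      have : c + 2 - 1 = c + 1 := by omega
      rw [this]
      nlinarith
    omega

end Cfsg.Agent.Helper4.MD
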