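import Mathlib
import Cfsg.Prelude.Def_Transfer
import Cfsg.Agent.Lib.Helper24.CYCDefs

/-!
Shared tools for helper4's pieces of helper24's lemma server "CYC" (row S4016):
`p`-part / `p'`-part decomposition of an element, `p`-elements of `N_G(P)` lie in `P`.
-/

set_option autoImplicit false

namespace Cfsg.Agent.Helper4.CYC

open Subgroup Cfsg.Agent.Helper24.CYC

universe u

variable {G : Type u} [Group G] [Finite G] {p : ℕ} [Fact p.Prime]

/-- `x = u * v` with `u, v` powers of `x`, `u` a `p`-element and `v` a `p'`-element. -/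
theorem h4_decomp (p : ℕ) [Fact p.Prime] (x : G) :
    ∃ u v : G, u ∈ zpowers x ∧ v ∈ zpowers x ∧ x = u * v ∧ (∃ k : ℕ, u ^ (p ^ k) = 1) ∧
      (orderOf v).Coprime p := by
  have hp : p.Prime := Fact.out
  obtain ⟨k, m, hpm, hxo⟩ := Nat.exists_eq_pow_mul_and_not_dvd (orderOf_pos x).ne' p hp.ne_one
  have hcop : Nat.Coprime (p ^ k) m := ((Nat.Prime.coprime_iff_not_dvd hp).mpr hpm).pow_left k
  have hbez := Nat.gcd_eq_gcd_ab (p ^ k) m
  rw [hcop.gcd_eq_one] at hbez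
  set A := Nat.gcdA (p ^ k) m
  set B := Nat.gcdB (p ^ k) m
  have hx1 : x ^ (((p ^ k : ℕ) : ℤ) * (m : ℤ)) = 1 := by
    rw [← Nat.cast_mul, zpow_natCast, ← hxo, pow_orderOf_eq_one]
  refine ⟨x ^ ((m : ℤ) * B), x ^ (((p ^ k : ℕ) : ℤ) * A), zpow_mem_zpowers x _, zpow_mem_zpowers x _,
    ?_, ⟨k, ?_⟩, ?_⟩
  · rw [← zpow_add, add_comm, ← hbez]; simp
  · rw [← zpow_natCast, ← zpow_mul]
    have : (m : ℤ) * B * ((p ^ k : ℕ) : ℤ) = (((p ^ k : ℕ) : ℤ) * (m : ℤ)) * B := by ring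
    rw [this, zpow_mul, hx1, one_zpow]
  · have hvm : (x ^ (((p ^ k : ℕ) : ℤ) * A)) ^ m = 1 := by
      rw [← zpow_natCast, ← zpow_mul]
      have : ((p ^ k : ℕ) : ℤ) * A * (m : ℤ) = (((p ^ k : ℕ) : ℤ) * (m : ℤ)) * A := by ring
      rw [this, zpow_mul, hx1, one_zpow]
    have hdvd : orderOf (x ^ (((p ^ k : ℕ) : ℤ) * A)) ∣ m := orderOf_dvd_of_pow_eq_one hvm
    have hmp : Nat.Coprime m p := ((Nat.Prime.coprime_iff_not_dvd hp).mpr hpm).symm
    exact Nat.Coprime.coprime_dvd_left hdvd hmp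

omit [Finite G] in
/-- a `p`-element of `N_G(P)` lies in `P`. -/
theorem h4_pelt_mem (P : Sylow p G) {u : G} (hu : u ∈ NP P) {k : ℕ} (huk : u ^ (p ^ k) = 1) :
    u ∈ (P : Subgroup G) := by
  have hH : IsPGroup p (zpowers u) := by
    rintro ⟨y, hy⟩
    refine ⟨k, ?_⟩
    obtain ⟨j, rfl⟩ := mem_zpowers_iff.mp hy
    apply Subtype.ext
    simp only [SubmonoidClass.coe_pow, OneMemClass.coe_one]
    rw [← zpow_natCast, ← zpow_mul, mul_comm, zpow_mul, zpow_natCast, huk, one_zpow]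
  have h1 : zpowers u ⊓ normalizer ((P : Subgroup G) : Set G) = zpowers u ⊓ (P : Subgroup G) :=
    hH.inf_normalizer_sylow P
  have hle : zpowers u ≤ normalizer ((P : Subgroup G) : Set G) := zpowers_le.mpr hu
  rw [inf_eq_left.mpr hle] at h1
  have : zpowers u ≤ (P : Subgroup G) := by
    rw [h1]; exact inf_le_right
  exact this (mem_zpowers u)

end Cfsg.Agent.Helper4.CYC
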