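import Mathlib

set_option autoImplicit false

/-!
# 2-adic arithmetic for automorphisms of cyclic 2-groups (helper4)
-/

namespace Cfsg.Agent.Helper4

theorem isCoprime_two_pow_of_odd {u : ℤ} (hu : Odd u) (k : ℕ) : IsCoprime u ((2 : ℤ) ^ k) := by
  apply IsCoprime.pow_right
  obtain ⟨t, ht⟩ := hu
  exact ⟨1, -t, by rw [ht]; ring⟩

theorem odd_of_two_dvd_sq_sub_one {r : ℤ} (h : (2 : ℤ) ∣ r ^ 2 - 1) : Odd r := by
  rcases Int.even_or_odd r with ⟨m, hm⟩ | ho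
  · exfalso
    obtain ⟨c, hc⟩ := h
    have : r ^ 2 = 2 * (2 * m * m) := by rw [hm]; ring
    omega
  · exact ho

/-- `2^(k+1) ∣ r² - 1` implies `2^k ∣ r - 1` or `2^k ∣ r + 1` -/
theorem half_lemma (k : ℕ) (r : ℤ) (h : (2 : ℤ) ^ (k + 1) ∣ r ^ 2 - 1) :
    (2 : ℤ) ^ k ∣ r - 1 ∨ (2 : ℤ) ^ k ∣ r + 1 := by
  have hodd : Odd r :=
    odd_of_two_dvd_sq_sub_one (dvd_trans (dvd_pow_self 2 (Nat.succ_ne_zero k)) h)
  obtain ⟨m, hm⟩ := hodd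
  have hr1 : r - 1 = 2 * m := by rw [hm]; ring
  have hr2 : r + 1 = 2 * (m + 1) := by rw [hm]; ring
  have hr3 : r ^ 2 - 1 = 4 * (m * (m + 1)) := by rw [hm]; ring
  have h2k : (2 : ℤ) ^ (k + 1) = 2 * 2 ^ k := by rw [pow_succ]; ring
  rcases Int.even_or_odd m with he | ho
  · left
    have hcop := isCoprime_two_pow_of_odd he.add_one (k + 1)
    have h5 : (2 : ℤ) ^ (k + 1) ∣ 4 * m := by
      rw [hr3] at h
      have : (2 : ℤ) ^ (k + 1) ∣ (4 * m) * (m + 1) := by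
        have e : 4 * (m * (m + 1)) = (4 * m) * (m + 1) := by ring
        rwa [e] at h
      exact hcop.symm.dvd_of_dvd_mul_right this
    rw [hr1]
    have e : 4 * m = 2 * (2 * m) := by ring
    rw [h2k, e] at h5
    exact (mul_dvd_mul_iff_left (by norm_num : (2 : ℤ) ≠ 0)).mp h5
  · right
    have hcop := isCoprime_two_pow_of_odd ho (k + 1)
    have h5 : (2 : ℤ) ^ (k + 1) ∣ 4 * (m + 1) := by
      rw [hr3] at h
      have : (2 : ℤ) ^ (k + 1) ∣ (4 * (m + 1)) * m := by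
        have e : 4 * (m * (m + 1)) = (4 * (m + 1)) * m := by ring
        rwa [e] at h
      exact hcop.symm.dvd_of_dvd_mul_right this
    rw [hr2]
    have e : 4 * (m + 1) = 2 * (2 * (m + 1)) := by ring
    rw [h2k, e] at h5
    exact (mul_dvd_mul_iff_left (by norm_num : (2 : ℤ) ≠ 0)).mp h5

/-- a multiple of `2^k` is `0` or `2^k` modulo `2^(k+1)` -/
theorem split_lemma (k : ℕ) (x : ℤ) (h : (2 : ℤ) ^ k ∣ x) :
    (2 : ℤ) ^ (k + 1) ∣ x ∨ (2 : ℤ) ^ (k + 1) ∣ x - 2 ^ k := by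
  obtain ⟨c, hc⟩ := h
  rcases Int.even_or_odd c with ⟨d, hd⟩ | ⟨d, hd⟩
  · left
    exact ⟨d, by rw [hc, hd, pow_succ]; ring⟩
  · right
    exact ⟨d, by rw [hc, hd, pow_succ]; ring⟩

/-- the square roots of `1` modulo `2^n` -/
theorem ar1 (n : ℕ) (r : ℤ) (h1 : (2 : ℤ) ^ n ∣ r ^ 2 - 1) (h2 : ¬ (2 : ℤ) ^ n ∣ r - 1) :
    (2 : ℤ) ^ n ∣ r + 1 ∨
      (3 ≤ n ∧ ((2 : ℤ) ^ n ∣ r + 1 - 2 ^ (n - 1) ∨ (2 : ℤ) ^ n ∣ r - 1 - 2 ^ (n - 1))) := by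
  rcases n with _ | k
  · exfalso; apply h2; simp
  have hodd : Odd r :=
    odd_of_two_dvd_sq_sub_one (dvd_trans (dvd_pow_self 2 (Nat.succ_ne_zero k)) h1)
  simp only [Nat.add_sub_cancel]
  rcases half_lemma k r h1 with h | h
  · rcases split_lemma k _ h with h' | h'
    · exact absurd h' h2
    · rcases k with _ | _ | k
      · exfalso
        obtain ⟨m, hm⟩ := hodd
        obtain ⟨c, hc⟩ := h'
        norm_num at hc
        omega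
      · left
        obtain ⟨c, hc⟩ := h'
        norm_num at hc
        refine ⟨c + 1, ?_⟩
        norm_num
        omega
      · right
        exact ⟨by omega, Or.inr h'⟩
  · rcases split_lemma k _ h with h' | h'
    · exact Or.inl h'
    · rcases k with _ | _ | k
      · exfalso
        obtain ⟨m, hm⟩ := hodd
        obtain ⟨c, hc⟩ := h'
        norm_num at hc
        omega
      · exfalso
        apply h2
        obtain ⟨c, hc⟩ := h'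
        norm_num at hc
        refine ⟨c, ?_⟩
        norm_num
        omega
      · right
        exact ⟨by omega, Or.inl h'⟩

/-- for `r ≡ 1 + 2^(n-1)` the number `(r+1)/2` is odd -/
theorem exists_odd_half (n : ℕ) (hn : 3 ≤ n) (r : ℤ) (h : (2 : ℤ) ^ n ∣ r - 1 - 2 ^ (n - 1)) :
    ∃ u : ℤ, Odd u ∧ r + 1 = 2 * u := by
  obtain ⟨k, rfl⟩ : ∃ k, n = k + 3 := ⟨n - 3, by omega⟩
  obtain ⟨c, hc⟩ := h
  have e1 : k + 3 - 1 = k + 2 := by omega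
  rw [e1] at hc
  refine ⟨1 + 2 ^ (k + 1) + 2 ^ (k + 2) * c, ?_, ?_⟩
  · refine ⟨2 ^ k + 2 ^ (k + 1) * c, ?_⟩
    ring
  · have : r = 1 + 2 ^ (k + 2) + 2 ^ (k + 3) * c := by linarith
    rw [this]; ring

theorem ar2 (n : ℕ) (hn : 3 ≤ n) (r s : ℤ) (h : (2 : ℤ) ^ n ∣ r - 1 - 2 ^ (n - 1))
    (h3 : (2 : ℤ) ^ n ∣ s * (r - 1)) : ∃ i : ℤ, (2 : ℤ) ^ n ∣ s + i * (r + 1) := by
  obtain ⟨u, hu, hur⟩ := exists_odd_half n hn r h
  obtain ⟨k, rfl⟩ : ∃ k, n = k + 1 := ⟨n - 1, by omega⟩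
  simp only [Nat.add_sub_cancel] at h
  -- `s` is even
  have hs : (2 : ℤ) ∣ s := by
    obtain ⟨c, hc⟩ := h
    obtain ⟨d, hd⟩ := h3
    have hr1 : r - 1 = 2 ^ k * (1 + 2 * c) := by
      have : r - 1 = 2 ^ k + 2 ^ (k + 1) * c := by linarith
      rw [this, pow_succ]; ring
    rw [hr1, pow_succ] at hd
    have e : (2 : ℤ) ^ k * (s * (1 + 2 * c)) = 2 ^ k * (2 * d) := by linarith
    have e2 : s * (1 + 2 * c) = 2 * d :=
      mul_left_cancel₀ (pow_ne_zero k (by norm_num : (2 : ℤ) ≠ 0)) e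
    have h7 : (2 : ℤ) ∣ s * (1 + 2 * c) := ⟨d, e2⟩
    rcases Int.Prime.dvd_mul' Nat.prime_two h7 with h8 | h8
    · exact_mod_cast h8
    · exfalso
      have h9 : (2 : ℤ) ∣ 1 + 2 * c := by exact_mod_cast h8
      omega
  obtain ⟨s', hs'⟩ := hs
  obtain ⟨α, β, hαβ⟩ := isCoprime_two_pow_of_odd hu k
  refine ⟨-(s' * α), s' * β, ?_⟩
  rw [hs', hur, pow_succ]
  have : 1 - α * u = β * 2 ^ k := by linear_combination -hαβ
  calc 2 * s' + -(s' * α) * (2 * u) = 2 * s' * (1 - α * u) := by ring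
    _ = 2 * s' * (β * 2 ^ k) := by rw [this]
    _ = 2 ^ k * 2 * (s' * β) := by ring

theorem ar3 (n : ℕ) (hn : 3 ≤ n) (r j : ℤ) (h : (2 : ℤ) ^ n ∣ r - 1 - 2 ^ (n - 1))
    (h3 : (2 : ℤ) ^ n ∣ j * (r + 1)) : (2 : ℤ) ^ (n - 1) ∣ j := by
  obtain ⟨u, hu, hur⟩ := exists_odd_half n hn r h
  obtain ⟨k, rfl⟩ : ∃ k, n = k + 1 := ⟨n - 1, by omega⟩
  simp only [Nat.add_sub_cancel]
  rw [hur, pow_succ] at h3
  have e : j * (2 * u) = 2 * (j * u) := by ring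
  have e2 : (2 : ℤ) ^ k * 2 = 2 * 2 ^ k := by ring
  rw [e, e2] at h3
  have h4 : (2 : ℤ) ^ k ∣ j * u := (mul_dvd_mul_iff_left (by norm_num : (2 : ℤ) ≠ 0)).mp h3
  exact (isCoprime_two_pow_of_odd hu k).symm.dvd_of_dvd_mul_right h4

/-- for inverting-type `r` the number `(r-1)/2` is odd -/
theorem ar4 (n : ℕ) (hn : 2 ≤ n) (r s : ℤ)
    (h : (2 : ℤ) ^ n ∣ r + 1 ∨ (3 ≤ n ∧ (2 : ℤ) ^ n ∣ r + 1 - 2 ^ (n - 1)))
    (h3 : (2 : ℤ) ^ n ∣ s * (r - 1)) : (2 : ℤ) ^ (n - 1) ∣ s := by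
  obtain ⟨k, rfl⟩ : ∃ k, n = k + 2 := ⟨n - 2, by omega⟩
  have e1 : k + 2 - 1 = k + 1 := by omega
  rw [e1] at h ⊢
  have hu : ∃ u : ℤ, Odd u ∧ r - 1 = 2 * u := by
    rcases h with ⟨c, hc⟩ | ⟨hn3, c, hc⟩
    · refine ⟨-1 + 2 ^ (k + 1) * c, ⟨-1 + 2 ^ k * c, by ring⟩, ?_⟩
      have : r = -1 + 2 ^ (k + 2) * c := by linarith
      rw [this]; ring
    · obtain ⟨k', rfl⟩ : ∃ k', k = k' + 1 := ⟨k - 1, by omega⟩
      refine ⟨-1 + 2 ^ (k' + 1) + 2 ^ (k' + 2) * c,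
        ⟨-1 + 2 ^ k' + 2 ^ (k' + 1) * c, by ring⟩, ?_⟩
      have : r = -1 + 2 ^ (k' + 1 + 1) + 2 ^ (k' + 1 + 2) * c := by linarith
      rw [this]; ring
  obtain ⟨u, hu, hur⟩ := hu
  rw [hur] at h3
  have e : s * (2 * u) = 2 * (s * u) := by ring
  have e2 : (2 : ℤ) ^ (k + 2) = 2 * 2 ^ (k + 1) := by ring
  rw [e, e2] at h3
  have h4 : (2 : ℤ) ^ (k + 1) ∣ s * u :=
    (mul_dvd_mul_iff_left (by norm_num : (2 : ℤ) ≠ 0)).mp h3
  exact (isCoprime_two_pow_of_odd hu (k + 1)).symm.dvd_of_dvd_mul_right h4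

/-- inverting-type exponents are `3` modulo `4` -/
theorem four_dvd_of_inv_type (n : ℕ) (hn : 2 ≤ n) (r : ℤ)
    (h : (2 : ℤ) ^ n ∣ r + 1 ∨ (3 ≤ n ∧ (2 : ℤ) ^ n ∣ r + 1 - 2 ^ (n - 1))) : (4 : ℤ) ∣ r + 1 := by
  have h4 : (4 : ℤ) ∣ 2 ^ n := by
    obtain ⟨k, rfl⟩ : ∃ k, n = k + 2 := ⟨n - 2, by omega⟩
    exact ⟨2 ^ k, by ring⟩
  rcases h with h | ⟨hn3, h⟩
  · exact dvd_trans h4 h
  · have h4' : (4 : ℤ) ∣ 2 ^ (n - 1) := by
      obtain ⟨k, rfl⟩ : ∃ k, n = k + 3 := ⟨n - 3, by omega⟩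
      exact ⟨2 ^ k, by rw [show k + 3 - 1 = k + 2 by omega]; ring⟩
    have := dvd_add (dvd_trans h4 h) h4'
    simpa using this

theorem not_four_dvd_mul_add_one (x y : ℤ) (hx : (4 : ℤ) ∣ x + 1) (hy : (4 : ℤ) ∣ y + 1) :
    ¬ (4 : ℤ) ∣ x * y + 1 := by
  obtain ⟨a, ha⟩ := hx
  obtain ⟨b, hb⟩ := hy
  rintro ⟨c, hc⟩
  have hx' : x = 4 * a - 1 := by linarith
  have hy' : y = 4 * b - 1 := by linarith
  rw [hx', hy'] at hc
  have : (4 * a - 1) * (4 * b - 1) + 1 = 4 * (4 * (a * b) - a - b) + 2 := by ring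
  rw [this] at hc
  omega

theorem not_four_dvd_sq_add_one' (r : ℤ) : ¬ (4 : ℤ) ∣ r ^ 2 + 1 := by
  rintro ⟨c, hc⟩
  rcases Int.even_or_odd r with ⟨m, hm⟩ | ⟨m, hm⟩
  · have : r ^ 2 = 4 * (m * m) := by rw [hm]; ring
    omega
  · have : r ^ 2 = 4 * (m * m + m) + 1 := by rw [hm]; ring
    omega

end Cfsg.Agent.Helper4
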