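import Mathlib
import Cfsg.Agent.Lib.Helper4.ElemAb
import Cfsg.Agent.Lib.Helper4.TwoAdic
import Cfsg.Agent.Lib.Helper53.UniqueInvol1
import Cfsg.Agent.Lib.Helper53.UniqueInvol2

set_option autoImplicit false

/-!
# 2-groups without normal four-subgroups (helper4)
-/

namespace Cfsg.Agent.Helper4

open Cfsg.Agent.Helper53

variable {P : Type*} [Group P] [Finite P]

/-- groups of exponent two are commutative (elementwise, inside a subgroup) -/
theorem comm_of_sq_mem (Ω : Subgroup P) (hexp : ∀ x ∈ Ω, x * x = 1) :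
    ∀ x ∈ Ω, ∀ y ∈ Ω, x * y = y * x := by
  intro x hx y hy
  have hxy := hexp (x * y) (Ω.mul_mem hx hy)
  have hxx := hexp x hx
  have hyy := hexp y hy
  have hxi : x⁻¹ = x := inv_eq_of_mul_eq_one_left hxx
  have hyi : y⁻¹ = y := inv_eq_of_mul_eq_one_left hyy
  have : x * y = (x * y)⁻¹ := (inv_eq_of_mul_eq_one_left hxy).symm
  rw [this, mul_inv_rev, hxi, hyi]

/-- A normal elementary abelian subgroup of order at least four of a `2`-group contains a normal
four-subgroup. -/
theorem exists_normal_four_of_normal_elemAb (hP : IsPGroup 2 P)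
    (Ω : Subgroup P) [hΩn : Ω.Normal] (hexp : ∀ x ∈ Ω, x * x = 1) (hcard : 4 ≤ Nat.card Ω) :
    ∃ V : Subgroup P, V.Normal ∧ IsKleinFour V ∧ V ≤ Ω := by
  haveI : Fact (Nat.Prime 2) := ⟨Nat.prime_two⟩
  have hΩne : Ω ≠ ⊥ := by
    intro h
    rw [h, Subgroup.card_bot] at hcard
    omega
  obtain ⟨z, hzΩ, hz1, hzc⟩ := exists_ne_one_mem_center_of_normal' hP Ω hΩne
  have hzz : z * z = 1 := hexp z hzΩ
  have hzcomm : ∀ g : P, g * z = z * g := fun g => Subgroup.mem_center_iff.mp hzc g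
  set Z := twoSub z hzz with hZ
  have hZn : Z.Normal := by
    refine ⟨fun w hw g => ?_⟩
    rcases mem_twoSub.mp hw with h | h
    · rw [h, mul_one, mul_inv_cancel]; exact Z.one_mem
    · rw [h, hzcomm g, mul_assoc, mul_inv_cancel, mul_one]
      exact mem_twoSub.mpr (Or.inr rfl)
  have hQ : IsPGroup 2 (P ⧸ Z) := hP.to_quotient Z
  set Ωbar := Ω.map (QuotientGroup.mk' Z) with hΩbar
  haveI : Ωbar.Normal := hΩn.map (QuotientGroup.mk' Z) (QuotientGroup.mk'_surjective Z)
  have hbar_ne : Ωbar ≠ ⊥ := by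
    intro hbot
    have hle : Ω ≤ Z := by
      intro v hv
      have : (QuotientGroup.mk' Z) v ∈ Ωbar := Subgroup.mem_map_of_mem _ hv
      rw [hbot, Subgroup.mem_bot] at this
      exact (QuotientGroup.eq_one_iff v).mp this
    have h1 := Subgroup.card_le_of_le hle
    have h2 : Nat.card Z = 2 := card_twoSub hzz hz1
    omega
  obtain ⟨wbar, hwΩ, hw1, hwc⟩ := exists_ne_one_mem_center_of_normal' hQ Ωbar hbar_ne
  obtain ⟨v, hvΩ, rfl⟩ := Subgroup.mem_map.mp hwΩ
  have hvZ : v ∉ Z := fun h => hw1 ((QuotientGroup.eq_one_iff v).mpr h)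
  have hvv : v * v = 1 := hexp v hvΩ
  have hv1 : v ≠ 1 := fun h => hvZ (h ▸ Z.one_mem)
  have hzv : z ≠ v := fun h => hvZ (h ▸ mem_twoSub.mpr (Or.inr rfl))
  have hconj : ∀ g : P, g * v * g⁻¹ = v ∨ g * v * g⁻¹ = z * v := by
    intro g
    have h1 := Subgroup.mem_center_iff.mp hwc ((QuotientGroup.mk' Z) g)
    rw [← map_mul, ← map_mul] at h1
    have h2 : (g * v)⁻¹ * (v * g) ∈ Z := QuotientGroup.eq.mp h1
    rcases mem_twoSub.mp h2 with h | h
    · left
      have : g * v = v * g := by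
        have := congrArg (fun t => (g * v) * t) h
        simpa [mul_assoc] using this.symm
      rw [this, mul_assoc, mul_inv_cancel, mul_one]
    · right
      have : v * g = g * v * z := by
        have := congrArg (fun t => (g * v) * t) h
        simpa [mul_assoc] using this
      have e : g * v = v * g * z := by
        rw [this, mul_assoc (g * v), hzz, mul_one]
      rw [e, mul_assoc (v * g), ← hzcomm g⁻¹, ← mul_assoc, mul_assoc v, mul_inv_cancel, mul_one,
        ← hzcomm v]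
  have hzv' : z * v = v * z := (hzcomm v).symm
  refine ⟨fourSub z v hzz hvv hzv', ?_, isKleinFour_fourSub hzz hvv hzv' hz1 hv1 hzv, ?_⟩
  · refine ⟨fun w hw g => ?_⟩
    have hgz : g * z * g⁻¹ = z := by rw [hzcomm g, mul_assoc, mul_inv_cancel, mul_one]
    rcases mem_fourSub.mp hw with h | h | h | h
    · rw [h, mul_one, mul_inv_cancel]; exact Subgroup.one_mem _
    · rw [h, hgz]; exact mem_fourSub.mpr (Or.inr (Or.inl rfl))
    · rw [h]
      rcases hconj g with h' | h'
      · rw [h']; exact mem_fourSub.mpr (Or.inr (Or.inr (Or.inl rfl)))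
      · rw [h']; exact mem_fourSub.mpr (Or.inr (Or.inr (Or.inr rfl)))
    · rw [h]
      have e : g * (z * v) * g⁻¹ = (g * z * g⁻¹) * (g * v * g⁻¹) := by group
      rw [e, hgz]
      rcases hconj g with h' | h'
      · rw [h']; exact mem_fourSub.mpr (Or.inr (Or.inr (Or.inr rfl)))
      · rw [h', ← mul_assoc, hzz, one_mul]
        exact mem_fourSub.mpr (Or.inr (Or.inr (Or.inl rfl)))
  · intro w hw
    rcases mem_fourSub.mp hw with h | h | h | h
    · rw [h]; exact Ω.one_mem
    · rw [h]; exact hzΩ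
    · rw [h]; exact hvΩ
    · rw [h]; exact Ω.mul_mem hzΩ hvΩ

/-- A non-cyclic abelian normal subgroup of a `2`-group contains a normal four-subgroup. -/
theorem exists_normal_four_of_normal_abelian_not_cyclic (hP : IsPGroup 2 P)
    (A : Subgroup P) [hAn : A.Normal] (hcomm : ∀ x ∈ A, ∀ y ∈ A, x * y = y * x)
    (hnc : ¬ IsCyclic A) : ∃ V : Subgroup P, V.Normal ∧ IsKleinFour V ∧ V ≤ A := by
  classical
  -- two distinct involutions
  have hex : ∃ x y : A, orderOf x = 2 ∧ orderOf y = 2 ∧ x ≠ y := by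
    by_contra hcon
    push Not at hcon
    apply hnc
    exact isCyclic_of_comm_of_unique_invol (hP.to_subgroup A)
      (fun x y => Subtype.ext (hcomm x x.2 y y.2)) (fun x y hx hy => hcon x y hx hy)
  obtain ⟨x, y, hx, hy, hxy⟩ := hex
  let Ω : Subgroup P :=
    { carrier := {w | w ∈ A ∧ w * w = 1}
      one_mem' := ⟨A.one_mem, by rw [mul_one]⟩
      mul_mem' := by
        rintro a b ⟨ha, ha2⟩ ⟨hb, hb2⟩
        refine ⟨A.mul_mem ha hb, ?_⟩
        calc a * b * (a * b) = a * (b * a) * b := by simp only [mul_assoc]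
          _ = a * (a * b) * b := by rw [hcomm b hb a ha]
          _ = (a * a) * (b * b) := by simp only [mul_assoc]
          _ = 1 := by rw [ha2, hb2, mul_one]
      inv_mem' := by
        rintro a ⟨ha, ha2⟩
        refine ⟨A.inv_mem ha, ?_⟩
        rw [← mul_inv_rev, ha2, inv_one] }
  have hΩmem : ∀ w, w ∈ Ω ↔ w ∈ A ∧ w * w = 1 := fun w => Iff.rfl
  haveI : Ω.Normal := by
    refine ⟨fun w hw g => ?_⟩
    obtain ⟨hwA, hw2⟩ := (hΩmem w).mp hw
    refine (hΩmem _).mpr ⟨hAn.conj_mem w hwA g, ?_⟩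
    calc g * w * g⁻¹ * (g * w * g⁻¹) = g * (w * w) * g⁻¹ := by group
      _ = 1 := by rw [hw2, mul_one, mul_inv_cancel]
  have hx2 : (x : P) * x = 1 := by
    have : orderOf (x : P) = 2 := by rw [Subgroup.orderOf_coe]; exact hx
    rw [← pow_two, ← this, pow_orderOf_eq_one]
  have hy2 : (y : P) * y = 1 := by
    have : orderOf (y : P) = 2 := by rw [Subgroup.orderOf_coe]; exact hy
    rw [← pow_two, ← this, pow_orderOf_eq_one]
  have hx1 : (x : P) ≠ 1 := by
    intro h
    have : orderOf (x : P) = 2 := by rw [Subgroup.orderOf_coe]; exact hx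
    rw [h, orderOf_one] at this
    omega
  have hy1 : (y : P) ≠ 1 := by
    intro h
    have : orderOf (y : P) = 2 := by rw [Subgroup.orderOf_coe]; exact hy
    rw [h, orderOf_one] at this
    omega
  have hxyc : (x : P) * y = y * x := hcomm x x.2 y y.2
  have hne : (x : P) ≠ y := fun h => hxy (Subtype.ext h)
  have hle : fourSub (x : P) y hx2 hy2 hxyc ≤ Ω := by
    intro w hw
    rcases mem_fourSub.mp hw with h | h | h | h
    · rw [h]; exact Ω.one_mem
    · rw [h]; exact ⟨x.2, hx2⟩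
    · rw [h]; exact ⟨y.2, hy2⟩
    · rw [h]; exact Ω.mul_mem ⟨x.2, hx2⟩ ⟨y.2, hy2⟩
  have hcard : 4 ≤ Nat.card Ω := by
    rw [← card_fourSub hx2 hy2 hxyc hx1 hy1 hne]
    exact Subgroup.card_le_of_le hle
  obtain ⟨V, hVn, hV4, hVΩ⟩ := exists_normal_four_of_normal_elemAb hP Ω (fun w hw => hw.2) hcard
  exact ⟨V, hVn, hV4, fun w hw => (hVΩ hw).1⟩

end Cfsg.Agent.Helper4
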