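import Mathlib
import Cfsg.Agent.Lib.Helper4.NormalFour

set_option autoImplicit false

/-!
# 2-groups without normal four-subgroups: the modular case (helper4)
-/

namespace Cfsg.Agent.Helper4

open Cfsg.Agent.Helper53

variable {P : Type*} [Group P] [Finite P]

/-- basic exponent calculus in a cyclic group of order `2^n` -/
theorem zpow_eq_one_iff_of_orderOf {a : P} {n : ℕ} (hord : orderOf a = 2 ^ n) (m : ℤ) :
    a ^ m = 1 ↔ (2 ^ n : ℤ) ∣ m := by
  rw [← orderOf_dvd_iff_zpow_eq_one, hord]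
  push_cast
  rfl

theorem conj_zpow_of_conj {a h : P} {r : ℤ} (hr : h * a * h⁻¹ = a ^ r) (i : ℤ) :
    h * a ^ i * h⁻¹ = a ^ (r * i) := by
  rw [← conj_zpow, hr, zpow_mul]

/-- powers `a^j` with `2^(n-1) ∣ j` are `1` or the involution -/
theorem zpow_half_cases {a : P} {n : ℕ} (hn : 1 ≤ n) (hord : orderOf a = 2 ^ n) (j : ℤ)
    (hj : (2 : ℤ) ^ (n - 1) ∣ j) : a ^ j = 1 ∨ a ^ j = a ^ ((2 : ℤ) ^ (n - 1)) := by
  obtain ⟨k, rfl⟩ : ∃ k, n = k + 1 := ⟨n - 1, by omega⟩
  simp only [Nat.add_sub_cancel] at hj ⊢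
  rcases split_lemma k j hj with h | h
  · left
    exact (zpow_eq_one_iff_of_orderOf hord j).mpr h
  · right
    have := (zpow_eq_one_iff_of_orderOf hord (j - 2 ^ k)).mpr h
    rw [zpow_sub, mul_inv_eq_one] at this
    exact this

/-- The modular case: an element acting as `1 + 2^(n-1)` on a normal self-centralizing cyclic
subgroup of order `2^n`, `n ≥ 3`, yields a normal four-subgroup. -/
theorem normal_four_of_modular (A : Subgroup P) [hAn : A.Normal] (a : P) (n : ℕ) (hn3 : 3 ≤ n)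
    (hord : orderOf a = 2 ^ n) (hAeq : Subgroup.zpowers a = A)
    (hcent : ∀ h : P, h * a = a * h → h ∈ A)
    (g : P) (hg : g ∉ A) (hgg : g * g ∈ A) (r : ℤ) (hr : g * a * g⁻¹ = a ^ r)
    (hr' : (2 ^ n : ℤ) ∣ r - 1 - 2 ^ (n - 1)) :
    ∃ V : Subgroup P, V.Normal ∧ IsKleinFour V := by
  have haA : a ∈ A := by rw [← hAeq]; exact Subgroup.mem_zpowers a
  have hAz : ∀ y ∈ A, ∃ j : ℤ, a ^ j = y := by
    intro y hy
    rw [← hAeq] at hy
    exact Subgroup.mem_zpowers_iff.mp hy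
  have hzA : ∀ j : ℤ, a ^ j ∈ A := fun j => A.zpow_mem haA j
  have hdvd := zpow_eq_one_iff_of_orderOf hord
  have hconj : ∀ h : P, ∃ q : ℤ, h * a * h⁻¹ = a ^ q := by
    intro h
    obtain ⟨q, hq⟩ := hAz _ (hAn.conj_mem a haA h)
    exact ⟨q, hq.symm⟩
  obtain ⟨u, hu, hur⟩ := exists_odd_half n hn3 r hr'
  -- `g * g = a ^ s`
  obtain ⟨s, hs⟩ := hAz _ hgg
  have h3 : (2 ^ n : ℤ) ∣ s * (r - 1) := by
    rw [← hdvd]
    have e1 : g * (g * g) * g⁻¹ = a ^ (r * s) := by rw [← hs, conj_zpow_of_conj hr]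
    have e2 : g * (g * g) * g⁻¹ = g * g := by group
    have e3 : a ^ (r * s) = a ^ s := by rw [← e1, e2, hs]
    have : s * (r - 1) = r * s - s := by ring
    rw [this, zpow_sub, e3, mul_inv_cancel]
  obtain ⟨i, hi⟩ := ar2 n hn3 r s hr' h3
  -- the involution `e`
  obtain ⟨e, he⟩ : ∃ e : P, e = g * a ^ i := ⟨_, rfl⟩
  have hee : e * e = 1 := by
    rw [← hdvd] at hi
    have e1 : (g * a ^ i) * (g * a ^ i) = a ^ (s + i * (r + 1)) := by
      calc (g * a ^ i) * (g * a ^ i) = (g * a ^ i * g⁻¹) * (g * g) * a ^ i := by group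
        _ = a ^ (r * i) * a ^ s * a ^ i := by rw [conj_zpow_of_conj hr, hs]
        _ = a ^ (s + i * (r + 1)) := by
          rw [← zpow_add, ← zpow_add]; congr 1; ring
    rw [he, e1, hi]
  have heA : e ∉ A := by
    intro h
    apply hg
    have : g = e * (a ^ i)⁻¹ := by rw [he]; group
    rw [this]
    exact A.mul_mem h (A.inv_mem (hzA i))
  have her : e * a * e⁻¹ = a ^ r := by
    rw [he, ← hr]
    have : g * a ^ i * a * (g * a ^ i)⁻¹ = g * (a ^ i * a * (a ^ i)⁻¹) * g⁻¹ := by group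
    rw [this]
    congr 2
    rw [← zpow_add_one, ← zpow_sub]
    simp
  have he1 : e ≠ 1 := fun h => heA (h ▸ A.one_mem)
  -- the central involution `z`
  obtain ⟨z, hz⟩ : ∃ z : P, z = a ^ ((2 : ℤ) ^ (n - 1)) := ⟨_, rfl⟩
  have hzA' : z ∈ A := by rw [hz]; exact hzA _
  have h2n : (2 : ℤ) ^ n = 2 * 2 ^ (n - 1) := by
    obtain ⟨k, rfl⟩ : ∃ k, n = k + 1 := ⟨n - 1, by omega⟩
    simp only [Nat.add_sub_cancel]
    ring
  have hzz : z * z = 1 := by
    rw [hz, ← zpow_add, hdvd]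
    exact ⟨1, by rw [h2n]; ring⟩
  have hz1 : z ≠ 1 := by
    rw [hz]
    intro h
    rw [hdvd] at h
    obtain ⟨c, hc⟩ := h
    rw [h2n] at hc
    have hpos : (0 : ℤ) < 2 ^ (n - 1) := by positivity
    have : (2 : ℤ) ^ (n - 1) * (1 - 2 * c) = 0 := by linarith
    rcases mul_eq_zero.mp this with h' | h'
    · omega
    · omega
  have hze : z ≠ e := fun h => heA (h ▸ hzA')
  -- involutions of `A`
  have hinvA : ∀ y ∈ A, y * y = 1 → y = 1 ∨ y = z := by
    intro y hy hyy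
    obtain ⟨j, rfl⟩ := hAz y hy
    rw [← zpow_add, hdvd, h2n] at hyy
    have hj : (2 : ℤ) ^ (n - 1) ∣ j := by
      have : (2 : ℤ) * 2 ^ (n - 1) ∣ 2 * j := by
        have e : j + j = 2 * j := by ring
        rwa [e] at hyy
      exact (mul_dvd_mul_iff_left (by norm_num : (2 : ℤ) ≠ 0)).mp this
    rw [hz]
    exact zpow_half_cases (by omega) hord j hj
  -- `z` is central
  have hzc : ∀ h : P, h * z * h⁻¹ = z := by
    intro h
    have h1 : h * z * h⁻¹ ∈ A := hAn.conj_mem z hzA' h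
    have h2 : h * z * h⁻¹ * (h * z * h⁻¹) = 1 := by
      calc h * z * h⁻¹ * (h * z * h⁻¹) = h * (z * z) * h⁻¹ := by group
        _ = 1 := by rw [hzz, mul_one, mul_inv_cancel]
    rcases hinvA _ h1 h2 with h3 | h3
    · exfalso
      apply hz1
      have : z = h⁻¹ * (h * z * h⁻¹) * h := by group
      rw [this, h3]; group
    · exact h3
  have hzcomm : ∀ h : P, h * z = z * h := by
    intro h
    calc h * z = (h * z * h⁻¹) * h := by group
      _ = z * h := by rw [hzc h]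
  have hzecomm : z * e = e * z := (hzcomm e).symm
  refine ⟨fourSub z e hzz hee hzecomm, ?_, isKleinFour_fourSub hzz hee hzecomm hz1 he1 hze⟩
  -- normality
  have hconje : ∀ h : P, h * e * h⁻¹ = e ∨ h * e * h⁻¹ = z * e := by
    intro h
    obtain ⟨q, hq⟩ := hconj h
    -- `y = (e h)⁻¹ (h e)` centralizes `a`
    have hy : (e * h)⁻¹ * (h * e) ∈ A := by
      apply hcent
      have e1 : (h * e) * a * (h * e)⁻¹ = a ^ (q * r) := by
        calc (h * e) * a * (h * e)⁻¹ = h * (e * a * e⁻¹) * h⁻¹ := by group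
          _ = a ^ (q * r) := by rw [her, conj_zpow_of_conj hq]
      have e2 : (e * h) * a * (e * h)⁻¹ = a ^ (q * r) := by
        calc (e * h) * a * (e * h)⁻¹ = e * (h * a * h⁻¹) * e⁻¹ := by group
          _ = a ^ (r * q) := by rw [hq, conj_zpow_of_conj her]
          _ = a ^ (q * r) := by rw [mul_comm]
      have e3 : (h * e) * a * (h * e)⁻¹ = (e * h) * a * (e * h)⁻¹ := by rw [e1, e2]
      have e4 : (e * h)⁻¹ * (h * e) * a = (e * h)⁻¹ * ((h * e) * a * (h * e)⁻¹) * (h * e) := by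
        group
      rw [e4, e3]
      group
    -- `h e h⁻¹ = e c` with `c ∈ A`
    obtain ⟨c, hc⟩ : ∃ c : P, c = h * ((e * h)⁻¹ * (h * e)) * h⁻¹ := ⟨_, rfl⟩
    have hcA : c ∈ A := by rw [hc]; exact hAn.conj_mem _ hy h
    have hec : h * e * h⁻¹ = e * c := by rw [hc]; group
    obtain ⟨j, hj⟩ := hAz c hcA
    have hsq : (e * c) * (e * c) = 1 := by
      rw [← hec]
      calc h * e * h⁻¹ * (h * e * h⁻¹) = h * (e * e) * h⁻¹ := by group
        _ = 1 := by rw [hee, mul_one, mul_inv_cancel]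
    have hsq' : (e * c) * (e * c) = a ^ (j * (r + 1)) := by
      calc (e * c) * (e * c) = (e * c * e⁻¹) * (e * e) * c := by group
        _ = a ^ (r * j) * a ^ j := by rw [hee, mul_one, ← hj, conj_zpow_of_conj her]
        _ = a ^ (j * (r + 1)) := by rw [← zpow_add]; congr 1; ring
    have hdj : (2 ^ n : ℤ) ∣ j * (r + 1) := by rw [← hdvd, ← hsq', hsq]
    have hj' := ar3 n hn3 r j hr' hdj
    rcases zpow_half_cases (by omega) hord j hj' with h1 | h1
    · left; rw [hec, ← hj, h1, mul_one]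
    · right; rw [hec, ← hj, h1, ← hz, hzecomm]
  refine ⟨fun w hw h => ?_⟩
  rcases mem_fourSub.mp hw with h1 | h1 | h1 | h1
  · rw [h1, mul_one, mul_inv_cancel]; exact Subgroup.one_mem _
  · rw [h1, hzc h]; exact mem_fourSub.mpr (Or.inr (Or.inl rfl))
  · rw [h1]
    rcases hconje h with h' | h'
    · rw [h']; exact mem_fourSub.mpr (Or.inr (Or.inr (Or.inl rfl)))
    · rw [h']; exact mem_fourSub.mpr (Or.inr (Or.inr (Or.inr rfl)))
  · rw [h1]
    have e : h * (z * e) * h⁻¹ = (h * z * h⁻¹) * (h * e * h⁻¹) := by group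
    rw [e, hzc h]
    rcases hconje h with h' | h'
    · rw [h']; exact mem_fourSub.mpr (Or.inr (Or.inr (Or.inr rfl)))
    · rw [h', ← mul_assoc, hzz, one_mul]
      exact mem_fourSub.mpr (Or.inr (Or.inr (Or.inl rfl)))

end Cfsg.Agent.Helper4
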