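import Mathlib
import Cfsg.Agent.Lib.Helper4.NormalFour2

set_option autoImplicit false

/-!
# 2-groups without normal four-subgroups: the structure theorem (helper4)
-/

namespace Cfsg.Agent.Helper4

open Cfsg.Agent.Helper53

variable {P : Type*} [Group P] [Finite P]

/-- A finite `2`-group without normal four-subgroups is cyclic, or has a cyclic normal subgroup
`⟨a⟩` of index two and order `2^n ≥ 4` on which the elements outside act by inversion or (for
`n ≥ 3`) as `-1 + 2^(n-1)`, and `t² ∈ {1, a^(2^(n-1))}`. -/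
theorem structure_of_no_normal_four (hP : IsPGroup 2 P)
    (hno : ∀ V : Subgroup P, V.Normal → ¬ IsKleinFour V) :
    ∃ (n : ℕ) (a : P), orderOf a = 2 ^ n ∧ (Subgroup.zpowers a).Normal ∧
      ((∀ g : P, g ∈ Subgroup.zpowers a) ∨
       (2 ≤ n ∧ ∃ t : P, t ∉ Subgroup.zpowers a ∧
          (∀ g h : P, g ∉ Subgroup.zpowers a → h ∉ Subgroup.zpowers a →
            g * h ∈ Subgroup.zpowers a) ∧
          (t * a * t⁻¹ = a⁻¹ ∨ (3 ≤ n ∧ t * a * t⁻¹ = a ^ (2 ^ (n - 1) - 1))) ∧
          (t * t = 1 ∨ t * t = a ^ (2 ^ (n - 1))))) := by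
  classical
  haveI : Fact (Nat.Prime 2) := ⟨Nat.prime_two⟩
  obtain ⟨A, hAn, hAc, hCA⟩ := exists_normal_abelian_self_centralizing hP
  haveI := hAn
  have hAcyc : IsCyclic A := by
    by_contra hnc
    obtain ⟨V, hVn, hV4, -⟩ := exists_normal_four_of_normal_abelian_not_cyclic hP A hAc hnc
    exact hno V hVn hV4
  obtain ⟨a₀, ha₀⟩ := hAcyc.exists_generator
  obtain ⟨a, haa₀⟩ : ∃ a : P, a = (a₀ : P) := ⟨_, rfl⟩
  have haA : a ∈ A := by rw [haa₀]; exact a₀.2
  have hAz' : ∀ y ∈ A, y ∈ Subgroup.zpowers a := by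
    intro y hy
    obtain ⟨j, hj⟩ := Subgroup.mem_zpowers_iff.mp (ha₀ ⟨y, hy⟩)
    refine ⟨j, ?_⟩
    have := congrArg Subtype.val hj
    rw [haa₀]
    simpa using this
  have hAeq : Subgroup.zpowers a = A := le_antisymm (Subgroup.zpowers_le.mpr haA) hAz'
  obtain ⟨n, hord⟩ := IsPGroup.iff_orderOf.mp hP a
  refine ⟨n, a, hord, by rw [hAeq]; exact hAn, ?_⟩
  rw [hAeq]
  by_cases hall : ∀ g : P, g ∈ A
  · exact Or.inl hall
  right
  push Not at hall
  obtain ⟨t, ht⟩ := hall
  have hAz : ∀ y ∈ A, ∃ j : ℤ, a ^ j = y := by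
    intro y hy
    exact Subgroup.mem_zpowers_iff.mp (hAz' y hy)
  have hzA : ∀ j : ℤ, a ^ j ∈ A := fun j => A.zpow_mem haA j
  have hdvd := zpow_eq_one_iff_of_orderOf hord
  have hcent : ∀ h : P, h * a = a * h → h ∈ A := by
    intro h hh
    apply hCA
    rw [Subgroup.mem_centralizer_iff]
    intro y hy
    obtain ⟨j, rfl⟩ := hAz y hy
    exact ((Commute.zpow_right (show Commute h a from hh) j).eq).symm
  have hconj : ∀ h : P, ∃ q : ℤ, h * a * h⁻¹ = a ^ q := by
    intro h
    obtain ⟨q, hq⟩ := hAz _ (hAn.conj_mem a haA h)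
    exact ⟨q, hq.symm⟩
  have hcomm_of : ∀ h : P, h * a * h⁻¹ = a → h ∈ A := by
    intro h hh
    apply hcent
    calc h * a = (h * a * h⁻¹) * h := by group
      _ = a * h := by rw [hh]
  -- `n ≥ 2`
  have hn2 : 2 ≤ n := by
    by_contra hlt
    push Not at hlt
    apply ht
    apply hcomm_of
    have hn' : n = 0 ∨ n = 1 := by omega
    rcases hn' with h0 | h1
    · rw [h0, pow_zero, orderOf_eq_one_iff] at hord
      rw [hord, mul_one, mul_inv_cancel]
    · obtain ⟨q, hq⟩ := hconj t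
      rw [hq]
      rcases Int.even_or_odd q with ⟨m, hm⟩ | ⟨m, hm⟩
      · exfalso
        have h1' : a ^ q = 1 := by
          rw [hdvd, h1]
          exact ⟨m, by rw [hm]; ring⟩
        rw [h1'] at hq
        have : a = 1 := by
          have : a = t⁻¹ * (t * a * t⁻¹) * t := by group
          rw [this, hq]; group
        rw [this, orderOf_one, h1] at hord
        norm_num at hord
      · have : a ^ (q - 1) = 1 := by
          rw [hdvd, h1]
          exact ⟨m, by rw [hm]; ring⟩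
        rw [zpow_sub, zpow_one, mul_inv_eq_one] at this
        exact this
  refine ⟨hn2, ?_⟩
  -- (F2): elements of order two modulo `A` act by inverting type
  have hF2 : ∀ g : P, g ∉ A → g * g ∈ A → ∀ r : ℤ, g * a * g⁻¹ = a ^ r →
      ((2 : ℤ) ^ n ∣ r + 1 ∨ (3 ≤ n ∧ (2 : ℤ) ^ n ∣ r + 1 - 2 ^ (n - 1))) := by
    intro g hg hgg r hr
    have h1 : (2 ^ n : ℤ) ∣ r ^ 2 - 1 := by
      rw [← hdvd]
      have e1 : g * (g * a * g⁻¹) * g⁻¹ = a ^ (r * r) := by rw [hr, conj_zpow_of_conj hr]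
      have e2 : g * (g * a * g⁻¹) * g⁻¹ = a := by
        have hc := hAc (g * g) hgg a haA
        calc g * (g * a * g⁻¹) * g⁻¹ = (g * g * a) * (g * g)⁻¹ := by group
          _ = (a * (g * g)) * (g * g)⁻¹ := by rw [hc]
          _ = a := by group
      have e3 : a ^ (r * r) = a := by rw [← e1, e2]
      have : r ^ 2 - 1 = r * r - 1 := by ring
      rw [this, zpow_sub, zpow_one, e3, mul_inv_cancel]
    have h2 : ¬ (2 ^ n : ℤ) ∣ r - 1 := by
      intro h
      rw [← hdvd, zpow_sub, zpow_one, mul_inv_eq_one] at h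
      apply hg
      apply hcomm_of
      rw [hr, h]
    rcases ar1 n r h1 h2 with h | ⟨hn3, h | h⟩
    · exact Or.inl h
    · exact Or.inr ⟨hn3, h⟩
    · exfalso
      obtain ⟨V, hVn, hV4⟩ := normal_four_of_modular A a n hn3 hord hAeq hcent g hg hgg r hr h
      exact hno V hVn hV4
  have hF2' : ∀ g : P, g ∉ A → g * g ∈ A → ∀ r : ℤ, g * a * g⁻¹ = a ^ r → (4 : ℤ) ∣ r + 1 :=
    fun g hg hgg r hr => four_dvd_of_inv_type n hn2 r (hF2 g hg hgg r hr)
  -- (F3): every square lies in `A`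
  have hF3 : ∀ h : P, h * h ∈ A := by
    intro h
    by_contra hh
    have hex : ∃ j : ℕ, h ^ 2 ^ j ∈ A := by
      obtain ⟨f, hf⟩ := IsPGroup.iff_orderOf.mp hP h
      refine ⟨f, ?_⟩
      rw [← hf, pow_orderOf_eq_one]
      exact one_mem _
    have hj0 : Nat.find hex ≠ 0 := by
      intro h0
      have := Nat.find_spec hex
      rw [h0, pow_zero, pow_one] at this
      exact hh (mul_mem this this)
    have hj1 : Nat.find hex ≠ 1 := by
      intro h0
      have := Nat.find_spec hex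
      rw [h0, pow_one, pow_two] at this
      exact hh this
    obtain ⟨j, hj⟩ : ∃ j, Nat.find hex = j + 2 := ⟨Nat.find hex - 2, by omega⟩
    obtain ⟨h', hh'⟩ : ∃ h', h' = h ^ 2 ^ j := ⟨_, rfl⟩
    have e1 : h' * h' ∉ A := by
      have := Nat.find_min hex (m := j + 1) (by omega)
      rw [pow_succ, pow_mul, ← hh', pow_two] at this
      exact this
    have e2 : (h' * h') * (h' * h') ∈ A := by
      have := Nat.find_spec hex
      rw [hj, pow_succ, pow_succ, pow_mul, pow_mul, ← hh', pow_two, pow_two] at this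
      exact this
    obtain ⟨q, hq⟩ := hconj h'
    have e3 : (h' * h') * a * (h' * h')⁻¹ = a ^ (q * q) := by
      calc (h' * h') * a * (h' * h')⁻¹ = h' * (h' * a * h'⁻¹) * h'⁻¹ := by group
        _ = a ^ (q * q) := by rw [hq, conj_zpow_of_conj hq]
    have e4 := hF2' (h' * h') e1 e2 (q * q) e3
    have : q * q + 1 = q ^ 2 + 1 := by ring
    rw [this] at e4
    exact not_four_dvd_sq_add_one' q e4
  -- (F4): index two
  have hF4 : ∀ g h : P, g ∉ A → h ∉ A → g * h ∈ A := by
    intro g h hg hh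
    by_contra hgh
    obtain ⟨q, hq⟩ := hconj g
    obtain ⟨r, hr⟩ := hconj h
    have e1 : (g * h) * a * (g * h)⁻¹ = a ^ (q * r) := by
      calc (g * h) * a * (g * h)⁻¹ = g * (h * a * h⁻¹) * g⁻¹ := by group
        _ = a ^ (q * r) := by rw [hr, conj_zpow_of_conj hq]
    have h1 := hF2' g hg (hF3 g) q hq
    have h2 := hF2' h hh (hF3 h) r hr
    have h3 := hF2' (g * h) hgh (hF3 (g * h)) (q * r) e1
    exact not_four_dvd_mul_add_one q r h1 h2 h3
  refine ⟨t, ht, hF4, ?_, ?_⟩
  · -- the action of `t`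
    obtain ⟨r, hr⟩ := hconj t
    rcases hF2 t ht (hF3 t) r hr with h | ⟨hn3, h⟩
    · left
      rw [hr]
      rw [← hdvd, zpow_add, zpow_one] at h
      exact eq_inv_of_mul_eq_one_left h
    · right
      refine ⟨hn3, ?_⟩
      rw [hr]
      rw [← hdvd] at h
      have hpos : 1 ≤ 2 ^ (n - 1) := Nat.one_le_two_pow
      have e : ((2 ^ (n - 1) - 1 : ℕ) : ℤ) = 2 ^ (n - 1) - 1 := by
        rw [Nat.cast_sub hpos]; push_cast; ring
      rw [← zpow_natCast, e]
      have : r = (r + 1 - 2 ^ (n - 1)) + (2 ^ (n - 1) - 1) := by ring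
      rw [this, zpow_add, h, one_mul]
  · -- the square of `t`
    obtain ⟨r, hr⟩ := hconj t
    obtain ⟨s, hs⟩ := hAz _ (hF3 t)
    have h3 : (2 ^ n : ℤ) ∣ s * (r - 1) := by
      rw [← hdvd]
      have e1 : t * (t * t) * t⁻¹ = a ^ (r * s) := by rw [← hs, conj_zpow_of_conj hr]
      have e2 : t * (t * t) * t⁻¹ = t * t := by group
      have e3 : a ^ (r * s) = a ^ s := by rw [← e1, e2, hs]
      have : s * (r - 1) = r * s - s := by ring
      rw [this, zpow_sub, e3, mul_inv_cancel]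
    have h4 := ar4 n hn2 r s (hF2 t ht (hF3 t) r hr) h3
    rcases zpow_half_cases (by omega) hord s h4 with h | h
    · left; rw [← hs, h]
    · right
      rw [← hs, h, ← zpow_natCast]
      push_cast
      rfl

end Cfsg.Agent.Helper4
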