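import Mathlib
import Cfsg.Agent.Lib.Helper4.NormalFour3

set_option autoImplicit false

/-!
# 2-groups of rank at least three have normal four-subgroups (helper4)
-/

namespace Cfsg.Agent.Helper4

open Cfsg.Agent.Helper53

variable {P : Type*} [Group P] [Finite P]

theorem card_twoSub_le {z : P} (hz : z * z = 1) : Nat.card (twoSub z hz) ≤ 2 := by
  by_cases h : z = 1
  · have : twoSub z hz = ⊥ := by
      rw [eq_bot_iff]
      intro w hw
      rcases mem_twoSub.mp hw with h' | h'
      · rw [Subgroup.mem_bot]; exact h'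
      · rw [Subgroup.mem_bot, h', h]
    rw [this, Subgroup.card_bot]
    norm_num
  · rw [card_twoSub hz h]

/-- elementary abelian subgroups of a `2`-group without normal four-subgroups have order at most
four -/
theorem card_le_four_of_no_normal_four (hP : IsPGroup 2 P)
    (hno : ∀ V : Subgroup P, V.Normal → ¬ IsKleinFour V) (E : Subgroup P)
    (hexp : ∀ e ∈ E, e * e = 1) : Nat.card E ≤ 4 := by
  obtain ⟨n, a, hord, hAn, hcase⟩ := structure_of_no_normal_four hP hno
  have hdvd := zpow_eq_one_iff_of_orderOf hord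
  -- the involution candidates of `A`
  obtain ⟨z, hz⟩ : ∃ z : P, z = a ^ ((2 : ℤ) ^ (n - 1)) := ⟨_, rfl⟩
  have hinvA : ∀ y ∈ Subgroup.zpowers a, y * y = 1 → y = 1 ∨ y = z := by
    intro y hy hyy
    obtain ⟨j, rfl⟩ := Subgroup.mem_zpowers_iff.mp hy
    rcases Nat.eq_zero_or_pos n with h0 | hpos
    · left
      rw [h0, pow_zero, orderOf_eq_one_iff] at hord
      rw [hord, one_zpow]
    · have h2n : (2 : ℤ) ^ n = 2 * 2 ^ (n - 1) := by
        obtain ⟨k, rfl⟩ : ∃ k, n = k + 1 := ⟨n - 1, by omega⟩
        simp only [Nat.add_sub_cancel]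
        ring
      rw [← zpow_add, hdvd, h2n] at hyy
      have hj : (2 : ℤ) ^ (n - 1) ∣ j := by
        have : (2 : ℤ) * 2 ^ (n - 1) ∣ 2 * j := by
          have e : j + j = 2 * j := by ring
          rwa [e] at hyy
        exact (mul_dvd_mul_iff_left (by norm_num : (2 : ℤ) ≠ 0)).mp this
      rw [hz]
      exact zpow_half_cases hpos hord j hj
  by_cases hzz : z * z = 1
  swap
  · -- then `E ⊓ A` is trivial and everything is small
    have hB : ∀ y ∈ E, y ∈ Subgroup.zpowers a → y = 1 := by
      intro y hyE hyA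
      rcases hinvA y hyA (hexp y hyE) with h | h
      · exact h
      · exfalso; apply hzz; rw [← h]; exact hexp y hyE
    rcases hcase with hall | ⟨-, t, -, hF4, -, -⟩
    · have : E = ⊥ := by
        rw [eq_bot_iff]
        intro y hy
        rw [Subgroup.mem_bot]
        exact hB y hy (hall y)
      rw [this, Subgroup.card_bot]; norm_num
    · by_cases hEA : ∀ y ∈ E, y ∈ Subgroup.zpowers a
      · have : E = ⊥ := by
          rw [eq_bot_iff]
          intro y hy
          rw [Subgroup.mem_bot]
          exact hB y hy (hEA y hy)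
        rw [this, Subgroup.card_bot]; norm_num
      · push Not at hEA
        obtain ⟨e₀, he₀E, he₀A⟩ := hEA
        have hle : E ≤ twoSub e₀ (hexp e₀ he₀E) := by
          intro w hw
          rw [mem_twoSub]
          by_cases hwA : w ∈ Subgroup.zpowers a
          · left; exact hB w hw hwA
          · right
            have h1 := hF4 e₀ w he₀A hwA
            have h2 := hB _ (E.mul_mem he₀E hw) h1
            have : e₀ * w = e₀ * e₀ := by rw [h2, hexp e₀ he₀E]
            exact mul_left_cancel this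
        have := Subgroup.card_le_of_le hle
        have := card_twoSub_le (hexp e₀ he₀E)
        omega
  -- main case
  have hBle : E ⊓ Subgroup.zpowers a ≤ twoSub z hzz := by
    intro y hy
    rw [mem_twoSub]
    exact hinvA y hy.2 (hexp y hy.1)
  have hBcard : Nat.card ↥(E ⊓ Subgroup.zpowers a) ≤ 2 :=
    (Subgroup.card_le_of_le hBle).trans (card_twoSub_le hzz)
  have hsmall : (∀ y ∈ E, y ∈ Subgroup.zpowers a) → Nat.card E ≤ 4 := by
    intro hEA
    have : E ≤ E ⊓ Subgroup.zpowers a := fun y hy => ⟨hy, hEA y hy⟩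
    have := Subgroup.card_le_of_le this
    omega
  rcases hcase with hall | ⟨-, t, -, hF4, -, -⟩
  · exact hsmall (fun y _ => hall y)
  · by_cases hEA : ∀ y ∈ E, y ∈ Subgroup.zpowers a
    · exact hsmall hEA
    · push Not at hEA
      obtain ⟨e₀, he₀E, he₀A⟩ := hEA
      have hcomm := comm_of_sq_mem E hexp
      have hc : ∀ u ∈ E ⊓ Subgroup.zpowers a, e₀ * u = u * e₀ :=
        fun u hu => hcomm e₀ he₀E u hu.1
      have hEeq : E = extSub (E ⊓ Subgroup.zpowers a) e₀ (hexp e₀ he₀E) hc := by
        ext w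
        rw [mem_extSub]
        constructor
        · intro hw
          by_cases hwA : w ∈ Subgroup.zpowers a
          · exact Or.inl ⟨hw, hwA⟩
          · exact Or.inr ⟨E.mul_mem he₀E hw, hF4 e₀ w he₀A hwA⟩
        · rintro (hw | hw)
          · exact hw.1
          · have : w = e₀⁻¹ * (e₀ * w) := by group
            rw [this]
            exact E.mul_mem (E.inv_mem he₀E) hw.1
      have hnot : e₀ ∉ E ⊓ Subgroup.zpowers a := fun h => he₀A h.2
      have := card_extSub (E ⊓ Subgroup.zpowers a) e₀ (hexp e₀ he₀E) hc hnot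
      rw [← hEeq] at this
      omega

/-- A finite `2`-group containing an elementary abelian subgroup of order `8` has a normal
four-subgroup. -/
theorem exists_normal_four_of_E8 (hP : IsPGroup 2 P) (E : Subgroup P) (hE8 : Nat.card E = 8)
    (hexp : ∀ e ∈ E, e * e = 1) : ∃ V : Subgroup P, V.Normal ∧ IsKleinFour V := by
  by_contra hcon
  push Not at hcon
  have := card_le_four_of_no_normal_four hP hcon E hexp
  omega

/-- the elements of a normal four-subgroup of a `2`-group -/
theorem normal_four_data (hP : IsPGroup 2 P) (V : Subgroup P) [hVn : V.Normal]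
    (hV : IsKleinFour V) :
    ∃ z v : P, z * z = 1 ∧ v * v = 1 ∧ z ≠ 1 ∧ v ≠ 1 ∧ z ≠ v ∧ (∀ s : P, s * z = z * s) ∧
      (∀ s : P, s * v * s⁻¹ = v ∨ s * v * s⁻¹ = z * v) := by
  haveI : Fact (Nat.Prime 2) := ⟨Nat.prime_two⟩
  haveI := hV
  have hcard : Nat.card V = 4 := IsKleinFour.card_four
  have hsq : ∀ x ∈ V, x * x = 1 := by
    intro x hx
    have := IsKleinFour.mul_self (⟨x, hx⟩ : V)
    exact congrArg Subtype.val this
  have hVne : V ≠ ⊥ := by
    intro h
    rw [h, Subgroup.card_bot] at hcard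
    omega
  obtain ⟨z, hzV, hz1, hzc⟩ := exists_ne_one_mem_center_of_normal' hP V hVne
  have hzz := hsq z hzV
  have hzcomm : ∀ s : P, s * z = z * s := fun s => Subgroup.mem_center_iff.mp hzc s
  have hexv : ∃ v ∈ V, v ≠ 1 ∧ v ≠ z := by
    by_contra hcon
    push Not at hcon
    have hle : V ≤ twoSub z hzz := by
      intro w hw
      rw [mem_twoSub]
      by_cases h : w = 1
      · exact Or.inl h
      · exact Or.inr (hcon w hw h)
    have := Subgroup.card_le_of_le hle
    have := card_twoSub_le hzz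
    omega
  obtain ⟨v, hvV, hv1, hvz⟩ := hexv
  have hvv := hsq v hvV
  have hzv : z * v = v * z := (hzcomm v).symm
  have hle : fourSub z v hzz hvv hzv ≤ V := by
    intro w hw
    rcases mem_fourSub.mp hw with h | h | h | h
    · rw [h]; exact V.one_mem
    · rw [h]; exact hzV
    · rw [h]; exact hvV
    · rw [h]; exact V.mul_mem hzV hvV
  have heq : fourSub z v hzz hvv hzv = V := by
    apply Subgroup.eq_of_le_of_card_ge hle
    rw [hcard, card_fourSub hzz hvv hzv hz1 hv1 (Ne.symm hvz)]
  refine ⟨z, v, hzz, hvv, hz1, hv1, Ne.symm hvz, hzcomm, ?_⟩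
  intro s
  have h1 : s * v * s⁻¹ ∈ V := hVn.conj_mem v hvV s
  rw [← heq] at h1
  rcases mem_fourSub.mp h1 with h | h | h | h
  · exfalso
    apply hv1
    have : v = s⁻¹ * (s * v * s⁻¹) * s := by group
    rw [this, h]; group
  · exfalso
    apply hvz
    have : v = s⁻¹ * (s * v * s⁻¹) * s := by group
    rw [this, h]
    have := hzcomm s⁻¹
    rw [this]; group
  · exact Or.inl h
  · exact Or.inr h

/-- subgroup version: a `2`-subgroup `S` containing an elementary abelian subgroup of order `8`
has a central involution `z` and an involution `v ≠ z` whose `S`-conjugates lie in `{v, zv}` -/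
theorem normal_four_data_subgroup {G : Type*} [Group G] [Finite G] (S : Subgroup G)
    (hS : IsPGroup 2 S) (E : Subgroup G) (hES : E ≤ S) (hE8 : Nat.card E = 8)
    (hexp : ∀ e ∈ E, e * e = 1) :
    ∃ z v : G, z ∈ S ∧ v ∈ S ∧ z * z = 1 ∧ v * v = 1 ∧ z ≠ 1 ∧ v ≠ 1 ∧ z ≠ v ∧
      (∀ s ∈ S, s * z = z * s) ∧ (∀ s ∈ S, s * v * s⁻¹ = v ∨ s * v * s⁻¹ = z * v) := by
  have hE8' : Nat.card (E.subgroupOf S) = 8 := by
    rw [← hE8]
    exact Nat.card_congr (Subgroup.subgroupOfEquivOfLe hES).toEquiv
  have hexp' : ∀ e ∈ E.subgroupOf S, e * e = 1 := by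
    intro e he
    apply Subtype.ext
    exact hexp e.1 (Subgroup.mem_subgroupOf.mp he)
  obtain ⟨V, hVn, hV4⟩ := exists_normal_four_of_E8 hS (E.subgroupOf S) hE8' hexp'
  obtain ⟨z, v, hzz, hvv, hz1, hv1, hzv, hzc, hconj⟩ := normal_four_data hS V hV4
  refine ⟨z.1, v.1, z.2, v.2, congrArg Subtype.val hzz, congrArg Subtype.val hvv, ?_, ?_, ?_, ?_, ?_⟩
  · intro h; exact hz1 (Subtype.ext h)
  · intro h; exact hv1 (Subtype.ext h)
  · intro h; exact hzv (Subtype.ext h)
  · intro s hs
    exact congrArg Subtype.val (hzc ⟨s, hs⟩)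
  · intro s hs
    rcases hconj ⟨s, hs⟩ with h | h
    · left; exact congrArg Subtype.val h
    · right; exact congrArg Subtype.val h

end Cfsg.Agent.Helper4
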