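import Mathlib
import Cfsg.Agent.Lib.Helper7.M11UDefs

/-!
Shared tools for helper4's pieces of helper7's lemma server "M11U" (row S0420).
-/

set_option autoImplicit false

namespace Cfsg.Agent.Helper4.M11U

open Subgroup Cfsg.Agent.Helper7.M11U
open scoped Pointwise

variable {G : Type*} [Group G]

theorem h4_mem_smul {g x : G} {P : Sylow 3 G} :
    x ∈ ((g • P : Sylow 3 G) : Subgroup G) ↔ g⁻¹ * x * g ∈ (P : Subgroup G) := by
  rw [Sylow.coe_subgroup_smul, Subgroup.mem_pointwise_smul_iff_inv_smul_mem, MulAut.smul_def,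
    ← map_inv, MulAut.conj_apply, inv_inv]

theorem h4_conj_mem_smul {g x : G} {P : Sylow 3 G} (hx : x ∈ (P : Subgroup G)) :
    g * x * g⁻¹ ∈ ((g • P : Sylow 3 G) : Subgroup G) := by
  rw [h4_mem_smul]
  have : g⁻¹ * (g * x * g⁻¹) * g = x := by group
  rw [this]; exact hx

theorem h4_inverts_smul {t g : G} {P : Sylow 3 G} (h : Inverts t (P : Subgroup G)) :
    Inverts (g * t * g⁻¹) ((g • P : Sylow 3 G) : Subgroup G) := by
  intro x hx
  rw [h4_mem_smul] at hx
  have := h _ hx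
  calc g * t * g⁻¹ * x * (g * t * g⁻¹)⁻¹ = g * (t * (g⁻¹ * x * g) * t⁻¹) * g⁻¹ := by group
    _ = g * (g⁻¹ * x * g)⁻¹ * g⁻¹ := by rw [this]
    _ = x⁻¹ := by group

theorem h4_orderOf_conj (t g : G) : orderOf (g * t * g⁻¹) = orderOf t := by
  have : g * t * g⁻¹ = MulAut.conj g t := (MulAut.conj_apply g t).symm
  rw [this]
  exact orderOf_injective (MulAut.conj g).toMonoidHom (MulAut.conj g).injective t

theorem h4_adj_smul {X Y : Sylow 3 G} (g : G) (h : Adj X Y) : Adj (g • X) (g • Y) := by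
  obtain ⟨hne, t, ht, h1, h2⟩ := h
  refine ⟨fun he => hne ?_, g * t * g⁻¹, ?_, h4_inverts_smul h1, h4_inverts_smul h2⟩
  · have := congrArg (fun Z => g⁻¹ • Z) he
    simpa using this
  · rw [h4_orderOf_conj]; exact ht

theorem h4_adj_smul_iff {X Y : Sylow 3 G} (g : G) : Adj (g • X) (g • Y) ↔ Adj X Y := by
  constructor
  · intro h
    have := h4_adj_smul g⁻¹ h
    simpa using this
  · exact h4_adj_smul g

theorem h4_adj_symm {X Y : Sylow 3 G} (h : Adj X Y) : Adj Y X := by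
  obtain ⟨hne, t, ht, h1, h2⟩ := h
  exact ⟨hne.symm, t, ht, h2, h1⟩

theorem h4_smul_smul_of_mem_normalizer {o r : G} {P : Sylow 3 G}
    (ho : o ∈ normalizer ((P : Subgroup G) : Set G)) : o • (r • P) = (o * r * o⁻¹) • P := by
  have h1 : o • P = P := Sylow.smul_eq_iff_mem_normalizer.mpr ho
  calc o • (r • P) = (o * r) • P := (mul_smul o r P).symm
    _ = (o * r * o⁻¹ * o) • P := by congr 1; group
    _ = (o * r * o⁻¹) • (o • P) := mul_smul _ _ _
    _ = (o * r * o⁻¹) • P := by rw [h1]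

end Cfsg.Agent.Helper4.M11U
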