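import Mathlib
import Cfsg.Agent.Lib.Helper7.M11UDefs
import Cfsg.Agent.Lib.Helper4.M11UTools

/-!
Piece (G6a) `counts_of_nanb` of helper7's lemma server "M11U" (row S0420).
-/

set_option autoImplicit false

namespace Cfsg.Agent.Helper4.M11U

open Subgroup Cfsg.Agent.Helper7.M11U
open scoped Pointwise

/-- pure counting: in a `18`-regular graph on `55` vertices, if `x` has exactly one common neighbour
with each of its neighbours and `m` common neighbours with every other vertex, then `m = 8`. -/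
theorem h4_mu_count {V : Type*} [Finite V] (adj : V → V → Prop)
    (hsymm : ∀ x y, adj x y → adj y x) (hirr : ∀ x, ¬ adj x x) (hV : Nat.card V = 55)
    (hk : ∀ x, Nat.card {y // adj x y} = 18) (x : V)
    (hl : ∀ y, adj x y → Nat.card {z // adj x z ∧ adj y z} = 1) (m : ℕ)
    (hm : ∀ w, w ≠ x → ¬ adj x w → Nat.card {z // adj x z ∧ adj w z} = m) : m = 8 := by
  classical
  haveI := Fintype.ofFinite V
  have hk' : ∀ y, (Finset.univ.filter (fun w => adj y w)).card = 18 := by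
    intro y; rw [← hk y, Nat.card_eq_fintype_card, Fintype.card_subtype]
  set f : V → ℕ := fun w => (Finset.univ.filter (fun z => adj x z ∧ adj w z)).card with hf
  have hfx : f x = 18 := by
    simp only [hf, and_self]; exact hk' x
  have hfl : ∀ w, adj x w → f w = 1 := by
    intro w hw; rw [← hl w hw, Nat.card_eq_fintype_card, Fintype.card_subtype]
  have hfm : ∀ w, w ≠ x → ¬ adj x w → f w = m := by
    intro w h1 h2; rw [← hm w h1 h2, Nat.card_eq_fintype_card, Fintype.card_subtype]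
  have hsum1 : ∑ w, f w = 18 * 18 := by
    simp only [hf, Finset.card_filter]
    rw [Finset.sum_comm]
    have : ∀ z, (∑ w, if adj x z ∧ adj w z then 1 else 0) = if adj x z then 18 else 0 := by
      intro z
      by_cases hz : adj x z
      · simp only [hz, true_and, if_true]
        rw [← Finset.card_filter, ← hk' z]
        congr 1; ext w
        simp only [Finset.mem_filter, Finset.mem_univ, true_and]
        exact ⟨hsymm _ _, hsymm _ _⟩
      · simp [hz]
    simp only [this]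
    rw [← Finset.sum_filter, Finset.sum_const, hk' x]; rfl
  have hpt : ∀ w, f w = 18 * (if w = x then 1 else 0) + (if adj x w then 1 else 0) +
      m * (if (w ≠ x ∧ ¬ adj x w) then 1 else 0) := by
    intro w
    by_cases h1 : w = x
    · subst h1; simp [hfx, hirr]
    · by_cases h2 : adj x w
      · simp [h1, h2, hfl w h2]
      · simp [h1, h2, hfm w h1 h2]
  have hone : ∀ w, (if w = x then 1 else 0) + (if adj x w then 1 else 0) +
      (if (w ≠ x ∧ ¬ adj x w) then 1 else 0) = 1 := by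
    intro w
    by_cases h1 : w = x
    · subst h1; simp [hirr]
    · by_cases h2 : adj x w
      · simp [h1, h2]
      · simp [h1, h2]
  have hA : (∑ w : V, if w = x then 1 else 0) = 1 := by simp
  have hB : (∑ w : V, if adj x w then 1 else 0) = 18 := by
    rw [← Finset.card_filter]; exact hk' x
  have hV' : (∑ _w : V, 1) = 55 := by
    rw [Finset.sum_const, Finset.card_univ, ← Nat.card_eq_fintype_card, hV]; rfl
  have hC : (∑ w : V, if (w ≠ x ∧ ¬ adj x w) then 1 else 0) = 36 := by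
    have := Finset.sum_congr (rfl : (Finset.univ : Finset V) = Finset.univ) (fun w _ => hone w)
    rw [Finset.sum_add_distrib, Finset.sum_add_distrib, hA, hB, hV'] at this
    omega
  have htot := Finset.sum_congr (rfl : (Finset.univ : Finset V) = Finset.univ) (fun w _ => hpt w)
  rw [Finset.sum_add_distrib, Finset.sum_add_distrib, ← Finset.mul_sum, ← Finset.mul_sum,
    hA, hB, hC, hsum1] at htot
  omega

variable {G : Type*} [Group G] [Finite G] {t : G} {R R2 R3 : Sylow 3 G}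

theorem h4_adj_smul_left {X Y : Sylow 3 G} (g : G) : Adj (g • X) Y ↔ Adj X (g⁻¹ • Y) := by
  rw [← h4_adj_smul_iff g⁻¹, inv_smul_smul]

theorem h4_card_nbr_smul (g : G) (X : Sylow 3 G) :
    Nat.card {Y : Sylow 3 G // Adj (g • X) Y} = Nat.card {Y : Sylow 3 G // Adj X Y} :=
  Nat.card_congr (Equiv.subtypeEquiv (MulAction.toPerm g⁻¹) (fun Z => by
    rw [h4_adj_smul_left]; rfl))

theorem h4_card_common_smul (g : G) (X Y : Sylow 3 G) :
    Nat.card {Z : Sylow 3 G // Adj (g • X) Z ∧ Adj (g • Y) Z} =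
      Nat.card {Z : Sylow 3 G // Adj X Z ∧ Adj Y Z} :=
  Nat.card_congr (Equiv.subtypeEquiv (MulAction.toPerm g⁻¹) (fun Z => by
    rw [h4_adj_smul_left, h4_adj_smul_left]; rfl))

theorem h4_card_nbr_R (L : Loc G) (T : Tri t R R2 R3)
    (hadj : ∀ (t' : G) (P P2 P3 : Sylow 3 G), Tri t' P P2 P3 →
      (∀ X : Sylow 3 G, Adj P X ↔ ∃ r ∈ (P : Subgroup G), X = r • P2 ∨ X = r • P3) ∧
      (∀ r ∈ (P : Subgroup G), ∀ r' ∈ (P : Subgroup G), r • P2 ≠ r' • P3) ∧
      (∀ r ∈ (P : Subgroup G), ∀ r' ∈ (P : Subgroup G), r • P2 = r' • P2 → r = r')) :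
    Nat.card {Y : Sylow 3 G // Adj R Y} = 18 := by
  obtain ⟨h1, h2, h3⟩ := hadj t R R2 R3 T
  obtain ⟨-, -, h3'⟩ := hadj t R R3 R2 ⟨T.ht, T.i1, T.i3, T.i2, T.ne13, T.ne12, T.ne23.symm⟩
  let φ : ↥(R : Subgroup G) × Bool → {Y : Sylow 3 G // Adj R Y} := fun p =>
    if p.2 then ⟨p.1.1 • R2, (h1 _).mpr ⟨p.1.1, p.1.2, Or.inl rfl⟩⟩
    else ⟨p.1.1 • R3, (h1 _).mpr ⟨p.1.1, p.1.2, Or.inr rfl⟩⟩
  have hφ : Function.Bijective φ := by
    constructor
    · rintro ⟨⟨r, hr⟩, b⟩ ⟨⟨r', hr'⟩, b'⟩ h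
      cases b <;> cases b'
      · have h' : r • R3 = r' • R3 := congrArg Subtype.val h
        have := h3' r hr r' hr' h'
        subst this; rfl
      · have h' : r • R3 = r' • R2 := congrArg Subtype.val h
        exact absurd h'.symm (h2 r' hr' r hr)
      · have h' : r • R2 = r' • R3 := congrArg Subtype.val h
        exact absurd h' (h2 r hr r' hr')
      · have h' : r • R2 = r' • R2 := congrArg Subtype.val h
        have := h3 r hr r' hr' h'
        subst this; rfl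
    · rintro ⟨Y, hY⟩
      obtain ⟨r, hr, h | h⟩ := (h1 Y).mp hY
      · exact ⟨(⟨r, hr⟩, true), Subtype.ext h.symm⟩
      · exact ⟨(⟨r, hr⟩, false), Subtype.ext h.symm⟩
  rw [← Nat.card_congr (Equiv.ofBijective φ hφ), Nat.card_prod, L.card3 R]
  simp

theorem counts_of_nanb (B : Base G) (L : Loc G) (T : Tri t R R2 R3) (Cf : Conf t R R2 R3)
    (hadj : ∀ (t' : G) (P P2 P3 : Sylow 3 G), Tri t' P P2 P3 →
      (∀ X : Sylow 3 G, Adj P X ↔ ∃ r ∈ (P : Subgroup G), X = r • P2 ∨ X = r • P3) ∧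
      (∀ r ∈ (P : Subgroup G), ∀ r' ∈ (P : Subgroup G), r • P2 ≠ r' • P3) ∧
      (∀ r ∈ (P : Subgroup G), ∀ r' ∈ (P : Subgroup G), r • P2 = r' • P2 → r = r'))
    (htr : ∀ X Y : Sylow 3 G, X ≠ R → ¬ Adj R X → Y ≠ R → ¬ Adj R Y →
      ∃ n : G, n ∈ normalizer ((R : Subgroup G) : Set G) ∧ n • X = Y)
    (hna : ∀ r ∈ (R : Subgroup G), r ≠ 1 → ¬ Adj R2 (r • R2))
    (hnb : ∀ r ∈ (R : Subgroup G), r ≠ 1 → ¬ Adj R2 (r • R3)) :
    (∀ X : Sylow 3 G, Nat.card {Y : Sylow 3 G // Adj X Y} = 18) ∧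
    (∀ X Y : Sylow 3 G, Adj X Y → Nat.card {Z : Sylow 3 G // Adj X Z ∧ Adj Y Z} = 1) ∧
    (∀ X Y : Sylow 3 G, X ≠ Y → ¬ Adj X Y → Nat.card {Z : Sylow 3 G // Adj X Z ∧ Adj Y Z} = 8) := by
  haveI : Fact (Nat.Prime 3) := ⟨by norm_num⟩
  obtain ⟨h1, h2, h3⟩ := hadj t R R2 R3 T
  have htrans : ∀ X : Sylow 3 G, ∃ g : G, g • R = X := fun X => MulAction.exists_smul_eq G R X
  -- (k)
  have hk : ∀ X : Sylow 3 G, Nat.card {Y : Sylow 3 G // Adj X Y} = 18 := by
    intro X
    obtain ⟨g, rfl⟩ := htrans X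
    rw [h4_card_nbr_smul]
    exact h4_card_nbr_R L T hadj
  -- transitivity on ordered adjacent pairs
  have hpair : ∀ X Y : Sylow 3 G, Adj X Y → ∃ g : G, g • R = X ∧ g • R2 = Y := by
    intro X Y hXY
    obtain ⟨g₁, rfl⟩ := htrans X
    have hY' : Adj R (g₁⁻¹ • Y) := (h4_adj_smul_left g₁).mp hXY
    obtain ⟨r, hr, h | h⟩ := (h1 _).mp hY'
    · refine ⟨g₁ * r, ?_, ?_⟩
      · rw [mul_smul, Sylow.smul_eq_iff_mem_normalizer.mpr (le_normalizer hr)]
      · rw [mul_smul, ← h, smul_inv_smul]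
    · obtain ⟨s, hsN, -, hs2, -⟩ := Cf.sw23
      refine ⟨g₁ * r * s, ?_, ?_⟩
      · rw [mul_smul, mul_smul, Sylow.smul_eq_iff_mem_normalizer.mpr hsN,
          Sylow.smul_eq_iff_mem_normalizer.mpr (le_normalizer hr)]
      · rw [mul_smul, mul_smul, hs2, ← h, smul_inv_smul]
  have hAdjR3 : Adj R R3 := ⟨T.ne13, t, T.ht, T.i1, T.i3⟩
  have hAdjR23 : Adj R2 R3 := ⟨T.ne23, t, T.ht, T.i2, T.i3⟩
  -- (lambda) at the base pair
  have hl0 : Nat.card {Z : Sylow 3 G // Adj R Z ∧ Adj R2 Z} = 1 := by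
    rw [Nat.card_eq_one_iff_unique]
    refine ⟨⟨?_⟩, ⟨⟨R3, hAdjR3, hAdjR23⟩⟩⟩
    have key : ∀ Z : Sylow 3 G, Adj R Z → Adj R2 Z → Z = R3 := by
      intro Z hZ1 hZ2
      obtain ⟨r, hr, h | h⟩ := (h1 Z).mp hZ1
      · by_cases hr1 : r = 1
        · subst hr1
          rw [one_smul] at h
          exact absurd h.symm hZ2.1
        · rw [h] at hZ2
          exact absurd hZ2 (hna r hr hr1)
      · by_cases hr1 : r = 1
        · subst hr1
          rw [one_smul] at h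
          exact h
        · rw [h] at hZ2
          exact absurd hZ2 (hnb r hr hr1)
    rintro ⟨Z, hZ1, hZ2⟩ ⟨Z', hZ1', hZ2'⟩
    apply Subtype.ext
    show Z = Z'
    rw [key Z hZ1 hZ2, key Z' hZ1' hZ2']
  have hl : ∀ X Y : Sylow 3 G, Adj X Y → Nat.card {Z : Sylow 3 G // Adj X Z ∧ Adj Y Z} = 1 := by
    intro X Y hXY
    obtain ⟨g, rfl, rfl⟩ := hpair X Y hXY
    rw [h4_card_common_smul]
    exact hl0
  refine ⟨hk, hl, ?_⟩
  intro X Y hne hnadj
  obtain ⟨g, rfl⟩ := htrans X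
  have hW : ∃ W : Sylow 3 G, g • W = Y := ⟨g⁻¹ • Y, smul_inv_smul g Y⟩
  obtain ⟨W, rfl⟩ := hW
  rw [h4_card_common_smul]
  have hWR : W ≠ R := fun h => hne (by rw [h])
  have hWadj : ¬ Adj R W := fun h => hnadj ((h4_adj_smul_iff g).mpr h)
  refine h4_mu_count (V := Sylow 3 G) Adj (fun _ _ => h4_adj_symm) (fun X h => h.1 rfl) L.n55 hk R
    (fun Y hY => hl R Y hY) _ ?_
  intro W' hW'R hW'adj
  obtain ⟨n, hn, rfl⟩ := htr W W' hWR hWadj hW'R hW'adj
  have hnR : n • R = R := Sylow.smul_eq_iff_mem_normalizer.mpr hn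
  have h := h4_card_common_smul n R W
  rw [hnR] at h
  exact h
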