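import Mathlib
import Cfsg.Prelude.Def_Transfer
import Cfsg.Agent.Lib.Helper24.CYCDefs

/-!
Piece (G1) `fpf_cyclic` of helper24's lemma server "CYC" (row S4016).
-/

set_option autoImplicit false

namespace Cfsg.Agent.Helper4.CYC

open Subgroup Cfsg.Agent.Helper24.CYC

universe u

variable {G : Type u} [Group G] [Finite G] {p : ℕ} [Fact p.Prime]

theorem fpf_cyclic (Q : Subgroup G) (hQ : IsPGroup p Q) (hcyc : IsCyclic Q) (x : G) (hx : x ∈ nrm Q)
    (hxp : (orderOf x).Coprime p) (a : G) (ha : a ∈ Q) (ha1 : a ≠ 1) (hxa : x * a = a * x) :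
    ∀ b ∈ Q, x * b = b * x := by
  have hp : p.Prime := Fact.out
  obtain ⟨⟨g, hgQ⟩, hg⟩ := hcyc.exists_generator
  have hpow : ∀ b ∈ Q, ∃ k : ℕ, g ^ k = b := by
    intro b hb
    have h1 := hg ⟨b, hb⟩
    rw [← mem_powers_iff_mem_zpowers] at h1
    obtain ⟨k, hk⟩ := h1
    exact ⟨k, by simpa using congrArg Subtype.val hk⟩
  obtain ⟨n, hn⟩ : ∃ n, orderOf g = p ^ n := by
    obtain ⟨k, hk⟩ := hQ ⟨g, hgQ⟩
    have h1 : g ^ (p ^ k) = 1 := by simpa using congrArg Subtype.val hk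
    have h2 := orderOf_dvd_of_pow_eq_one h1
    obtain ⟨n, -, hn⟩ := (Nat.dvd_prime_pow hp).mp h2
    exact ⟨n, hn⟩
  have hconj : x * g * x⁻¹ ∈ Q := (mem_normalizer_iff.mp hx g).mp hgQ
  obtain ⟨m, hm⟩ := hpow _ hconj
  obtain ⟨i, hi⟩ := hpow a ha
  have hg1 : g ≠ 1 := by
    rintro rfl
    apply ha1
    rw [← hi, one_pow]
  have hiter : ∀ j : ℕ, x ^ j * g * (x ^ j)⁻¹ = g ^ (m ^ j) := by
    intro j
    induction j with
    | zero => simp
    | succ j ih =>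
      calc x ^ (j + 1) * g * (x ^ (j + 1))⁻¹ = x * (x ^ j * g * (x ^ j)⁻¹) * x⁻¹ := by
            rw [pow_succ']; group
        _ = x * g ^ (m ^ j) * x⁻¹ := by rw [ih]
        _ = (x * g * x⁻¹) ^ (m ^ j) := by rw [conj_pow]
        _ = g ^ (m ^ (j + 1)) := by rw [← hm, ← pow_mul, pow_succ']
  -- the congruence
  have hcong : m * i ≡ i [MOD p ^ n] := by
    rw [← hn, ← pow_eq_pow_iff_modEq]
    have h1 : x * a * x⁻¹ = a := by rw [hxa]; group
    rw [← hi, ← conj_pow, ← hm, ← pow_mul] at h1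
    exact h1
  have hni : ¬ p ^ n ∣ i := by
    intro h
    apply ha1
    rw [← hi, ← hn] at *
    exact orderOf_dvd_iff_pow_eq_one.mp h
  have hm0 : m ≠ 0 := by
    rintro rfl
    rw [pow_zero] at hm
    apply hg1
    have : g = x⁻¹ * (x * g * x⁻¹) * x := by group
    rw [this, ← hm]; group
  have hn0 : n ≠ 0 := by
    rintro rfl
    rw [pow_zero, orderOf_eq_one_iff] at hn
    exact hg1 hn
  have hpm : p ∣ m - 1 := by
    by_contra hnd
    have hcop : Nat.Coprime (p ^ n) (m - 1) := ((Nat.Prime.coprime_iff_not_dvd hp).mpr hnd).pow_left n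
    have hle : i ≤ m * i := Nat.le_mul_of_pos_left i (Nat.pos_of_ne_zero hm0)
    have h1 : p ^ n ∣ m * i - i := (Nat.modEq_iff_dvd' hle).mp hcong.symm
    have h2 : m * i - i = i * (m - 1) := by
      rw [Nat.mul_sub, mul_one, mul_comm]
    rw [h2] at h1
    exact hni (hcop.dvd_of_dvd_mul_right h1)
  have hpmZ : (p : ℤ) ∣ (m : ℤ) - 1 := by
    have : ((m - 1 : ℕ) : ℤ) = (m : ℤ) - 1 := by
      rw [Nat.cast_sub (Nat.one_le_iff_ne_zero.mpr hm0)]; simp
    rw [← this]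
    exact Int.natCast_dvd_natCast.mpr hpm
  obtain ⟨k, rfl⟩ : ∃ k, n = k + 1 := Nat.exists_eq_succ_of_ne_zero hn0
  have hlte := dvd_sub_pow_of_dvd_sub hpmZ k
  rw [one_pow] at hlte
  have hcong2 : 1 ≡ m ^ p ^ k [MOD p ^ (k + 1)] := by
    rw [Nat.modEq_iff_dvd]
    push_cast
    exact hlte
  have hy : x ^ p ^ k * g * (x ^ p ^ k)⁻¹ = g := by
    rw [hiter, ← hn] at *
    have := (pow_eq_pow_iff_modEq (x := g)).mpr hcong2
    rw [← this, pow_one]
  have hcopx : (p ^ k).Coprime (orderOf x) := (hxp.symm).pow_left k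
  obtain ⟨c, hc⟩ := exists_pow_eq_self_of_coprime hcopx
  have hyg : Commute (x ^ p ^ k) g := by
    have : x ^ p ^ k * g = g * x ^ p ^ k := by
      calc x ^ p ^ k * g = (x ^ p ^ k * g * (x ^ p ^ k)⁻¹) * x ^ p ^ k := by group
        _ = g * x ^ p ^ k := by rw [hy]
    exact this
  have hxg : Commute x g := by
    rw [← hc]; exact hyg.pow_left c
  intro b hb
  obtain ⟨j, rfl⟩ := hpow b hb
  exact (hxg.pow_right j)
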