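import Mathlib
import Cfsg.Prelude.Def_Transfer
import Cfsg.Agent.Lib.Helper24.CYCDefs
import Cfsg.Agent.Lib.Helper4.CYCG1

/-!
Piece (G3) `inverts_cyclic` of helper24's lemma server "CYC" (row S4016).
-/

set_option autoImplicit false

namespace Cfsg.Agent.Helper4.CYC

open Subgroup Cfsg.Agent.Helper24.CYC

universe u

variable {G : Type u} [Group G] [Finite G] {p : ℕ} [Fact p.Prime]

omit [Finite G] [Fact p.Prime] in
theorem h4_comm_of_cyclic (Q : Subgroup G) (hcyc : IsCyclic Q) :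
    ∀ u ∈ Q, ∀ v ∈ Q, u * v = v * u := by
  intro u hu v hv
  haveI := hcyc
  have := (isMulCommutative_iff.mp (inferInstance : IsMulCommutative Q)) ⟨u, hu⟩ ⟨v, hv⟩
  exact congrArg Subtype.val this

theorem inverts_cyclic (hp : p ≠ 2) (Q : Subgroup G) (hQ : IsPGroup p Q) (hcyc : IsCyclic Q) (s : G)
    (hs : s ∈ nrm Q) (hs2 : s * s = 1) (hsc : ∃ a ∈ Q, s * a ≠ a * s) :
    ∀ b ∈ Q, s * b * s⁻¹ = b⁻¹ := by
  intro b hb
  by_contra hne
  have hsb : s * b * s⁻¹ ∈ Q := (mem_normalizer_iff.mp hs b).mp hb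
  have hcQ : b * (s * b * s⁻¹) ∈ Q := Q.mul_mem hb hsb
  have hc1 : b * (s * b * s⁻¹) ≠ 1 := by
    intro h
    exact hne (eq_inv_of_mul_eq_one_right h)
  have hcomm := h4_comm_of_cyclic Q hcyc
  have hsinv : s⁻¹ = s := inv_eq_of_mul_eq_one_left hs2
  have hsc' : s * (b * (s * b * s⁻¹)) = (b * (s * b * s⁻¹)) * s := by
    have h1 : s * (b * (s * b * s⁻¹)) = (s * b * s⁻¹) * (s * s) * b * s⁻¹ := by group
    rw [h1, hs2, mul_one, hcomm _ hsb _ hb]
    rw [hsinv]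
  have hso : (orderOf s).Coprime p := by
    have h2 : orderOf s ∣ 2 := orderOf_dvd_of_pow_eq_one (by rw [pow_two]; exact hs2)
    have h2p : Nat.Coprime 2 p := (Nat.coprime_primes Nat.prime_two Fact.out).mpr (Ne.symm hp)
    exact Nat.Coprime.coprime_dvd_left h2 h2p
  obtain ⟨a, haQ, hsa⟩ := hsc
  exact hsa (fpf_cyclic Q hQ hcyc s hs hso _ hcQ hc1 hsc' a haQ)

end Cfsg.Agent.Helper4.CYC
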