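import Mathlib
import Cfsg.Prelude.Def_Transfer
import Cfsg.Agent.Lib.Helper24.CYCDefs
import Cfsg.Agent.Lib.Helper4.CYCTools
import Cfsg.Agent.Lib.Helper4.CYCG3

/-!
Piece (G2) `exists_hom_units` of helper24's lemma server "CYC" (row S4016).
-/

set_option autoImplicit false

namespace Cfsg.Agent.Helper4.CYC

open Subgroup Cfsg.Agent.Helper24.CYC

universe u

variable {G : Type u} [Group G] [Finite G] {p : ℕ} [Fact p.Prime]

/-- the kernel of `(ZMod (p^(n+1)))ˣ → (ZMod p)ˣ` has exponent dividing `p^n`. -/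
theorem h4_unitsMap_ker_pow (N n : ℕ) (hN : N = p ^ (n + 1)) (h : p ∣ N) (z : (ZMod N)ˣ)
    (hz : ZMod.unitsMap h z = 1) : z ^ (p ^ n) = 1 := by
  subst hN
  have hp : p.Prime := Fact.out
  haveI : NeZero (p ^ (n + 1)) := ⟨pow_ne_zero _ hp.ne_zero⟩
  haveI : NeZero p := ⟨hp.ne_zero⟩
  have hsurj : Function.Surjective (ZMod.unitsMap h) := ZMod.unitsMap_surjective h
  have hcardK : Nat.card (ZMod.unitsMap h).ker = p ^ n := by
    have h1 := Subgroup.card_mul_index (ZMod.unitsMap h).ker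
    have c1 : Nat.card (ZMod (p ^ (n + 1)))ˣ = p ^ n * (p - 1) := by
      rw [Nat.card_eq_fintype_card, ZMod.card_units_eq_totient, Nat.totient_prime_pow_succ hp]
    have c2 : Nat.card (ZMod p)ˣ = p - 1 := by
      rw [Nat.card_eq_fintype_card, ZMod.card_units_eq_totient, Nat.totient_prime hp]
    rw [Subgroup.index_ker, MonoidHom.range_eq_top.mpr hsurj, Subgroup.card_top, c1, c2] at h1
    exact Nat.eq_of_mul_eq_mul_right (Nat.sub_pos_of_lt hp.one_lt) h1
  have hzk : z ∈ (ZMod.unitsMap h).ker := hz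
  have h2 := pow_card_eq_one' (G := (ZMod.unitsMap h).ker) (x := ⟨z, hzk⟩)
  rw [hcardK] at h2
  exact congrArg Subtype.val h2

theorem exists_hom_units (P : Sylow p G) (hcyc : IsCyclic P) :
    ∃ f : ↥(NP P) →* (ZMod p)ˣ, ∀ x : ↥(NP P), f x = 1 ↔ (x : G) ∈ CP P := by
  have hp : p.Prime := Fact.out
  by_cases hbot : (P : Subgroup G) = ⊥
  · refine ⟨1, fun x => ⟨fun _ => ?_, fun _ => rfl⟩⟩
    rw [mem_centralizer_iff]
    intro b hb
    have hb' : b ∈ (P : Subgroup G) := hb
    rw [hbot, mem_bot] at hb'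
    rw [hb', one_mul, mul_one]
  · set P' : Subgroup ↥(NP P) := (P : Subgroup G).subgroupOf (NP P) with hP'
    haveI hnorm : P'.Normal := normal_in_normalizer
    let e0 : ↥P' ≃* ↥(P : Subgroup G) := subgroupOfEquivOfLe le_normalizer
    haveI hcyc' : IsCyclic ↥P' := (e0.isCyclic).mpr hcyc
    have hcard0 : Nat.card ↥P' = Nat.card (P : Subgroup G) := Nat.card_congr e0.toEquiv
    obtain ⟨n', hn'⟩ := (P.isPGroup').exists_card_eq
    have hn0 : n' ≠ 0 := by
      rintro rfl
      rw [pow_zero] at hn'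
      exact hbot ((P : Subgroup G).eq_bot_of_card_eq hn')
    obtain ⟨n, rfl⟩ := Nat.exists_eq_succ_of_ne_zero hn0
    have hcard : Nat.card ↥P' = p ^ (n + 1) := hcard0.trans hn'
    have hdvd : p ∣ Nat.card ↥P' := by rw [hcard]; exact dvd_pow_self p (Nat.succ_ne_zero n)
    let φ : ↥(NP P) →* MulAut ↥P' := MulAut.conjNormal
    let e := IsCyclic.mulAutMulEquiv ↥P'
    let f : ↥(NP P) →* (ZMod p)ˣ := (ZMod.unitsMap hdvd).comp (e.toMonoidHom.comp φ)
    have hφ : ∀ x : ↥(NP P), φ x = 1 ↔ (x : G) ∈ CP P := by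
      intro x
      constructor
      · intro h
        rw [mem_centralizer_iff]
        intro b hb
        have hbN : b ∈ NP P := le_normalizer hb
        have hbP' : (⟨b, hbN⟩ : ↥(NP P)) ∈ P' := by
          rw [hP', mem_subgroupOf]; exact hb
        have h1 : ((φ x ⟨⟨b, hbN⟩, hbP'⟩ : ↥P') : ↥(NP P)) = x * ⟨b, hbN⟩ * x⁻¹ :=
          MulAut.conjNormal_apply x _
        rw [h] at h1
        have h2 : b = (x : G) * b * (x : G)⁻¹ := congrArg (fun w : ↥(NP P) => (w : G)) h1
        calc b * (x : G) = ((x : G) * b * (x : G)⁻¹) * (x : G) := by rw [← h2]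
          _ = (x : G) * b := by group
      · intro h
        rw [mem_centralizer_iff] at h
        ext b
        have hb : ((b : ↥(NP P)) : G) ∈ (P : Subgroup G) := by
          have h0 : (b : ↥(NP P)) ∈ (P : Subgroup G).subgroupOf (NP P) := b.2
          exact mem_subgroupOf.mp h0
        have h1 : ((φ x b : ↥P') : ↥(NP P)) = x * (b : ↥(NP P)) * x⁻¹ :=
          MulAut.conjNormal_apply x _
        have h2 := h _ hb
        show (((φ x b : ↥P') : ↥(NP P)) : G) = _
        rw [h1]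
        show (x : G) * ((b : ↥(NP P)) : G) * (x : G)⁻¹ = _
        rw [← h2]
        simp
    refine ⟨f, fun x => ⟨fun hfx => ?_, fun hx => ?_⟩⟩
    · obtain ⟨u, v, hu, hv, hy, ⟨k, huk⟩, hvp⟩ := h4_decomp p (x : G)
      have huN : u ∈ NP P := (zpowers_le.mpr x.2) hu
      have hvN : v ∈ NP P := (zpowers_le.mpr x.2) hv
      have huP := h4_pelt_mem P huN huk
      have huC : u ∈ CP P := by
        rw [mem_centralizer_iff]
        intro b hb
        exact h4_comm_of_cyclic (P : Subgroup G) hcyc b hb u huP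
      have hfu : f ⟨u, huN⟩ = 1 := by
        have := (hφ ⟨u, huN⟩).mpr huC
        simp [f, this]
      have hxuv : x = ⟨u, huN⟩ * ⟨v, hvN⟩ := Subtype.ext hy
      have hfv : f ⟨v, hvN⟩ = 1 := by
        rw [hxuv, map_mul, hfu, one_mul] at hfx
        exact hfx
      have hz1 : (e (φ ⟨v, hvN⟩)) ^ (p ^ n) = 1 := h4_unitsMap_ker_pow _ n hcard hdvd _ hfv
      have hz2 : (e (φ ⟨v, hvN⟩)) ^ (orderOf v) = 1 := by
        rw [← map_pow, ← map_pow]
        have : (⟨v, hvN⟩ : ↥(NP P)) ^ orderOf v = 1 := by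
          apply Subtype.ext
          simp [pow_orderOf_eq_one]
        rw [this, map_one, map_one]
      have hz : e (φ ⟨v, hvN⟩) = 1 := by
        have hc : Nat.Coprime (p ^ n) (orderOf v) := (hvp.symm).pow_left n
        have d1 := orderOf_dvd_of_pow_eq_one hz1
        have d2 := orderOf_dvd_of_pow_eq_one hz2
        have := Nat.dvd_gcd d1 d2
        rw [hc.gcd_eq_one, Nat.dvd_one, orderOf_eq_one_iff] at this
        exact this
      have hφv : φ ⟨v, hvN⟩ = 1 := (MulEquiv.map_eq_one_iff e).mp hz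
      have hvC := (hφ _).mp hφv
      rw [hy]
      exact (CP P).mul_mem huC hvC
    · have := (hφ x).mpr hx
      simp [f, this]

end Cfsg.Agent.Helper4.CYC
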