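import Mathlib
import Cfsg.Prelude.Def_Transfer
import Cfsg.Agent.Lib.Helper24.CYCDefs
import Cfsg.Agent.Lib.Helper4.CYCTools
import Cfsg.Agent.Lib.Helper4.CYCG3

/-!
Piece (GB) `exists_p'_of_not_compl` of helper24's lemma server "CYC" (row S4016).
-/

set_option autoImplicit false

namespace Cfsg.Agent.Helper4.CYC

open Subgroup Cfsg.Agent.Helper24.CYC

universe u

variable {G : Type u} [Group G] [Finite G] {p : ℕ} [Fact p.Prime]

theorem exists_p'_of_not_compl (P : Sylow p G) (hcyc : IsCyclic P) (hn : ¬ Cfsg.HasNormalPComplement p G) :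
    ∃ x ∈ NP P, (orderOf x).Coprime p ∧ x ∉ CP P := by
  have hnle : ¬ NP P ≤ CP P := by
    intro hle
    exact hn ⟨P, _, MonoidHom.normal_ker _, MonoidHom.ker_transferSylow_isComplement' P hle⟩
  obtain ⟨y, hyN, hyC⟩ := SetLike.not_le_iff_exists.mp hnle
  obtain ⟨u, v, hu, hv, hy, ⟨k, huk⟩, hvp⟩ := h4_decomp p y
  have huN : u ∈ NP P := (zpowers_le.mpr hyN) hu
  have hvN : v ∈ NP P := (zpowers_le.mpr hyN) hv
  have huP : u ∈ (P : Subgroup G) := h4_pelt_mem P huN huk
  have huC : u ∈ CP P := by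
    rw [mem_centralizer_iff]
    intro b hb
    exact h4_comm_of_cyclic (P : Subgroup G) hcyc b hb u huP
  refine ⟨v, hvN, hvp, fun hvC => hyC ?_⟩
  rw [hy]
  exact (CP P).mul_mem huC hvC

end Cfsg.Agent.Helper4.CYC
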