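import Mathlib
import Cfsg.Prelude.Def_Transfer
import Cfsg.Agent.Lib.Helper24.CYCDefs

/-!
Piece (GB2) `burnside_simple` of helper24's lemma server "CYC" (row S4016).
-/

set_option autoImplicit false

namespace Cfsg.Agent.Helper4.CYC

open Subgroup Cfsg.Agent.Helper24.CYC

universe u

variable {G : Type u} [Group G] [Finite G] {p : ℕ} [Fact p.Prime]

omit [Fact p.Prime] in
theorem burnside_simple (hs : IsSimpleGroup G) (hna : ∃ a b : G, a * b ≠ b * a) (r : ℕ) [Fact r.Prime] (R : Sylow r G)
    (hR : (R : Subgroup G) ≠ ⊥) : ¬ nrm (R : Subgroup G) ≤ ctr (R : Subgroup G) := by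
  intro hle
  have hcompl := MonoidHom.ker_transferSylow_isComplement' R hle
  haveI := hs
  have hnorm : (MonoidHom.transferSylow R hle).ker.Normal := MonoidHom.normal_ker _
  rcases hnorm.eq_bot_or_eq_top with h | h
  · rw [h] at hcompl
    have hRtop : (R : Subgroup G) = ⊤ := isComplement'_bot_left.mp hcompl
    have hG : IsPGroup r G := by
      have h1 := R.isPGroup'
      rw [hRtop] at h1
      exact IsPGroup.of_equiv h1 Subgroup.topEquiv
    haveI : Nontrivial G := hs.toNontrivial
    have hcen := hG.center_nontrivial
    have hctop : center G = ⊤ := by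
      rcases (inferInstance : (center G).Normal).eq_bot_or_eq_top with h0 | h0
      · exfalso
        rw [Subgroup.nontrivial_iff_ne_bot] at hcen
        exact hcen h0
      · exact h0
    obtain ⟨a, b, hab⟩ := hna
    apply hab
    have hb : b ∈ center G := by rw [hctop]; trivial
    exact (mem_center_iff.mp hb) a
  · rw [h] at hcompl
    exact hR (isComplement'_top_left.mp hcompl)

end Cfsg.Agent.Helper4.CYC
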