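import Mathlib
import Cfsg.Agent.Lib.Helper31.G2Defs
import Cfsg.Agent.Lib.Helper31.SGAll
import Cfsg.Agent.Lib.Helper68.G2STRUCT
import Cfsg.Agent.Lib.Helper10.G2GLUE
import Cfsg.Agent.Lib.Helper41.G2AB

/-!
Piece (TFIN) `g2_tt_fin` of helper31's lemma server "G2" (row S3795): assembly of
`g2_struct`, `g2_glue`, `g2_abelian`, `g2_bot`.
-/

set_option autoImplicit false

namespace Cfsg.Agent.Helper4.G2

open Module Subgroup Cfsg.Agent.Helper31.SG Cfsg.Agent.Helper31.G2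
open Cfsg.Agent.Helper68.G2 Cfsg.Agent.Helper10.G2 Cfsg.Agent.Helper41.G2

universe u uG uK uV

/-- `g2_tt_fin` with the piece (BOT) `g2_bot` as an explicit hypothesis (statement of `g2_bot`
verbatim, at the universe levels `uG`, `uK`, `uV`). -/
theorem g2_tt_fin_of_bot (TOP : TopGrp.{uG}) {K : Type uK} [Field K] [IsAlgClosed K] (q s r : ℕ)
    [hq : Fact q.Prime] [hs : Fact s.Prime] [hr : Fact r.Prime] (hq2 : q ≠ 2) (hs2 : s ≠ 2)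
    (hr2 : r ≠ 2) (hqs : q ≠ s) (hsr : s ≠ r) [CharP K r]
    (g2_bot : ∀ (_ : s.Prime) (_ : s ≠ 2) (_ : r ≠ 2) (_ : r ≠ s)
      {V : Type uV} [AddCommGroup V] [Module K V] [FiniteDimensional K V]
      {G : Type uG} [Group G] [Finite G] (ρ : Representation K G V) (S Z Q : Subgroup G) (x : G)
      (n : ℕ) (_ : 1 ≤ n) (_ : IsPGroup s S) (_ : Z ≤ S)
      (_ : ∀ g ∈ Q, ∀ a ∈ S, g * a * g⁻¹ ∈ S) (_ : ∀ a ∈ S, x * a * x⁻¹ ∈ S)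
      (_ : ∀ z ∈ Z, x * z * x⁻¹ ∈ Z) (_ : ∀ g ∈ Q, x * g * x⁻¹ ∈ Q)
      (_ : x ^ 2 ^ (n + 1) = 1) (_ : ∀ v : V, ρ x v = v → v = 0)
      (_ : ∀ z ∈ Z, ∀ a ∈ S, z * a = a * z)
      (_ : ∀ a ∈ S, ∀ b ∈ S, a * b * a⁻¹ * b⁻¹ ∈ Z)
      (_ : ∀ g ∈ Q, ∀ z ∈ Z, g * z = z * g)
      (_ : ∀ S₁ : Subgroup G, S₁ ≤ S → S₁ ≠ S → (∀ g ∈ Q, ∀ a ∈ S₁, g * a * g⁻¹ ∈ S₁) →
        (∀ a ∈ S₁, x * a * x⁻¹ ∈ S₁) → S₁ ≤ Z)
      (_ : ∃ a ∈ S, ∃ b ∈ S, ρ (a * b * a⁻¹ * b⁻¹) ≠ 1)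
      (_ : s ^ 2 ^ n * Nat.card Z ≤
        Nat.card {a : G // a ∈ S ∧ x ^ 2 ^ n * a * (x ^ 2 ^ n)⁻¹ * a ∈ Z})
      (_ : ∃ a ∈ S, x ^ 2 ^ n * a * (x ^ 2 ^ n)⁻¹ * a⁻¹ ∈ Z ∧
        x ^ 2 ^ (n - 1) * a * (x ^ 2 ^ (n - 1))⁻¹ * a⁻¹ ∉ Z), False) :
    TTFinal.{uG, uK, uV} K q s := by
  intro V _ _ _ G _ _ ρ hinj S Q x n hn hS hQ hQS hxS hxQ hx hfix hfpS hfpQ hNC hminQ hminS
  obtain ⟨h1, h2, h3, h4, h5⟩ := g2_struct hq.out hs.out hq2 hqs S Q x n hS hQ hQS hxS hxQ hx hNC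
    hminQ hminS
  set Z : Subgroup G := S ⊓ centralizer (Q : Set G) with hZdef
  have hZS : Z ≤ S := inf_le_left
  have hQZ : ∀ g ∈ Q, ∀ z ∈ Z, g * z = z * g := by
    intro g hg z hz
    have := (Subgroup.mem_centralizer_iff.mp hz.2) g hg
    exact this
  have hfS : ∀ a ∈ S, x * a * x⁻¹ = a → a = 1 := by
    intro a ha hxa
    have := hfpS ⊥ bot_le (fun g hg => by
      rw [Subgroup.mem_bot] at hg ⊢; rw [hg]; group) a ha (by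
      rw [Subgroup.mem_bot, hxa, mul_inv_cancel])
    exact Subgroup.mem_bot.mp this
  have hfQ : ∀ g ∈ Q, x * g * x⁻¹ = g → g = 1 := by
    intro a ha hxa
    have := hfpQ ⊥ bot_le (fun g hg => by
      rw [Subgroup.mem_bot] at hg ⊢; rw [hg]; group) a ha (by
      rw [Subgroup.mem_bot, hxa, mul_inv_cancel])
    exact Subgroup.mem_bot.mp this
  by_cases hab : ∀ a ∈ S, ∀ b ∈ S, ρ a * ρ b = ρ b * ρ a
  · -- abelian case
    have hτ := g2_abelian r s hr2 hsr.symm ρ S x n hS hxS hx hfix hab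
    have hτ' : ∀ a ∈ S, a * x ^ 2 ^ n = x ^ 2 ^ n * a := by
      intro a ha
      apply hinj
      rw [map_mul, map_mul]
      exact hτ a ha
    obtain ⟨g, hg, a, ha, hne⟩ := hNC
    apply hne
    have hgag : g * a * g⁻¹ ∈ S := hQS g hg a ha
    have e1 := hτ' a ha
    have e2 := hτ' _ hgag
    unfold cm
    calc g⁻¹ * (x ^ 2 ^ n * g * (x ^ 2 ^ n)⁻¹) * a
        = g⁻¹ * (x ^ 2 ^ n * g) * ((x ^ 2 ^ n)⁻¹ * (a * x ^ 2 ^ n)) * (x ^ 2 ^ n)⁻¹ := by group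
      _ = g⁻¹ * (x ^ 2 ^ n * g) * a * (x ^ 2 ^ n)⁻¹ := by rw [e1]; group
      _ = g⁻¹ * (x ^ 2 ^ n * (g * a * g⁻¹)) * g * (x ^ 2 ^ n)⁻¹ := by group
      _ = g⁻¹ * ((g * a * g⁻¹) * x ^ 2 ^ n) * g * (x ^ 2 ^ n)⁻¹ := by rw [← e2]
      _ = a * (g⁻¹ * (x ^ 2 ^ n * g * (x ^ 2 ^ n)⁻¹)) := by group
  · -- nonabelian case
    have hnab : ∃ a ∈ S, ∃ b ∈ S, ρ (a * b * a⁻¹ * b⁻¹) ≠ 1 := by
      by_contra hcon
      apply hab
      intro a ha b hb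
      have : ρ (a * b * a⁻¹ * b⁻¹) = 1 := by
        by_contra h
        exact hcon ⟨a, ha, b, hb, h⟩
      have h' : ρ (a * b) = ρ (b * a) := by
        have : a * b = (a * b * a⁻¹ * b⁻¹) * (b * a) := by group
        rw [this, map_mul, ‹ρ (a * b * a⁻¹ * b⁻¹) = 1›, one_mul]
      rw [← map_mul, ← map_mul, h']
    -- x normalizes Z
    have hxpowQ : ∀ k : ℕ, ∀ g ∈ Q, x ^ k * g * (x ^ k)⁻¹ ∈ Q := by
      intro k
      induction k with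
      | zero => intro g hg; simpa using hg
      | succ k ih =>
        intro g hg
        have := hxQ _ (ih g hg)
        have e : x ^ (k + 1) * g * (x ^ (k + 1))⁻¹ = x * (x ^ k * g * (x ^ k)⁻¹) * x⁻¹ := by
          rw [pow_succ']; group
        rw [e]; exact this
    have hxinvQ : ∀ g ∈ Q, x⁻¹ * g * x ∈ Q := by
      intro g hg
      have hx' : x⁻¹ = x ^ (2 ^ (n + 1) - 1) := by
        have : x ^ (2 ^ (n + 1) - 1) * x = 1 := by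
          rw [← pow_succ, Nat.sub_add_cancel Nat.one_le_two_pow, hx]
        exact (eq_inv_of_mul_eq_one_left this).symm
      have := hxpowQ (2 ^ (n + 1) - 1) g hg
      rw [← hx'] at this
      simpa using this
    have hxZ : ∀ z ∈ Z, x * z * x⁻¹ ∈ Z := by
      intro z hz
      refine ⟨hxS z hz.1, ?_⟩
      show x * z * x⁻¹ ∈ centralizer (Q : Set G)
      rw [Subgroup.mem_centralizer_iff]
      intro g hg
      have hc := (Subgroup.mem_centralizer_iff.mp hz.2) _ (hxinvQ g hg)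
      calc g * (x * z * x⁻¹) = x * ((x⁻¹ * g * x) * z) * x⁻¹ := by group
        _ = x * (z * (x⁻¹ * g * x)) * x⁻¹ := by rw [hc]
        _ = x * z * x⁻¹ * g := by group
    have hQZ' : ∀ g ∈ Q, ∀ z ∈ Z, g * z * g⁻¹ ∈ Z := by
      intro g hg z hz
      rw [hQZ g hg z hz, mul_inv_cancel_right]
      exact hz
    obtain ⟨hA1, hA2⟩ := g2_glue TOP hq.out hs.out hq2 hs2 hqs S Z Q x n hn hS hQ hZS hQS hQZ'
      hxS hxZ hxQ hx h2 h3 hfS hfQ h5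
    exact g2_bot hs.out hs2 hr2 hsr.symm ρ S Z Q x n hn hS hZS hQS hxS hxZ hxQ hx hfix h4 h2 hQZ
      h1 hnab hA1 hA2

end Cfsg.Agent.Helper4.G2
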