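import Mathlib
import Cfsg.Agent.Lib.Helper32.C3Defs

set_option autoImplicit false

namespace Cfsg.Agent.Helper4.C3

open Cfsg.Agent.Helper32.C3

universe u v

section

variable {G : Type u} [Group G] {V : Type v} [AddCommGroup V] [Module (ZMod 3) V]

theorem h4a_three_nsmul (x : V) : x + x + x = 0 := by
  have h : (3 : ZMod 3) • x = 0 := by
    rw [show (3 : ZMod 3) = 0 from by decide, zero_smul]
  rw [show (3 : ZMod 3) = 1 + 1 + 1 by norm_num, add_smul, add_smul, one_smul] at h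
  exact h

/-- `(b-1)^3 = 0` when `b^3 = 1` (characteristic 3) -/
theorem h4a_dl_cube (ρ : Representation (ZMod 3) G V) (b : G) (hb3 : b ^ 3 = 1) (v : V) :
    dl ρ b (dl ρ b (dl ρ b v)) = 0 := by
  have h1 : ρ b (ρ b (ρ b v)) = v := by
    have : ρ (b ^ 3) v = v := by rw [hb3, map_one]; rfl
    rw [pow_succ, pow_succ, pow_one, map_mul, map_mul] at this
    exact this
  simp only [dl_apply, map_sub, h1]
  have h3 := h4a_three_nsmul (ρ b v - ρ b (ρ b v))
  have : v - ρ b (ρ b v) - (ρ b (ρ b v) - ρ b v) - (ρ b (ρ b v) - ρ b v - (ρ b v - v))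
      = (ρ b v - ρ b (ρ b v)) + (ρ b v - ρ b (ρ b v)) + (ρ b v - ρ b (ρ b v)) + (v - v) + (v - v) := by
    abel
  rw [this, h3]
  simp

theorem h4a_map_dl_le (ρ : Representation (ZMod 3) G V) (b : G) (U : Submodule (ZMod 3) V)
    (hU : ∀ v ∈ U, ρ b v ∈ U) : U.map (dl ρ b) ≤ U := by
  rintro _ ⟨v, hv, rfl⟩
  rw [dl_apply]
  exact U.sub_mem (hU v hv) hv

theorem h4a_map_dl_bot (ρ : Representation (ZMod 3) G V) (b : G) (hb3 : b ^ 3 = 1)
    (U : Submodule (ZMod 3) V) :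
    ((U.map (dl ρ b)).map (dl ρ b)).map (dl ρ b) = ⊥ := by
  rw [eq_bot_iff]
  rintro _ ⟨_, ⟨_, ⟨v, _, rfl⟩, rfl⟩, rfl⟩
  rw [h4a_dl_cube ρ b hb3 v]
  exact Submodule.zero_mem _

theorem h4a_map_mul (ρ : Representation (ZMod 3) G V) (b : G) (U : Submodule (ZMod 3) V) :
    U.map (dl ρ b * dl ρ b) = (U.map (dl ρ b)).map (dl ρ b) := by
  rw [Module.End.mul_eq_comp, Submodule.map_comp]

/-- a nilpotent operator of index exactly 3 on a 3-dimensional invariant subspace -/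
theorem h4a_ranks (ρ : Representation (ZMod 3) G V) [Module.Finite (ZMod 3) V] (b : G)
    (hb3 : b ^ 3 = 1) (U : Submodule (ZMod 3) V) (hU : ∀ v ∈ U, ρ b v ∈ U)
    (h3 : Module.finrank (ZMod 3) ↥U = 3)
    (hne : (U.map (dl ρ b)).map (dl ρ b) ≠ ⊥) :
    Module.finrank (ZMod 3) ↥(U.map (dl ρ b)) = 2 ∧
      Module.finrank (ZMod 3) ↥((U.map (dl ρ b)).map (dl ρ b)) = 1 := by
  have hbot := h4a_map_dl_bot ρ b hb3 U
  have hle1 : U.map (dl ρ b) ≤ U := h4a_map_dl_le ρ b U hU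
  have hle2 : (U.map (dl ρ b)).map (dl ρ b) ≤ U.map (dl ρ b) := Submodule.map_mono hle1
  have hlt1 : U.map (dl ρ b) < U := by
    refine lt_of_le_of_ne hle1 ?_
    intro heq
    apply hne
    rw [heq, heq, heq] at hbot
    rw [heq, heq]
    exact hbot
  have hlt2 : (U.map (dl ρ b)).map (dl ρ b) < U.map (dl ρ b) := by
    refine lt_of_le_of_ne hle2 ?_
    intro heq
    rw [heq] at hbot
    exact hne hbot
  have hpos : 0 < Module.finrank (ZMod 3) ↥((U.map (dl ρ b)).map (dl ρ b)) := by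
    rw [Nat.pos_iff_ne_zero]
    intro h0
    exact hne (Submodule.finrank_eq_zero.mp h0)
  have f1 := Submodule.finrank_lt_finrank_of_lt hlt1
  have f2 := Submodule.finrank_lt_finrank_of_lt hlt2
  omega

end

theorem cubic_of_hyp {S : Type u} [Group S] [Finite S] {E : Type v} [AddCommGroup E]
    [Module (ZMod 3) E] [Finite E] (ρ : Representation (ZMod 3) S E) (B : Subgroup S) (b : S)
    (E₀ E₁ : Submodule (ZMod 3) E) (Q : Subgroup S) (P : Sylow 3 S)
    (h : Hyp ρ B b E₀ E₁ Q P) : Cubic ρ b ∧ b ^ 3 = 1 := by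
  have : Module.Finite (ZMod 3) E := Module.Finite.of_finite
  have hb3 : b ^ 3 = 1 := by
    have ho : orderOf b = 3 := by
      rw [← Nat.card_zpowers, h.hb, h.cardB]
    rw [← ho]
    exact pow_orderOf_eq_one b
  refine ⟨?_, hb3⟩
  -- `finrank E₀ = 3`
  have h3 : Module.finrank (ZMod 3) ↥E₀ = 3 := by
    have hc := Module.natCard_eq_pow_finrank (K := ZMod 3) (V := ↥E₀)
    rw [h.hE0, Nat.card_zmod] at hc
    have h27 : (3 : ℕ) ^ 3 = 3 ^ Module.finrank (ZMod 3) ↥E₀ := by rw [← hc]; norm_num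
    exact (Nat.pow_right_injective (show 2 ≤ 3 by norm_num) h27).symm
  have hne : (E₀.map (dl ρ b)).map (dl ρ b) ≠ ⊥ := by
    obtain ⟨v, hv, hvne⟩ := h.hind
    intro hbot
    apply hvne
    have hm : dl ρ b (dl ρ b v) ∈ (E₀.map (dl ρ b)).map (dl ρ b) :=
      Submodule.mem_map_of_mem (Submodule.mem_map_of_mem hv)
    rw [hbot, Submodule.mem_bot, dl_apply, dl_apply] at hm
    exact hm
  obtain ⟨r1, r2⟩ := h4a_ranks ρ b hb3 E₀ h.hE0inv h3 hne
  have hE1 : E₁.map (dl ρ b) = ⊥ := by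
    rw [eq_bot_iff]
    rintro _ ⟨v, hv, rfl⟩
    rw [Submodule.mem_bot, dl_apply, h.hE1 v hv, sub_self]
  have hr : ∀ f : Module.End (ZMod 3) E, LinearMap.range f = E₀.map f ⊔ E₁.map f := by
    intro f
    rw [← Submodule.map_sup, h.hE01', Submodule.map_top]
  have hr1 : LinearMap.range (dl ρ b) = E₀.map (dl ρ b) := by
    rw [hr, hE1, sup_bot_eq]
  have hr2 : LinearMap.range (dl ρ b * dl ρ b) = (E₀.map (dl ρ b)).map (dl ρ b) := by
    rw [hr, h4a_map_mul, h4a_map_mul, hE1, Submodule.map_bot, sup_bot_eq]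
  refine ⟨?_, ?_⟩
  · rw [hr1]; exact r1
  · rw [hr2]; exact r2

end Cfsg.Agent.Helper4.C3
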