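import Mathlib
import Cfsg.Agent.Lib.Helper32.C3Defs

set_option autoImplicit false

namespace Cfsg.Agent.Helper4.C3

open Cfsg.Agent.Helper32.C3

universe u v

section

variable {G : Type u} [Group G] {V : Type v} [AddCommGroup V] [Module (ZMod 3) V]

theorem h4_three_nsmul (x : V) : x + x + x = 0 := by
  have h : (3 : ZMod 3) • x = 0 := by
    rw [show (3 : ZMod 3) = 0 from by decide, zero_smul]
  rw [show (3 : ZMod 3) = 1 + 1 + 1 by norm_num, add_smul, add_smul, one_smul] at h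
  exact h

/-- `(b-1)^3 = 0` when `b^3 = 1` (characteristic 3) -/
theorem h4_dl_cube (ρ : Representation (ZMod 3) G V) (b : G) (hb3 : b ^ 3 = 1) (v : V) :
    dl ρ b (dl ρ b (dl ρ b v)) = 0 := by
  have h1 : ρ b (ρ b (ρ b v)) = v := by
    have : ρ (b ^ 3) v = v := by rw [hb3, map_one]; rfl
    rw [pow_succ, pow_succ, pow_one, map_mul, map_mul] at this
    exact this
  simp only [dl_apply, map_sub, h1]
  have h3 := h4_three_nsmul (ρ b v - ρ b (ρ b v))
  have : v - ρ b (ρ b v) - (ρ b (ρ b v) - ρ b v) - (ρ b (ρ b v) - ρ b v - (ρ b v - v))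
      = (ρ b v - ρ b (ρ b v)) + (ρ b v - ρ b (ρ b v)) + (ρ b v - ρ b (ρ b v)) + (v - v) + (v - v) := by
    abel
  rw [this, h3]
  simp

theorem h4_map_dl_le (ρ : Representation (ZMod 3) G V) (b : G) (U : Submodule (ZMod 3) V)
    (hU : ∀ v ∈ U, ρ b v ∈ U) : U.map (dl ρ b) ≤ U := by
  rintro _ ⟨v, hv, rfl⟩
  rw [dl_apply]
  exact U.sub_mem (hU v hv) hv

theorem h4_map_dl_bot (ρ : Representation (ZMod 3) G V) (b : G) (hb3 : b ^ 3 = 1)
    (U : Submodule (ZMod 3) V) :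
    ((U.map (dl ρ b)).map (dl ρ b)).map (dl ρ b) = ⊥ := by
  rw [eq_bot_iff]
  rintro _ ⟨_, ⟨_, ⟨v, _, rfl⟩, rfl⟩, rfl⟩
  rw [h4_dl_cube ρ b hb3 v]
  exact Submodule.zero_mem _

theorem h4_map_mul (ρ : Representation (ZMod 3) G V) (b : G) (U : Submodule (ZMod 3) V) :
    U.map (dl ρ b * dl ρ b) = (U.map (dl ρ b)).map (dl ρ b) := by
  rw [Module.End.mul_eq_comp, Submodule.map_comp]

/-- the asymmetric half of `cubic_split` -/
theorem h4_two_le (ρ : Representation (ZMod 3) G V) [Module.Finite (ZMod 3) V] (b : G)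
    (hb3 : b ^ 3 = 1) (U : Submodule (ZMod 3) V) (hU : ∀ v ∈ U, ρ b v ∈ U)
    (h1 : Module.finrank (ZMod 3) ↥(U.map (dl ρ b * dl ρ b)) = 1) :
    2 ≤ Module.finrank (ZMod 3) ↥(U.map (dl ρ b)) := by
  by_contra hlt
  rw [not_le] at hlt
  rw [h4_map_mul] at h1
  have hle : (U.map (dl ρ b)).map (dl ρ b) ≤ U.map (dl ρ b) :=
    Submodule.map_mono (h4_map_dl_le ρ b U hU)
  have heq : (U.map (dl ρ b)).map (dl ρ b) = U.map (dl ρ b) :=
    Submodule.eq_of_le_of_finrank_le hle (by omega)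
  have hbot := h4_map_dl_bot ρ b hb3 U
  rw [heq, heq] at hbot
  rw [heq, hbot] at h1
  simp at h1

end

theorem cubic_split {G : Type u} [Group G] {V : Type v} [AddCommGroup V] [Module (ZMod 3) V]
    [Finite V] (ρ : Representation (ZMod 3) G V) (b : G) (hc : Cubic ρ b) (hb3 : b ^ 3 = 1)
    (U W : Submodule (ZMod 3) V) (hUW : U ⊓ W = ⊥) (hUW' : U ⊔ W = ⊤)
    (hU : ∀ v ∈ U, ρ b v ∈ U) (hW : ∀ v ∈ W, ρ b v ∈ W) :
    (∀ v ∈ U, ρ b v = v) ∨ (∀ v ∈ W, ρ b v = v) := by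
  have : Module.Finite (ZMod 3) V := Module.Finite.of_finite
  obtain ⟨hc1, hc2⟩ := hc
  -- decomposition of ranges
  have hr : ∀ f : Module.End (ZMod 3) V, LinearMap.range f = U.map f ⊔ W.map f := by
    intro f
    rw [← Submodule.map_sup, hUW', Submodule.map_top]
  have hdisj : ∀ f : Module.End (ZMod 3) V, U.map f ≤ U → W.map f ≤ W →
      Module.finrank (ZMod 3) ↥(LinearMap.range f) =
        Module.finrank (ZMod 3) ↥(U.map f) + Module.finrank (ZMod 3) ↥(W.map f) := by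
    intro f hfU hfW
    have h := Submodule.finrank_sup_add_finrank_inf_eq (U.map f) (W.map f)
    have hinf : U.map f ⊓ W.map f = ⊥ := by
      rw [eq_bot_iff, ← hUW]
      exact inf_le_inf hfU hfW
    rw [hinf, finrank_bot, add_zero, ← hr f] at h
    exact h
  have hU1 := h4_map_dl_le ρ b U hU
  have hW1 := h4_map_dl_le ρ b W hW
  have hU2 : U.map (dl ρ b * dl ρ b) ≤ U := by
    rw [h4_map_mul]; exact (Submodule.map_mono hU1).trans hU1
  have hW2 : W.map (dl ρ b * dl ρ b) ≤ W := by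
    rw [h4_map_mul]; exact (Submodule.map_mono hW1).trans hW1
  have e1 := hdisj _ hU1 hW1
  have e2 := hdisj _ hU2 hW2
  rw [hc1] at e1
  rw [hc2] at e2
  have triv_of : ∀ X : Submodule (ZMod 3) V,
      Module.finrank (ZMod 3) ↥(X.map (dl ρ b)) = 0 → ∀ v ∈ X, ρ b v = v := by
    intro X hX v hv
    have hb : X.map (dl ρ b) = ⊥ := Submodule.finrank_eq_zero.mp hX
    have : dl ρ b v ∈ X.map (dl ρ b) := Submodule.mem_map_of_mem hv
    rw [hb, Submodule.mem_bot, dl_apply, sub_eq_zero] at this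
    exact this
  by_cases hcase : Module.finrank (ZMod 3) ↥(U.map (dl ρ b * dl ρ b)) = 1
  · right
    have := h4_two_le ρ b hb3 U hU hcase
    exact triv_of W (by omega)
  · left
    have hcase' : Module.finrank (ZMod 3) ↥(W.map (dl ρ b * dl ρ b)) = 1 := by omega
    have := h4_two_le ρ b hb3 W hW hcase'
    exact triv_of U (by omega)

end Cfsg.Agent.Helper4.C3
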