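import Mathlib
import Cfsg.Agent.Lib.Helper32.N5Defs

/-!
Piece (E1a) `card_le_32_of_center_two` of helper32's lemma server "N5" (row S1904).
-/

set_option autoImplicit false

namespace Cfsg.Agent.Helper4.N5

open Cfsg Cfsg.Agent.Helper32.N5
open scoped commutatorElement

universe u

variable {X : Type u} [Group X] [Finite X]

/-- `x ↦ [m, x]` as a homomorphism `X →* Z`. -/
def h4CommHom (Z : Subgroup X) (hd : SpData Z) (m : X) : X →* Z where
  toFun x := ⟨⁅m, x⁆, hd.comm m x⟩
  map_one' := by
    apply Subtype.ext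
    simp
  map_mul' a b := by
    apply Subtype.ext
    have hc : ⁅m, b⁆ ∈ Subgroup.center X := hd.eqc ▸ hd.comm m b
    have h := (Subgroup.mem_center_iff.mp hc) a⁻¹
    show ⁅m, a * b⁆ = ⁅m, a⁆ * ⁅m, b⁆
    have e1 : ⁅m, a⁆ * ⁅m, b⁆ = m * a * m⁻¹ * (a⁻¹ * ⁅m, b⁆) := by
      rw [commutatorElement_def m a]; group
    rw [e1, h, commutatorElement_def, commutatorElement_def]
    group

theorem h4_index_centralizer_le (Z : Subgroup X) (hd : SpData Z) (hZ2 : Nat.card Z = 2) (m : X) :
    (Subgroup.centralizer ({m} : Set X)).index ≤ 2 := by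
  have hle : (h4CommHom Z hd m).ker ≤ Subgroup.centralizer ({m} : Set X) := by
    intro x hx
    rw [MonoidHom.mem_ker] at hx
    have hx' : ⁅m, x⁆ = 1 := congrArg Subtype.val hx
    rw [commutatorElement_eq_one_iff_mul_comm] at hx'
    rw [Subgroup.mem_centralizer_iff]
    intro h hh
    rw [Set.mem_singleton_iff] at hh
    rw [hh, hx']
  have h1 : (Subgroup.centralizer ({m} : Set X)).index ≤ (h4CommHom Z hd m).ker.index :=
    Subgroup.index_antitone hle
  have h2 : (h4CommHom Z hd m).ker.index ≤ 2 := by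
    rw [Subgroup.index_ker, ← hZ2]
    exact Subgroup.card_le_card_group _
  omega

theorem card_le_32_of_center_two
    (hP1 : ∀ E : Subgroup X, E.Normal → Cfsg.IsElementaryAbelian 2 E → Nat.card E ≤ 4)
    (hX : IsPGroup 2 X) (Z : Subgroup X) (hd : SpData Z) (hZ2 : Nat.card Z = 2) : Nat.card X ≤ 32 := by
  classical
  -- a maximal abelian subgroup
  have hZab : Ab Z := by
    intro a ha b hb
    have : a ∈ Subgroup.center X := hd.eqc ▸ ha
    exact ((Subgroup.mem_center_iff.mp this) b).symm
  obtain ⟨M, hZM0, hMmax⟩ := Finite.exists_le_maximal (p := fun A : Subgroup X => Ab A) hZab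
  have hMab : Ab M := hMmax.prop
  -- centralizer M ≤ M
  have hCM : Subgroup.centralizer (M : Set X) ≤ M := by
    intro c hc
    have hS : ∀ x ∈ ((M : Set X) ∪ {c}), ∀ y ∈ ((M : Set X) ∪ {c}), x * y = y * x := by
      intro x hx y hy
      rw [Subgroup.mem_centralizer_iff] at hc
      rcases hx with hx | hx <;> rcases hy with hy | hy
      · exact hMab x hx y hy
      · rw [Set.mem_singleton_iff] at hy; subst hy; exact hc x hx
      · rw [Set.mem_singleton_iff] at hx; subst hx; exact (hc y hy).symm
      · rw [Set.mem_singleton_iff] at hx hy; rw [hx, hy]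
    have hcomm := Subgroup.isMulCommutative_closure hS
    have hB : Ab (Subgroup.closure ((M : Set X) ∪ {c})) := by
      intro a ha b hb
      have := hcomm.is_comm.comm ⟨a, ha⟩ ⟨b, hb⟩
      exact congrArg Subtype.val this
    have hle : M ≤ Subgroup.closure ((M : Set X) ∪ {c}) := fun x hx =>
      Subgroup.subset_closure (Or.inl hx)
    have := hMmax.le_of_ge hB hle
    exact this (Subgroup.subset_closure (Or.inr rfl))
  have hZM : Z ≤ M := by
    intro z hz
    apply hCM
    have : z ∈ Subgroup.center X := hd.eqc ▸ hz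
    exact Subgroup.center_le_centralizer _ this
  have hMn : M.Normal := by
    refine ⟨fun m hm x => ?_⟩
    have : x * m * x⁻¹ = ⁅x, m⁆ * m := by rw [commutatorElement_def]; group
    rw [this]
    exact M.mul_mem (hZM (hd.comm x m)) hm
  -- Ω₁(M)
  let Om : Subgroup X :=
    { carrier := {m | m ∈ M ∧ m ^ 2 = 1}
      mul_mem' := fun {a b} ha hb => ⟨M.mul_mem ha.1 hb.1, by
        rw [(show Commute a b from hMab a ha.1 b hb.1).mul_pow, ha.2, hb.2, one_mul]⟩
      one_mem' := ⟨M.one_mem, one_pow 2⟩
      inv_mem' := fun {a} ha => ⟨M.inv_mem ha.1, by rw [inv_pow, ha.2, inv_one]⟩ }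
  have hOmn : Om.Normal := by
    refine ⟨fun m hm x => ?_⟩
    refine ⟨hMn.conj_mem m hm.1 x, ?_⟩
    rw [conj_pow, hm.2, mul_one, mul_inv_cancel]
  have hOme : Cfsg.IsElementaryAbelian 2 Om := by
    refine ⟨⟨⟨fun a b => Subtype.ext (hMab a a.2.1 b b.2.1)⟩⟩, fun a ha => ha.2⟩
  have hOm4 : Nat.card Om ≤ 4 := hP1 Om hOmn hOme
  -- |M| ≤ 8
  let sq : M →* Z :=
    { toFun := fun m => ⟨(m : X) ^ 2, hd.sq m⟩
      map_one' := by apply Subtype.ext; simp
      map_mul' := fun a b => by
        apply Subtype.ext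
        show ((a * b : M) : X) ^ 2 = (a : X) ^ 2 * (b : X) ^ 2
        rw [Subgroup.coe_mul, (show Commute (a : X) b from hMab a a.2 b b.2).mul_pow] }
  have hM8 : Nat.card M ≤ 8 := by
    have h1 := Subgroup.card_mul_index sq.ker
    rw [Subgroup.index_ker] at h1
    have h2 : Nat.card sq.range ≤ 2 := hZ2 ▸ Subgroup.card_le_card_group _
    have h3 : Nat.card sq.ker ≤ Nat.card Om := by
      refine Nat.card_le_card_of_injective
        (fun k => (⟨((k : M) : X), ⟨(k : M).2, ?_⟩⟩ : Om)) ?_
      · have := k.2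
        rw [MonoidHom.mem_ker] at this
        exact congrArg Subtype.val this
      · intro a b hab
        apply Subtype.ext; apply Subtype.ext
        have := congrArg (fun w : Om => (w : X)) hab
        exact this
    calc Nat.card M = Nat.card sq.ker * Nat.card sq.range := h1.symm
      _ ≤ 4 * 2 := Nat.mul_le_mul (h3.trans hOm4) h2
  -- index of centralizers
  have hP0 : Z ≤ M ∧ (Subgroup.centralizer (Z : Set X)).index * 2 ≤ Nat.card Z := by
    refine ⟨hZM, ?_⟩
    have : Subgroup.centralizer (Z : Set X) = ⊤ := by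
      rw [Subgroup.centralizer_eq_top_iff_subset, hd.eqc]
    rw [this, Subgroup.index_top, hZ2]
  obtain ⟨A, hZA, hAmax⟩ := Finite.exists_le_maximal (p := fun A : Subgroup X => A ≤ M ∧
      (Subgroup.centralizer (A : Set X)).index * 2 ≤ Nat.card A) hP0
  have hAM : A = M := by
    by_contra hne
    have hlt : A < M := lt_of_le_of_ne hAmax.prop.1 hne
    obtain ⟨m, hmM, hmA⟩ := SetLike.exists_of_lt hlt
    have hA'M : A ⊔ Subgroup.zpowers m ≤ M := sup_le hAmax.prop.1 (by
      rw [Subgroup.zpowers_le]; exact hmM)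
    have hcle : Subgroup.centralizer (A : Set X) ⊓ Subgroup.centralizer ({m} : Set X) ≤
        Subgroup.centralizer ((A ⊔ Subgroup.zpowers m : Subgroup X) : Set X) := by
      rw [Subgroup.le_centralizer_iff]
      apply sup_le
      · rw [Subgroup.le_centralizer_iff]; exact inf_le_left
      · rw [Subgroup.zpowers_le, Subgroup.mem_centralizer_iff]
        intro g hg
        have := (Subgroup.mem_centralizer_iff.mp hg.2) m rfl
        exact this.symm
    have hidx : (Subgroup.centralizer ((A ⊔ Subgroup.zpowers m : Subgroup X) : Set X)).index ≤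
        (Subgroup.centralizer (A : Set X)).index * 2 := by
      calc _ ≤ (Subgroup.centralizer (A : Set X) ⊓ Subgroup.centralizer ({m} : Set X)).index :=
            Subgroup.index_antitone hcle
        _ ≤ (Subgroup.centralizer (A : Set X)).index * (Subgroup.centralizer ({m} : Set X)).index :=
            Subgroup.index_inf_le
        _ ≤ _ := Nat.mul_le_mul_left _ (h4_index_centralizer_le Z hd hZ2 m)
    have hlt' : A < A ⊔ Subgroup.zpowers m := by
      refine lt_of_le_of_ne le_sup_left (fun h => hmA ?_)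
      rw [h]
      exact (le_sup_right : Subgroup.zpowers m ≤ _) (Subgroup.mem_zpowers m)
    have hcard : 2 * Nat.card A ≤ Nat.card (A ⊔ Subgroup.zpowers m : Subgroup X) := by
      obtain ⟨k, hk⟩ := Subgroup.card_dvd_of_le hlt'.le
      have hpos : 0 < Nat.card (A ⊔ Subgroup.zpowers m : Subgroup X) := Nat.card_pos
      have hne' : Nat.card A ≠ Nat.card (A ⊔ Subgroup.zpowers m : Subgroup X) := by
        intro he
        exact hlt'.ne (Subgroup.eq_of_le_of_card_ge hlt'.le he.ge)
      rcases k with _ | _ | k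
      · simp [hk] at hpos
      · exact absurd (by simpa using hk.symm) hne'
      · rw [hk]; nlinarith
    have hp' : A ⊔ Subgroup.zpowers m ≤ M ∧
        (Subgroup.centralizer ((A ⊔ Subgroup.zpowers m : Subgroup X) : Set X)).index * 2 ≤
          Nat.card (A ⊔ Subgroup.zpowers m : Subgroup X) := by
      refine ⟨hA'M, ?_⟩
      have := hAmax.prop.2
      omega
    exact hlt'.not_ge (hAmax.le_of_ge hp' hlt'.le)
  have hfin := hAmax.prop.2
  rw [hAM] at hfin
  have h1 := Subgroup.card_mul_index (Subgroup.centralizer (M : Set X))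
  have h2 : Nat.card (Subgroup.centralizer (M : Set X)) ≤ Nat.card M := Subgroup.card_le_of_le hCM
  have h3 : (Subgroup.centralizer (M : Set X)).index ≤ 4 := by omega
  calc Nat.card X = _ := h1.symm
    _ ≤ 8 * 4 := Nat.mul_le_mul (h2.trans hM8) h3

end Cfsg.Agent.Helper4.N5
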