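import Mathlib
import Cfsg.Agent.Lib.Helper53.CD3ADefs
import Cfsg.Agent.Lib.Helper81.CharClifford
import Cfsg.Agent.Lib.Helper76.CD2Basic

/-!
# CD3A (CASEB2): `cd(F) ⊆ {1, d}` (helper53 server, S4460)
-/

set_option autoImplicit false

namespace Cfsg.Agent.Helper4.CD3A

open Cfsg Cfsg.Agent.Helper53.CD3A Cfsg.Agent.Helper81
open scoped ComplexConjugate commutatorElement

universe u

/-- (CASEB2) `cd(F) ⊆ {1,d}`. -/
theorem caseB_final {G : Type u} [Group G] [Finite G] {f d : ℕ} (hf : 1 < f) (hd : 1 < d)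
    (hcop : Nat.Coprime f d) (hcd : DegIn G f d) (q : ℕ) (hq : q.Prime) (hqd : q ∣ d)
    (F : Subgroup G) [F.Normal] (hGF : commutator G ≤ F) (hidx : F.index = f)
    (h124 : ∀ θ : IrrCharacter F, ¬ q ∣ charDegree (θ : F → ℂ) →
      ∃ χ : IrrCharacter G, charDegree (χ : G → ℂ) = F.index * charDegree (θ : F → ℂ)) :
    ∀ θ : IrrCharacter F, charDegree (θ : F → ℂ) = 1 ∨ charDegree (θ : F → ℂ) = d := by
  classical
  intro θ
  haveI : Fintype F := Fintype.ofFinite F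
  obtain ⟨χ, e, hχe, hef, -⟩ := Cfsg.Agent.Helper76.CD2.exists_over F θ
  rw [hidx] at hef
  set t := charDegree (θ : F → ℂ) with ht
  rcases hcd χ with h1 | h1 | h1
  · -- χ(1) = 1
    left
    rw [h1] at hχe
    exact Nat.eq_one_of_mul_eq_one_left hχe.symm
  · -- χ(1) = f
    rw [h1] at hχe
    have htf : t ∣ f := ⟨e, by rw [hχe]; ring⟩
    have hqt : ¬ q ∣ t := by
      intro hqt
      have hq1 : q ∣ Nat.gcd f d := Nat.dvd_gcd (dvd_trans hqt htf) hqd
      rw [hcop] at hq1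
      exact hq.one_lt.ne' (Nat.dvd_one.1 hq1)
    obtain ⟨χ₂, hχ₂⟩ := h124 θ hqt
    rw [hidx] at hχ₂
    rcases hcd χ₂ with h2 | h2 | h2
    · rw [h2] at hχ₂
      have : f = 1 := Nat.eq_one_of_mul_eq_one_right hχ₂.symm
      omega
    · rw [h2] at hχ₂
      left
      have hf0 : 0 < f := by omega
      exact (Nat.eq_of_mul_eq_mul_left hf0 (by rw [← hχ₂, mul_one])).symm
    · rw [h2] at hχ₂
      exfalso
      have hfd : f ∣ Nat.gcd f d := Nat.dvd_gcd dvd_rfl ⟨t, hχ₂⟩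
      rw [hcop] at hfd
      have := Nat.dvd_one.1 hfd
      omega
  · -- χ(1) = d
    right
    rw [h1] at hχe
    have hed : e ∣ Nat.gcd f d := Nat.dvd_gcd hef ⟨t, hχe⟩
    rw [hcop] at hed
    have he1 : e = 1 := Nat.dvd_one.1 hed
    rw [he1, one_mul] at hχe
    exact hχe.symm

end Cfsg.Agent.Helper4.CD3A
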