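import Mathlib
import Cfsg.Agent.Lib.Helper53.CD3ADefs
import Cfsg.Agent.Lib.Helper81.CharClifford
import Cfsg.Agent.Lib.Helper81.CharCorr
import Cfsg.Agent.Lib.Helper81.CharRam

/-!
# CD3A (L124d): trivial inertia quotient ⇒ the induced character is irreducible
(helper53 server, S4460)
-/

set_option autoImplicit false

namespace Cfsg.Agent.Helper4.CD3A

open Cfsg Cfsg.Agent.Helper53.CD3A Cfsg.Agent.Helper81
open scoped ComplexConjugate commutatorElement

universe u

/-- (L124d) trivial inertia quotient ⇒ the induced character is irreducible, of degree `|G:F| η(1)`. -/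
theorem induced_irr_of_inertia {G : Type u} [Group G] [Finite G] (F : Subgroup G) (hF : F.Normal)
    (η : IrrCharacter F) (h : ∀ g : G, conjFun F hF (η : F → ℂ) g = (η : F → ℂ) → g ∈ F) :
    ∃ χ : IrrCharacter G, charDegree (χ : G → ℂ) = F.index * charDegree (η : F → ℂ) := by
  classical
  haveI : Fintype G := Fintype.ofFinite G
  haveI : Fintype F := Fintype.ofFinite F
  have hηirr : IsIrrCharacter F (η : F → ℂ) := η.2
  have hcf : IsClassFunction F (η : F → ℂ) :=
    isClassFunction_of_isCharacter (IsIrrCharacter.isCharacter hηirr)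
  have hT : ∀ g : G, g ∈ F ↔ conjFun F hF (η : F → ℂ) g = (η : F → ℂ) := by
    intro g
    refine ⟨fun hg => ?_, h g⟩
    funext n
    rw [conjFun_apply]
    have h1 : (⟨g * n * g⁻¹, hF.conj_mem n n.2 g⟩ : F) = (⟨g, hg⟩ : F) * n * (⟨g, hg⟩ : F)⁻¹ :=
      Subtype.ext rfl
    rw [h1]
    exact hcf n ⟨g, hg⟩
  have hres : resTo (le_refl F) (η : F → ℂ) = (η : F → ℂ) := by
    funext n
    rfl
  have hne : classInner (resTo (le_refl F) (η : F → ℂ)) (η : F → ℂ) ≠ 0 := by
    rw [hres, irr_orthonormal hηirr hηirr, if_pos rfl]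
    exact one_ne_zero
  obtain ⟨hirr, -⟩ := clifford_corr_irr F F hF (le_refl F) hηirr hT hηirr hne
  refine ⟨⟨indFun F (η : F → ℂ), hirr⟩, ?_⟩
  obtain ⟨k, hk⟩ := char_one_nat (IsIrrCharacter.isCharacter hηirr)
  show charDegree (indFun F (η : F → ℂ)) = F.index * charDegree (η : F → ℂ)
  unfold charDegree
  rw [indFun_one, hk]
  have h2 : ((F.index : ℂ) * (k : ℂ)).re = ((F.index * k : ℕ) : ℝ) := by
    rw [← Nat.cast_mul, Complex.natCast_re]
  rw [h2, Nat.floor_natCast, Complex.natCast_re, Nat.floor_natCast]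

end Cfsg.Agent.Helper4.CD3A
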