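import Mathlib
import Cfsg.Agent.Lib.Helper53.CD3ADefs
import Cfsg.Agent.Lib.Helper81.CharClifford
import Cfsg.Agent.Lib.Helper81.CharCorr
import Cfsg.Agent.Lib.Helper81.CharAbel
import Cfsg.Agent.Lib.Helper81.CharProd

/-!
# CD3A (TYPE): `G/N` abelian ⇒ all characters over a given `φ ∈ Irr(N)` have the same degree
(helper53 server, S4460)
-/

set_option autoImplicit false

namespace Cfsg.Agent.Helper4.CD3A

open Cfsg Cfsg.Agent.Helper53.CD3A Cfsg.Agent.Helper81
open scoped ComplexConjugate commutatorElement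

universe u

/-- (TYPE) `G/N` abelian: `χ'` is a constituent of `(χ_N)^G = χ * (1_N)^G = Σ_{λ ∈ Lin(G/N)} λ χ`, so `χ' = λ χ`. -/
theorem sameDeg {G : Type u} [Group G] [Fintype G] (N : Subgroup G) [N.Normal] [Fintype N]
    (hN : commutator G ≤ N) : SameDeg G N := by
  classical
  intro φ χ χ' h1 h2
  have hNn : N.Normal := inferInstance
  letI : CommGroup (G ⧸ N) :=
    { (inferInstance : Group (G ⧸ N)) with
      mul_comm := (isMulCommutative_iff.1
        ((Subgroup.Normal.quotient_commutative_iff_commutator_le).2 hN)) }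
  let π : G →* G ⧸ N := QuotientGroup.mk' N
  have hπ : ∀ g : G, π g = 1 ↔ g ∈ N := fun g => QuotientGroup.eq_one_iff g
  have hχc : IsCharacter G (χ : G → ℂ) := IsIrrCharacter.isCharacter χ.2
  have hχ'c : IsCharacter G (χ' : G → ℂ) := IsIrrCharacter.isCharacter χ'.2
  have hχcf := isClassFunction_of_isCharacter hχc
  have hχ'cf := isClassFunction_of_isCharacter hχ'c
  have hα : IsCharacter N (fun x : N => (χ : G → ℂ) x) := isCharacter_restrict N hχc
  have hβ : IsCharacter N (fun x : N => (χ' : G → ℂ) x) := isCharacter_restrict N hχ'c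
  obtain ⟨Δ, hΔ, hsplit⟩ := exists_add_of_classInner_ne_zero hα φ.2 h1
  obtain ⟨k', hk'⟩ := exists_nat_classInner hβ φ.2
  obtain ⟨k, hk⟩ := exists_nat_classInner_char hΔ hβ
  have hk'0 : k' ≠ 0 := by
    rintro rfl
    exact h2 (by simpa using hk')
  have hαβ : classInner (fun x : N => (χ : G → ℂ) x) (fun x : N => (χ' : G → ℂ) x) ≠ 0 := by
    rw [hsplit, classInner_add_left, hk,
      classInner_conj_symm (fun x : N => (χ' : G → ℂ) x) (φ : N → ℂ), hk', Complex.conj_natCast]
    exact_mod_cast (by omega : k' + k ≠ 0)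
  have hfrob : classInner (indFun N (fun x : N => (χ : G → ℂ) x)) (χ' : G → ℂ) ≠ 0 := by
    rw [frobenius_reciprocity N _ hχ'cf]
    exact hαβ
  have hpp : indFun N (fun x : N => (χ : G → ℂ) x) = indFun N (1 : N → ℂ) * (χ : G → ℂ) := by
    have h3 := indFun_mul_restrict N (1 : N → ℂ) hχcf
    rw [one_mul] at h3
    exact h3
  have hsum : indFun N (1 : N → ℂ) = ∑ ψ : AddChar (Additive (G ⧸ N)) ℂ, linChar π ψ := by
    funext g
    rw [Finset.sum_apply, sum_linChar π g, indFun_one_fun N hNn g]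
    by_cases hg : g ∈ N
    · rw [if_pos hg, if_pos ((hπ g).2 hg)]
      rfl
    · rw [if_neg hg, if_neg (fun h => hg ((hπ g).1 h))]
  rw [hpp, hsum, Finset.sum_mul, classInner_sum_left] at hfrob
  obtain ⟨ψ, -, hψ⟩ := Finset.exists_ne_zero_of_sum_ne_zero hfrob
  have hirr := isIrrCharacter_linChar_mul π ψ χ.2
  rw [irr_orthonormal hirr χ'.2] at hψ
  have heq : linChar π ψ * (χ : G → ℂ) = (χ' : G → ℂ) := by
    by_contra hne
    rw [if_neg hne] at hψ
    exact hψ rfl
  have h1' : (χ' : G → ℂ) 1 = (χ : G → ℂ) 1 := by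
    rw [← heq, Pi.mul_apply, linChar_one, one_mul]
  unfold charDegree
  rw [h1']

end Cfsg.Agent.Helper4.CD3A
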