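import Mathlib
import Cfsg.Agent.Lib.Helper4.NormalFour3

set_option autoImplicit false

/-!
# 2-groups with a self-centralizing cyclic normal subgroup (helper4)

A variant of `structure_of_no_normal_four` in which the hypothesis "no normal four-subgroup" is
replaced by "no element acts as `1 + 2^(n-1)` on the cyclic normal subgroup", and a description of
the involutions in the modular case.
-/

namespace Cfsg.Agent.Helper4

open Cfsg.Agent.Helper53

variable {P : Type*} [Group P] [Finite P]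

/-- A finite `2`-group with a self-centralizing cyclic normal subgroup `A = ⟨a⟩` of order `2^n`,
`A ≠ P`, on which no element acts as `1 + 2^(n-1)` (for `n ≥ 3`): then `n ≥ 2`, `A` has index two,
the elements outside act by inversion or (for `n ≥ 3`) as `-1 + 2^(n-1)`, and
`t² ∈ {1, a^(2^(n-1))}`. -/
theorem structure_of_cyclic_sc (hP : IsPGroup 2 P) (A : Subgroup P) [hAn : A.Normal] (a : P)
    (n : ℕ) (hord : orderOf a = 2 ^ n) (hAeq : Subgroup.zpowers a = A)
    (hCA : Subgroup.centralizer (A : Set P) ≤ A) (t : P) (ht : t ∉ A)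
    (hnomod : ∀ g : P, g ∉ A → ∀ r : ℤ, g * a * g⁻¹ = a ^ r → 3 ≤ n →
      ¬ (2 ^ n : ℤ) ∣ r - 1 - 2 ^ (n - 1)) :
    2 ≤ n ∧ (∀ g h : P, g ∉ A → h ∉ A → g * h ∈ A) ∧
      (t * a * t⁻¹ = a⁻¹ ∨ (3 ≤ n ∧ t * a * t⁻¹ = a ^ (2 ^ (n - 1) - 1))) ∧
      (t * t = 1 ∨ t * t = a ^ (2 ^ (n - 1))) := by
  classical
  haveI : Fact (Nat.Prime 2) := ⟨Nat.prime_two⟩
  have haA : a ∈ A := by rw [← hAeq]; exact Subgroup.mem_zpowers a
  have hAz : ∀ y ∈ A, ∃ j : ℤ, a ^ j = y := by
    intro y hy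
    rw [← hAeq] at hy
    exact Subgroup.mem_zpowers_iff.mp hy
  have hzA : ∀ j : ℤ, a ^ j ∈ A := fun j => A.zpow_mem haA j
  have hAc : ∀ x ∈ A, ∀ y ∈ A, x * y = y * x := by
    intro x hx y hy
    obtain ⟨i, rfl⟩ := hAz x hx
    obtain ⟨j, rfl⟩ := hAz y hy
    rw [← zpow_add, ← zpow_add, add_comm]
  have hdvd := zpow_eq_one_iff_of_orderOf hord
  have hcent : ∀ h : P, h * a = a * h → h ∈ A := by
    intro h hh
    apply hCA
    rw [Subgroup.mem_centralizer_iff]
    intro y hy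
    obtain ⟨j, rfl⟩ := hAz y hy
    exact ((Commute.zpow_right (show Commute h a from hh) j).eq).symm
  have hconj : ∀ h : P, ∃ q : ℤ, h * a * h⁻¹ = a ^ q := by
    intro h
    obtain ⟨q, hq⟩ := hAz _ (hAn.conj_mem a haA h)
    exact ⟨q, hq.symm⟩
  have hcomm_of : ∀ h : P, h * a * h⁻¹ = a → h ∈ A := by
    intro h hh
    apply hcent
    calc h * a = (h * a * h⁻¹) * h := by group
      _ = a * h := by rw [hh]
  -- `n ≥ 2`
  have hn2 : 2 ≤ n := by
    by_contra hlt
    push Not at hlt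
    apply ht
    apply hcomm_of
    have hn' : n = 0 ∨ n = 1 := by omega
    rcases hn' with h0 | h1
    · rw [h0, pow_zero, orderOf_eq_one_iff] at hord
      rw [hord, mul_one, mul_inv_cancel]
    · obtain ⟨q, hq⟩ := hconj t
      rw [hq]
      rcases Int.even_or_odd q with ⟨m, hm⟩ | ⟨m, hm⟩
      · exfalso
        have h1' : a ^ q = 1 := by
          rw [hdvd, h1]
          exact ⟨m, by rw [hm]; ring⟩
        rw [h1'] at hq
        have : a = 1 := by
          have : a = t⁻¹ * (t * a * t⁻¹) * t := by group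
          rw [this, hq]; group
        rw [this, orderOf_one, h1] at hord
        norm_num at hord
      · have : a ^ (q - 1) = 1 := by
          rw [hdvd, h1]
          exact ⟨m, by rw [hm]; ring⟩
        rw [zpow_sub, zpow_one, mul_inv_eq_one] at this
        exact this
  refine ⟨hn2, ?_⟩
  -- (F2): elements of order two modulo `A` act by inverting type
  have hF2 : ∀ g : P, g ∉ A → g * g ∈ A → ∀ r : ℤ, g * a * g⁻¹ = a ^ r →
      ((2 : ℤ) ^ n ∣ r + 1 ∨ (3 ≤ n ∧ (2 : ℤ) ^ n ∣ r + 1 - 2 ^ (n - 1))) := by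
    intro g hg hgg r hr
    have h1 : (2 ^ n : ℤ) ∣ r ^ 2 - 1 := by
      rw [← hdvd]
      have e1 : g * (g * a * g⁻¹) * g⁻¹ = a ^ (r * r) := by rw [hr, conj_zpow_of_conj hr]
      have e2 : g * (g * a * g⁻¹) * g⁻¹ = a := by
        have hc := hAc (g * g) hgg a haA
        calc g * (g * a * g⁻¹) * g⁻¹ = (g * g * a) * (g * g)⁻¹ := by group
          _ = (a * (g * g)) * (g * g)⁻¹ := by rw [hc]
          _ = a := by group
      have e3 : a ^ (r * r) = a := by rw [← e1, e2]
      have : r ^ 2 - 1 = r * r - 1 := by ring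
      rw [this, zpow_sub, zpow_one, e3, mul_inv_cancel]
    have h2 : ¬ (2 ^ n : ℤ) ∣ r - 1 := by
      intro h
      rw [← hdvd, zpow_sub, zpow_one, mul_inv_eq_one] at h
      apply hg
      apply hcomm_of
      rw [hr, h]
    rcases ar1 n r h1 h2 with h | ⟨hn3, h | h⟩
    · exact Or.inl h
    · exact Or.inr ⟨hn3, h⟩
    · exact absurd h (hnomod g hg r hr hn3)
  have hF2' : ∀ g : P, g ∉ A → g * g ∈ A → ∀ r : ℤ, g * a * g⁻¹ = a ^ r → (4 : ℤ) ∣ r + 1 :=
    fun g hg hgg r hr => four_dvd_of_inv_type n hn2 r (hF2 g hg hgg r hr)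
  -- (F3): every square lies in `A`
  have hF3 : ∀ h : P, h * h ∈ A := by
    intro h
    by_contra hh
    have hex : ∃ j : ℕ, h ^ 2 ^ j ∈ A := by
      obtain ⟨f, hf⟩ := IsPGroup.iff_orderOf.mp hP h
      refine ⟨f, ?_⟩
      rw [← hf, pow_orderOf_eq_one]
      exact one_mem _
    have hj0 : Nat.find hex ≠ 0 := by
      intro h0
      have := Nat.find_spec hex
      rw [h0, pow_zero, pow_one] at this
      exact hh (mul_mem this this)
    have hj1 : Nat.find hex ≠ 1 := by
      intro h0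
      have := Nat.find_spec hex
      rw [h0, pow_one, pow_two] at this
      exact hh this
    obtain ⟨j, hj⟩ : ∃ j, Nat.find hex = j + 2 := ⟨Nat.find hex - 2, by omega⟩
    obtain ⟨h', hh'⟩ : ∃ h', h' = h ^ 2 ^ j := ⟨_, rfl⟩
    have e1 : h' * h' ∉ A := by
      have := Nat.find_min hex (m := j + 1) (by omega)
      rw [pow_succ, pow_mul, ← hh', pow_two] at this
      exact this
    have e2 : (h' * h') * (h' * h') ∈ A := by
      have := Nat.find_spec hex
      rw [hj, pow_succ, pow_succ, pow_mul, pow_mul, ← hh', pow_two, pow_two] at this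
      exact this
    obtain ⟨q, hq⟩ := hconj h'
    have e3 : (h' * h') * a * (h' * h')⁻¹ = a ^ (q * q) := by
      calc (h' * h') * a * (h' * h')⁻¹ = h' * (h' * a * h'⁻¹) * h'⁻¹ := by group
        _ = a ^ (q * q) := by rw [hq, conj_zpow_of_conj hq]
    have e4 := hF2' (h' * h') e1 e2 (q * q) e3
    have : q * q + 1 = q ^ 2 + 1 := by ring
    rw [this] at e4
    exact not_four_dvd_sq_add_one' q e4
  -- (F4): index two
  have hF4 : ∀ g h : P, g ∉ A → h ∉ A → g * h ∈ A := by
    intro g h hg hh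
    by_contra hgh
    obtain ⟨q, hq⟩ := hconj g
    obtain ⟨r, hr⟩ := hconj h
    have e1 : (g * h) * a * (g * h)⁻¹ = a ^ (q * r) := by
      calc (g * h) * a * (g * h)⁻¹ = g * (h * a * h⁻¹) * g⁻¹ := by group
        _ = a ^ (q * r) := by rw [hr, conj_zpow_of_conj hq]
    have h1 := hF2' g hg (hF3 g) q hq
    have h2 := hF2' h hh (hF3 h) r hr
    have h3 := hF2' (g * h) hgh (hF3 (g * h)) (q * r) e1
    exact not_four_dvd_mul_add_one q r h1 h2 h3
  refine ⟨hF4, ?_, ?_⟩
  · -- the action of `t`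
    obtain ⟨r, hr⟩ := hconj t
    rcases hF2 t ht (hF3 t) r hr with h | ⟨hn3, h⟩
    · left
      rw [hr]
      rw [← hdvd, zpow_add, zpow_one] at h
      exact eq_inv_of_mul_eq_one_left h
    · right
      refine ⟨hn3, ?_⟩
      rw [hr]
      rw [← hdvd] at h
      have hpos : 1 ≤ 2 ^ (n - 1) := Nat.one_le_two_pow
      have e : ((2 ^ (n - 1) - 1 : ℕ) : ℤ) = 2 ^ (n - 1) - 1 := by
        rw [Nat.cast_sub hpos]; push_cast; ring
      rw [← zpow_natCast, e]
      have : r = (r + 1 - 2 ^ (n - 1)) + (2 ^ (n - 1) - 1) := by ring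
      rw [this, zpow_add, h, one_mul]
  · -- the square of `t`
    obtain ⟨r, hr⟩ := hconj t
    obtain ⟨s, hs⟩ := hAz _ (hF3 t)
    have h3 : (2 ^ n : ℤ) ∣ s * (r - 1) := by
      rw [← hdvd]
      have e1 : t * (t * t) * t⁻¹ = a ^ (r * s) := by rw [← hs, conj_zpow_of_conj hr]
      have e2 : t * (t * t) * t⁻¹ = t * t := by group
      have e3 : a ^ (r * s) = a ^ s := by rw [← e1, e2, hs]
      have : s * (r - 1) = r * s - s := by ring
      rw [this, zpow_sub, e3, mul_inv_cancel]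
    have h4 := ar4 n hn2 r s (hF2 t ht (hF3 t) r hr) h3
    rcases zpow_half_cases (by omega) hord s h4 with h | h
    · left; rw [← hs, h]
    · right
      rw [← hs, h, ← zpow_natCast]
      push_cast
      rfl

/-- The modular case: an element `g` acting as `1 + 2^(n-1)` on a normal self-centralizing cyclic
subgroup `⟨a⟩` of order `2^n`, `n ≥ 3`.  The elements `m` with `m² = 1` acting trivially on
`⟨a²⟩` form a four-group. -/
theorem modular_involutions (A : Subgroup P) [hAn : A.Normal] (a : P) (n : ℕ) (hn3 : 3 ≤ n)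
    (hord : orderOf a = 2 ^ n) (hAeq : Subgroup.zpowers a = A)
    (hcent : ∀ h : P, h * a = a * h → h ∈ A)
    (g : P) (hg : g ∉ A) (r : ℤ) (hr : g * a * g⁻¹ = a ^ r)
    (hr' : (2 ^ n : ℤ) ∣ r - 1 - 2 ^ (n - 1)) :
    ∃ (z e : P) (hzz : z * z = 1) (hee : e * e = 1) (hze : z * e = e * z),
      z ≠ 1 ∧ e ≠ 1 ∧ z ≠ e ∧
      ∀ m : P, (m * m = 1 ∧ ∃ q : ℤ, m * a * m⁻¹ = a ^ q ∧ (2 ^ (n - 1) : ℤ) ∣ q - 1) ↔
        m ∈ fourSub z e hzz hee hze := by
  have haA : a ∈ A := by rw [← hAeq]; exact Subgroup.mem_zpowers a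
  have hAz : ∀ y ∈ A, ∃ j : ℤ, a ^ j = y := by
    intro y hy
    rw [← hAeq] at hy
    exact Subgroup.mem_zpowers_iff.mp hy
  have hzA : ∀ j : ℤ, a ^ j ∈ A := fun j => A.zpow_mem haA j
  have hdvd := zpow_eq_one_iff_of_orderOf hord
  have hcomm_of : ∀ h : P, h * a * h⁻¹ = a → h ∈ A := by
    intro h hh
    apply hcent
    calc h * a = (h * a * h⁻¹) * h := by group
      _ = a * h := by rw [hh]
  have h2n : (2 : ℤ) ^ n = 2 * 2 ^ (n - 1) := by
    obtain ⟨k, rfl⟩ : ∃ k, n = k + 1 := ⟨n - 1, by omega⟩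
    simp only [Nat.add_sub_cancel]
    ring
  -- `2^(n-1) ∣ r - 1`
  have hr1 : (2 ^ (n - 1) : ℤ) ∣ r - 1 := by
    obtain ⟨c, hc⟩ := hr'
    refine ⟨1 + 2 * c, ?_⟩
    have : r - 1 = 2 ^ (n - 1) + 2 ^ n * c := by linarith
    rw [this, h2n]; ring
  -- `2^n ∣ r² - 1`
  have hr2 : (2 ^ n : ℤ) ∣ r * r - 1 := by
    obtain ⟨k, rfl⟩ : ∃ k, n = k + 3 := ⟨n - 3, by omega⟩
    obtain ⟨c, hc⟩ := hr'
    have e1 : k + 3 - 1 = k + 2 := by omega
    rw [e1] at hc
    have : r = 1 + 2 ^ (k + 2) + 2 ^ (k + 3) * c := by linarith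
    refine ⟨(1 + 2 * c) * (1 + 2 ^ (k + 1) * (1 + 2 * c)), ?_⟩
    rw [this]; ring
  -- `g * g ∈ A`
  have hgg : g * g ∈ A := by
    apply hcomm_of
    have e1 : (g * g) * a * (g * g)⁻¹ = a ^ (r * r) := by
      calc (g * g) * a * (g * g)⁻¹ = g * (g * a * g⁻¹) * g⁻¹ := by group
        _ = a ^ (r * r) := by rw [hr, conj_zpow_of_conj hr]
    rw [e1]
    have : a ^ (r * r - 1) = 1 := (hdvd _).mpr hr2
    rw [zpow_sub, zpow_one, mul_inv_eq_one] at this
    exact this
  -- `g * g = a ^ s`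
  obtain ⟨s, hs⟩ := hAz _ hgg
  have h3 : (2 ^ n : ℤ) ∣ s * (r - 1) := by
    rw [← hdvd]
    have e1 : g * (g * g) * g⁻¹ = a ^ (r * s) := by rw [← hs, conj_zpow_of_conj hr]
    have e2 : g * (g * g) * g⁻¹ = g * g := by group
    have e3 : a ^ (r * s) = a ^ s := by rw [← e1, e2, hs]
    have : s * (r - 1) = r * s - s := by ring
    rw [this, zpow_sub, e3, mul_inv_cancel]
  obtain ⟨i, hi⟩ := ar2 n hn3 r s hr' h3
  -- the involution `e`
  obtain ⟨e, he⟩ : ∃ e : P, e = g * a ^ i := ⟨_, rfl⟩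
  have hee : e * e = 1 := by
    rw [← hdvd] at hi
    have e1 : (g * a ^ i) * (g * a ^ i) = a ^ (s + i * (r + 1)) := by
      calc (g * a ^ i) * (g * a ^ i) = (g * a ^ i * g⁻¹) * (g * g) * a ^ i := by group
        _ = a ^ (r * i) * a ^ s * a ^ i := by rw [conj_zpow_of_conj hr, hs]
        _ = a ^ (s + i * (r + 1)) := by
          rw [← zpow_add, ← zpow_add]; congr 1; ring
    rw [he, e1, hi]
  have heA : e ∉ A := by
    intro h
    apply hg
    have : g = e * (a ^ i)⁻¹ := by rw [he]; group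
    rw [this]
    exact A.mul_mem h (A.inv_mem (hzA i))
  have her : e * a * e⁻¹ = a ^ r := by
    rw [he, ← hr]
    have : g * a ^ i * a * (g * a ^ i)⁻¹ = g * (a ^ i * a * (a ^ i)⁻¹) * g⁻¹ := by group
    rw [this]
    congr 2
    rw [← zpow_add_one, ← zpow_sub]
    simp
  have he1 : e ≠ 1 := fun h => heA (h ▸ A.one_mem)
  -- the central involution `z`
  obtain ⟨z, hz⟩ : ∃ z : P, z = a ^ ((2 : ℤ) ^ (n - 1)) := ⟨_, rfl⟩
  have hzA' : z ∈ A := by rw [hz]; exact hzA _
  have hzz : z * z = 1 := by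
    rw [hz, ← zpow_add, hdvd]
    exact ⟨1, by rw [h2n]; ring⟩
  have hz1 : z ≠ 1 := by
    rw [hz]
    intro h
    rw [hdvd] at h
    obtain ⟨c, hc⟩ := h
    rw [h2n] at hc
    have hpos : (0 : ℤ) < 2 ^ (n - 1) := by positivity
    have : (2 : ℤ) ^ (n - 1) * (1 - 2 * c) = 0 := by linarith
    rcases mul_eq_zero.mp this with h' | h'
    · omega
    · omega
  have hze : z ≠ e := fun h => heA (h ▸ hzA')
  -- involutions of `A`
  have hinvA : ∀ y ∈ A, y * y = 1 → y = 1 ∨ y = z := by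
    intro y hy hyy
    obtain ⟨j, rfl⟩ := hAz y hy
    rw [← zpow_add, hdvd, h2n] at hyy
    have hj : (2 : ℤ) ^ (n - 1) ∣ j := by
      have : (2 : ℤ) * 2 ^ (n - 1) ∣ 2 * j := by
        have e : j + j = 2 * j := by ring
        rwa [e] at hyy
      exact (mul_dvd_mul_iff_left (by norm_num : (2 : ℤ) ≠ 0)).mp this
    rw [hz]
    exact zpow_half_cases (by omega) hord j hj
  -- `z` commutes with `a` and with `e`
  have hza : z * a = a * z := by
    rw [hz]
    exact ((Commute.refl a).zpow_left _).eq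
  have hzecomm : z * e = e * z := by
    have h1 : e * z * e⁻¹ = a ^ (r * 2 ^ (n - 1)) := by rw [hz, conj_zpow_of_conj her]
    have h2 : a ^ (r * 2 ^ (n - 1)) = z := by
      have e1 : r * 2 ^ (n - 1) = (r - 1) * 2 ^ (n - 1) + 2 ^ (n - 1) := by ring
      have e2 : a ^ ((r - 1) * 2 ^ (n - 1)) = 1 := by
        rw [hdvd]
        obtain ⟨c, hc⟩ := hr1
        obtain ⟨k, rfl⟩ : ∃ k, n = k + 3 := ⟨n - 3, by omega⟩
        have e1 : k + 3 - 1 = k + 2 := by omega
        rw [e1] at hc ⊢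
        refine ⟨c * 2 ^ (k + 1), ?_⟩
        rw [hc]; ring
      rw [e1, zpow_add, e2, one_mul, hz]
    calc z * e = (e * z * e⁻¹)⁻¹⁻¹ * e := by rw [inv_inv, h1, h2]
      _ = e * z := by
        rw [inv_inv]; group
  refine ⟨z, e, hzz, hee, hzecomm, hz1, he1, hze, ?_⟩
  intro m
  constructor
  · rintro ⟨hmm, q, hq, hq1⟩
    rw [mem_fourSub]
    by_cases hmA : m ∈ A
    · rcases hinvA m hmA hmm with h | h
      · exact Or.inl h
      · exact Or.inr (Or.inl h)
    · -- `e * m ∈ A`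
      have hq2 : ¬ (2 ^ n : ℤ) ∣ q - 1 := by
        intro h
        apply hmA
        apply hcomm_of
        rw [hq]
        have : a ^ (q - 1) = 1 := (hdvd _).mpr h
        rw [zpow_sub, zpow_one, mul_inv_eq_one] at this
        exact this
      have hq3 : (2 ^ n : ℤ) ∣ q - 1 - 2 ^ (n - 1) := by
        obtain ⟨k, rfl⟩ : ∃ k, n = k + 1 := ⟨n - 1, by omega⟩
        simp only [Nat.add_sub_cancel] at hq1 ⊢
        rcases split_lemma k _ hq1 with h | h
        · exact absurd h hq2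
        · exact h
      have hemA : e * m ∈ A := by
        apply hcomm_of
        have e1 : (e * m) * a * (e * m)⁻¹ = a ^ (r * q) := by
          calc (e * m) * a * (e * m)⁻¹ = e * (m * a * m⁻¹) * e⁻¹ := by group
            _ = a ^ (r * q) := by rw [hq, conj_zpow_of_conj her]
        rw [e1]
        have : a ^ (r * q - 1) = 1 := by
          rw [hdvd]
          obtain ⟨c, hc⟩ := hr'
          obtain ⟨d, hd⟩ := hq3
          obtain ⟨k, rfl⟩ : ∃ k, n = k + 3 := ⟨n - 3, by omega⟩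
          have e1 : k + 3 - 1 = k + 2 := by omega
          rw [e1] at hc hd
          have hr0 : r = 1 + 2 ^ (k + 2) + 2 ^ (k + 3) * c := by linarith
          have hq0 : q = 1 + 2 ^ (k + 2) + 2 ^ (k + 3) * d := by linarith
          refine ⟨1 + c + d + 2 ^ (k + 1) * (1 + 2 * c) * (1 + 2 * d), ?_⟩
          rw [hr0, hq0]; ring
        rw [zpow_sub, zpow_one, mul_inv_eq_one] at this
        exact this
      obtain ⟨j, hj⟩ := hAz _ hemA
      have hm : m = e * a ^ j := by
        rw [hj, ← mul_assoc, hee, one_mul]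
      have hsq' : (e * a ^ j) * (e * a ^ j) = a ^ (j * (r + 1)) := by
        calc (e * a ^ j) * (e * a ^ j) = (e * a ^ j * e⁻¹) * (e * e) * a ^ j := by group
          _ = a ^ (r * j) * a ^ j := by rw [hee, mul_one, conj_zpow_of_conj her]
          _ = a ^ (j * (r + 1)) := by rw [← zpow_add]; congr 1; ring
      have hdj : (2 ^ n : ℤ) ∣ j * (r + 1) := by rw [← hdvd, ← hsq', ← hm, hmm]
      have hj' := ar3 n hn3 r j hr' hdj
      rcases zpow_half_cases (by omega) hord j hj' with h1 | h1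
      · right; right; left
        rw [hm, h1, mul_one]
      · right; right; right
        rw [hm, h1, ← hz, hzecomm]
  · intro hm
    rcases mem_fourSub.mp hm with h | h | h | h
    · subst h
      exact ⟨by group, 1, by group, by simp⟩
    · subst h
      refine ⟨hzz, 1, ?_, by simp⟩
      rw [zpow_one, hza]; group
    · subst h
      exact ⟨hee, r, her, hr1⟩
    · subst h
      refine ⟨?_, r, ?_, hr1⟩
      · calc z * e * (z * e) = z * (e * z) * e := by group
          _ = z * (z * e) * e := by rw [hzecomm]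
          _ = (z * z) * (e * e) := by group
          _ = 1 := by rw [hzz, hee, mul_one]
      · calc z * e * a * (z * e)⁻¹ = z * (e * a * e⁻¹) * z⁻¹ := by group
          _ = z * a ^ r * z⁻¹ := by rw [her]
          _ = a ^ r := by
            have : z * a ^ r = a ^ r * z := by
              rw [hz, ← zpow_add, ← zpow_add, add_comm]
            rw [this]; group

end Cfsg.Agent.Helper4
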