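import Mathlib
import Cfsg.Agent.Lib.Helper4.NormalFour2

set_option autoImplicit false

/-!
# p-groups with a self-centralizing cyclic normal subgroup: general `p` lemmas (helper4)
-/

namespace Cfsg.Agent.Helper4

variable {G : Type*} [Group G]

/-- exponent calculus in a cyclic group of order `p^n` -/
theorem zpow_eq_one_iff_of_orderOf_pow {a : G} {p n : ℕ} (hord : orderOf a = p ^ n) (m : ℤ) :
    a ^ m = 1 ↔ (p ^ n : ℤ) ∣ m := by
  rw [← orderOf_dvd_iff_zpow_eq_one, hord]
  push_cast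
  rfl

/-- equality of powers in a cyclic group of order `p^n` -/
theorem zpow_eq_zpow_of_dvd_sub {a : G} {p n : ℕ} (hord : orderOf a = p ^ n) (x y : ℤ)
    (h : (p ^ n : ℤ) ∣ x - y) : a ^ x = a ^ y := by
  have := (zpow_eq_one_iff_of_orderOf_pow hord (x - y)).mpr h
  rw [zpow_sub, mul_inv_eq_one] at this
  exact this

/-- the index of the centralizer of an element is the size of its conjugacy class -/
theorem index_centralizer_singleton_eq_ncard (g : G) :
    (Subgroup.centralizer ({g} : Set G)).index = Set.ncard {h : G | IsConj g h} := by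
  have h := MulAction.index_stabilizer (ConjAct G) g
  rw [ConjAct.stabilizer_eq_centralizer] at h
  have h2 : MulAction.orbit (ConjAct G) g = {h : G | IsConj g h} := by
    ext h
    rw [ConjAct.mem_orbit_conjAct]
    exact isConj_comm
  rw [h2] at h
  exact h

/-- in a finite `p`-group, `p`-th powers lie in every subgroup of index dividing `p` -/
theorem pow_mem_of_index_dvd_prime [Finite G] {p : ℕ} [Fact p.Prime] (hG : IsPGroup p G)
    (H : Subgroup G) (hH : H.index ∣ p) (g : G) : g ^ p ∈ H := by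
  have hp : p.Prime := Fact.out
  rcases (Nat.dvd_prime hp).mp hH with h | h
  · rw [Subgroup.index_eq_one] at h
    rw [h]; exact Subgroup.mem_top _
  · obtain ⟨k, hk⟩ := IsPGroup.iff_card.mp hG
    have hk0 : k ≠ 0 := by
      intro h0
      rw [h0, pow_zero] at hk
      have h1 := H.card_mul_index
      rw [hk, h] at h1
      have : p ∣ 1 := Dvd.intro_left _ h1
      exact hp.one_lt.ne' (Nat.dvd_one.mp this)
    have hmin : (Nat.card G).minFac = p := by
      rw [hk, Nat.pow_minFac hk0, hp.minFac_eq]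
    haveI : H.Normal := Subgroup.normal_of_index_eq_minFac_card (by rw [h, hmin])
    have := H.pow_index_mem g
    rwa [h] at this

/-- in a finite `p`-group, `p`-th powers centralize every normal subgroup of order `p²` -/
theorem pow_prime_comm_of_normal_card_sq [Finite G] {p : ℕ} [Fact p.Prime] (hG : IsPGroup p G)
    (W : Subgroup G) [hWn : W.Normal] (hW : Nat.card W = p ^ 2) (x : G) (hx : x ∈ W) (g : G) :
    g ^ p * x = x * g ^ p := by
  have hp : p.Prime := Fact.out
  by_cases hx1 : x = 1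
  · rw [hx1, mul_one, one_mul]
  have hsub : {h : G | IsConj x h} ⊆ (W : Set G) \ {1} := by
    intro h hh
    obtain ⟨c, hc⟩ := isConj_iff.mp hh
    refine ⟨?_, ?_⟩
    · rw [← hc]; exact hWn.conj_mem x hx c
    · intro h1
      rw [Set.mem_singleton_iff] at h1
      apply hx1
      rw [h1] at hc
      have : x = c⁻¹ * (c * x * c⁻¹) * c := by group
      rw [this, hc]; group
  have hle : Set.ncard {h : G | IsConj x h} ≤ p ^ 2 - 1 := by
    have h1 := Set.ncard_le_ncard hsub (Set.toFinite _)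
    have h2 : ((W : Set G) \ {1}).ncard = (W : Set G).ncard - 1 :=
      Set.ncard_diff_singleton_of_mem W.one_mem
    have h3 : (W : Set G).ncard = p ^ 2 := by
      rw [← hW]; exact (Nat.card_coe_set_eq _).symm
    rw [h2, h3] at h1
    exact h1
  rw [← index_centralizer_singleton_eq_ncard] at hle
  obtain ⟨k, hk⟩ := hG.index (Subgroup.centralizer ({x} : Set G))
  have hk1 : k ≤ 1 := by
    by_contra hlt
    push Not at hlt
    have : p ^ 2 ≤ p ^ k := Nat.pow_le_pow_right hp.pos hlt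
    have hpos : 0 < p ^ 2 := pow_pos hp.pos 2
    omega
  have hdvd : (Subgroup.centralizer ({x} : Set G)).index ∣ p := by
    rw [hk]
    calc p ^ k ∣ p ^ 1 := Nat.pow_dvd_pow p hk1
      _ = p := pow_one p
  have := pow_mem_of_index_dvd_prime hG _ hdvd g
  exact Subgroup.mem_centralizer_singleton_iff.mp this

/-- The subgroup `M` of elements acting trivially on `⟨a^p⟩`, where `⟨a⟩` of order `p^n`, `n ≥ 2`,
is self-centralizing: if `M ≠ U = ⟨a⟩` then `U` has index `p` in `M`. -/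
theorem relIndex_eq_prime_of_modular [Finite G] {p : ℕ} [Fact p.Prime] (U : Subgroup G) (a : G) (n : ℕ)
    (hn : 2 ≤ n) (hord : orderOf a = p ^ n)
    (hcomm_of : ∀ h : G, h * a * h⁻¹ = a → h ∈ U) (hUcomm : ∀ h ∈ U, h * a * h⁻¹ = a)
    (M : Subgroup G)
    (hM : ∀ h : G, h ∈ M → ∃ q : ℤ, h * a * h⁻¹ = a ^ q ∧ (p ^ (n - 1) : ℤ) ∣ q - 1)
    (t : G) (htM : t ∈ M) (htU : t ∉ U) : U.relIndex M = p := by
  have hp : p.Prime := Fact.out
  have hsq : ∀ x y : ℤ, (p ^ (n - 1) : ℤ) ∣ x → (p ^ (n - 1) : ℤ) ∣ y → (p ^ n : ℤ) ∣ x * y := by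
    intro x y hx hy
    have h1 := mul_dvd_mul hx hy
    refine dvd_trans ?_ h1
    rw [← pow_add]
    exact pow_dvd_pow _ (by omega)
  have hmul : ∀ m m' : ↥M, ((m * m' : ↥M) : G) * a * ((m * m' : ↥M) : G)⁻¹ * a⁻¹ =
      ((m : G) * a * (m : G)⁻¹ * a⁻¹) * ((m' : G) * a * (m' : G)⁻¹ * a⁻¹) := by
    intro m m'
    obtain ⟨q, hq, hq1⟩ := hM m m.2
    obtain ⟨q', hq', hq1'⟩ := hM m' m'.2
    have e1 : ((m * m' : ↥M) : G) * a * ((m * m' : ↥M) : G)⁻¹ * a⁻¹ = a ^ (q * q' - 1) := by
      rw [Subgroup.coe_mul]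
      calc (m : G) * m' * a * ((m : G) * m')⁻¹ * a⁻¹
          = (m : G) * ((m' : G) * a * (m' : G)⁻¹) * (m : G)⁻¹ * a⁻¹ := by group
        _ = a ^ (q * q') * a⁻¹ := by rw [hq', conj_zpow_of_conj hq]
        _ = a ^ (q * q' - 1) := by rw [zpow_sub, zpow_one]
    have e2 : ((m : G) * a * (m : G)⁻¹ * a⁻¹) * ((m' : G) * a * (m' : G)⁻¹ * a⁻¹) =
        a ^ ((q - 1) + (q' - 1)) := by
      rw [hq, hq', zpow_add, zpow_sub, zpow_sub, zpow_one]
    rw [e1, e2]
    apply zpow_eq_zpow_of_dvd_sub hord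
    have : q * q' - 1 - (q - 1 + (q' - 1)) = (q - 1) * (q' - 1) := by ring
    rw [this]
    exact hsq _ _ hq1 hq1'
  let θ : ↥M →* G := MonoidHom.mk' (fun m => (m : G) * a * (m : G)⁻¹ * a⁻¹) hmul
  have hθ : ∀ m : ↥M, θ m = (m : G) * a * (m : G)⁻¹ * a⁻¹ := fun m => rfl
  have hker : θ.ker = U.subgroupOf M := by
    ext m
    rw [MonoidHom.mem_ker, Subgroup.mem_subgroupOf, hθ, mul_inv_eq_one]
    exact ⟨hcomm_of _, hUcomm _⟩
  have hrange : θ.range ≤ Subgroup.zpowers (a ^ p ^ (n - 1)) := by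
    rintro y ⟨m, rfl⟩
    obtain ⟨q, hq, c, hc⟩ := hM m m.2
    rw [hθ, hq, Subgroup.mem_zpowers_iff]
    refine ⟨c, ?_⟩
    rw [← zpow_natCast, ← zpow_mul]
    push_cast
    rw [← hc, zpow_sub, zpow_one]
  have hcardΩ : Nat.card (Subgroup.zpowers (a ^ p ^ (n - 1))) = p := by
    rw [Nat.card_zpowers, orderOf_pow' _ (pow_ne_zero _ hp.ne_zero), hord]
    have h1 : Nat.gcd (p ^ n) (p ^ (n - 1)) = p ^ (n - 1) :=
      Nat.gcd_eq_right (pow_dvd_pow _ (by omega))
    rw [h1, Nat.pow_div (by omega) hp.pos]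
    have : n - (n - 1) = 1 := by omega
    rw [this, pow_one]
  have h1 : Nat.card θ.range ∣ p := by
    rw [← hcardΩ]
    exact Subgroup.card_dvd_of_le hrange
  have h2 : Nat.card θ.range ≠ 1 := by
    intro h
    rw [Subgroup.card_eq_one] at h
    have : θ ⟨t, htM⟩ ∈ θ.range := ⟨_, rfl⟩
    rw [h, Subgroup.mem_bot, hθ, mul_inv_eq_one] at this
    exact htU (hcomm_of _ this)
  have h3 : Nat.card θ.range = p := by
    rcases (Nat.dvd_prime hp).mp h1 with h | h
    · exact absurd h h2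
    · exact h
  show (U.subgroupOf M).index = p
  rw [← hker, Subgroup.index_ker, h3]

end Cfsg.Agent.Helper4
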