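import Mathlib
import Cfsg.Agent.Lib.Helper53.IPDefs

/-!
# IP (N3a): reduction of `b ≤ 4 ⇒ solvable` to simple groups (helper53 server, S4463)
-/

set_option autoImplicit false

namespace Cfsg.Agent.Helper4.IP

open Cfsg Cfsg.Agent.Helper53.IP
open scoped ComplexConjugate commutatorElement

universe u

theorem solv4_reduction
    (hS : ∀ (S : Type u) [Group S] [Finite S] [IsSimpleGroup S], DegLe S 4 →
      ∀ a b : S, a * b = b * a)
    (hsub : ∀ (G : Type u) [Group G] [Finite G] (H : Subgroup G), DegLe G 4 → DegLe H 4)
    (hquot : ∀ (G : Type u) [Group G] [Finite G] (N : Subgroup G) [N.Normal],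
      DegLe G 4 → DegLe (G ⧸ N) 4) :
    ∀ (G : Type u) [Group G] [Finite G], DegLe G 4 → Group.IsSolvable G := by
  intro G _ _ hG
  suffices H : ∀ n : ℕ, ∀ (G : Type u) [Group G] [Finite G], Nat.card G = n → DegLe G 4 →
      Group.IsSolvable G from H _ G rfl hG
  intro n
  induction n using Nat.strong_induction_on with
  | _ n ih =>
    intro G _ _ hn hG
    by_cases hsimple : IsSimpleGroup G
    · exact Group.isSolvable_of_comm (hS G hG)
    · by_cases htriv : Subsingleton G
      · exact Group.isSolvable_of_comm (fun a b => Subsingleton.elim _ _)
      · have hnt : Nontrivial G := not_subsingleton_iff_nontrivial.mp htriv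
        have hex : ∃ N : Subgroup G, N.Normal ∧ N ≠ ⊥ ∧ N ≠ ⊤ := by
          by_contra hcon
          push Not at hcon
          apply hsimple
          refine ⟨fun N hN => ?_⟩
          by_cases h : N = ⊥
          · left; exact h
          · right; exact hcon N hN h
        obtain ⟨N, hNn, hNb, hNt⟩ := hex
        have hpos : 0 < Nat.card G := Nat.card_pos
        have hcardN : Nat.card N < n := by
          rw [← hn]
          refine lt_of_le_of_ne (Subgroup.card_le_card_group N) ?_
          intro h
          exact hNt ((Subgroup.card_eq_iff_eq_top N).mp h)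
        have hcardQ : Nat.card (G ⧸ N) < n := by
          rw [← hn]
          have h1 : 1 < Nat.card N := (Subgroup.one_lt_card_iff_ne_bot N).mpr hNb
          have h2 := Subgroup.card_mul_index N
          have h3 : Nat.card (G ⧸ N) = N.index := rfl
          rw [h3]
          have hipos : 0 < N.index := by
            rcases Nat.eq_zero_or_pos N.index with h0 | h0
            · rw [h0, mul_zero] at h2; omega
            · exact h0
          nlinarith
        have sN : Group.IsSolvable N := ih _ hcardN N rfl (hsub G N hG)
        have sQ : Group.IsSolvable (G ⧸ N) := ih _ hcardQ (G ⧸ N) rfl (hquot G N hG)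
        exact Group.isSolvable_of_ker_le_range N.subtype (QuotientGroup.mk' N) (by
          rw [QuotientGroup.ker_mk', Subgroup.range_subtype])

end Cfsg.Agent.Helper4.IP
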