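import Mathlib
import Cfsg.Agent.Lib.Helper4.Dihedral

set_option autoImplicit false

namespace Cfsg.Agent.Helper4

variable {G : Type*} [Group G]

theorem orderOf_conj_eq (g u : G) : orderOf (g * u * g⁻¹) = orderOf u :=
  (MulAut.conj g).orderOf_eq u

section
variable {x y : G} (hx : orderOf x = 2) (hy : orderOf y = 2)
include hx hy

theorem dih_zpow_conj_y (k : ℤ) :
    (x * y) ^ k * y * ((x * y) ^ k)⁻¹ = (x * y) ^ (2 * k - 1) * x := by
  nth_rewrite 2 [dih_y_eq hx hy]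
  rw [← zpow_neg]
  calc (x * y) ^ k * ((x * y) ^ (-1 : ℤ) * x) * (x * y) ^ (-k)
      = (x * y) ^ k * (x * y) ^ (-1 : ℤ) * (x * (x * y) ^ (-k)) := by group
    _ = (x * y) ^ k * (x * y) ^ (-1 : ℤ) * ((x * y) ^ (- -k) * x) := by rw [dih_x_mul_zpow hx hy]
    _ = (x * y) ^ (2 * k - 1) * x := by
      rw [neg_neg, ← mul_assoc, ← zpow_add, ← zpow_add]
      congr 2; ring

/-- the subgroup generated by two involutions whose product has 2-power order is a 2-group -/
theorem dih_isPGroup (a : ℕ) (h : (x * y) ^ (2 ^ a) = 1) :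
    IsPGroup 2 (Subgroup.closure ({x, y} : Set G)) := by
  rintro ⟨d, hd⟩
  obtain ⟨k, rfl | rfl⟩ := dih_mem_closure hx hy hd
  · refine ⟨a, ?_⟩
    apply Subtype.ext
    rw [Subgroup.coe_pow]
    show ((x * y) ^ k) ^ (2 ^ a) = 1
    rw [← zpow_natCast, ← zpow_mul, mul_comm, zpow_mul, zpow_natCast, h, one_zpow]
  · refine ⟨1, ?_⟩
    apply Subtype.ext
    rw [Subgroup.coe_pow]
    show ((x * y) ^ k * x) ^ (2 ^ 1) = 1
    rw [pow_one, pow_two]
    exact dih_zpow_mul_x_sq hx hy k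

end

/-- An involution `u` isolated in a Sylow 2-subgroup `P`: a conjugate `v` of `u` generating a
2-group together with `u` equals `u`. -/
theorem isolated_eq_of_isPGroup [Finite G] (P : Sylow 2 G) (u : G)
    (hiso : ∀ g : G, g * u * g⁻¹ ∈ P → g * u * g⁻¹ = u) (g : G)
    (hp : IsPGroup 2 (Subgroup.closure ({u, g * u * g⁻¹} : Set G))) : g * u * g⁻¹ = u := by
  obtain ⟨Q, hQ⟩ := hp.exists_le_sylow
  obtain ⟨h, hh⟩ := MulAction.exists_smul_eq G Q P
  have hmem : ∀ a : G, a ∈ Q → h * a * h⁻¹ ∈ P := by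
    intro a ha
    rw [← hh, ← SetLike.mem_coe, Sylow.coe_smul, Set.mem_smul_set]
    exact ⟨a, ha, by simp [MulAut.smul_def]⟩
  have hu : u ∈ Q := hQ (Subgroup.subset_closure (by simp))
  have hv : g * u * g⁻¹ ∈ Q := hQ (Subgroup.subset_closure (by simp))
  have h1 : h * u * h⁻¹ = u := hiso h (hmem u hu)
  have h2 : (h * g) * u * (h * g)⁻¹ = u := by
    apply hiso
    have := hmem _ hv
    have e : h * g * u * (h * g)⁻¹ = h * (g * u * g⁻¹) * h⁻¹ := by group
    rw [e]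
    exact this
  have e : h * g * u * (h * g)⁻¹ = h * (g * u * g⁻¹) * h⁻¹ := by group
  rw [e] at h2
  have h3 : h * (g * u * g⁻¹) * h⁻¹ = h * u * h⁻¹ := by rw [h1, h2]
  have h4 := congrArg (fun t => h⁻¹ * t * h) h3
  have e1 : h⁻¹ * (h * (g * u * g⁻¹) * h⁻¹) * h = g * u * g⁻¹ := by group
  have e2 : h⁻¹ * (h * u * h⁻¹) * h = u := by group
  rw [e1, e2] at h4
  exact h4

end Cfsg.Agent.Helper4
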