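import Mathlib
import Cfsg.Agent.Lib.Helper4.Isolated
import Cfsg.Agent.Lib.Helper67.Basic

set_option autoImplicit false

namespace Cfsg.Agent.Helper4

variable {G : Type*} [Group G] [Finite G]

/-- the involutions of a Klein four subgroup -/
theorem klein_elems (P : Subgroup G) (hP : IsKleinFour P) :
    ∃ a b : G, a ∈ P ∧ b ∈ P ∧ orderOf a = 2 ∧ orderOf b = 2 ∧ orderOf (a * b) = 2 ∧ a ≠ b ∧
      a * b ≠ a ∧ a * b ≠ b ∧ a * b ∈ P ∧ (∀ x ∈ P, x = 1 ∨ x = a ∨ x = b ∨ x = a * b) ∧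
      (∀ x ∈ P, ∀ y ∈ P, x * y = y * x) := by
  classical
  haveI := hP
  haveI : Fintype P := Fintype.ofFinite P
  have hcard : Fintype.card P = 4 := IsKleinFour.card_four'
  -- two distinct non-identity elements
  have h1 : ∃ a : P, a ≠ 1 := by
    by_contra h
    push Not at h
    have : Fintype.card P ≤ 1 := Fintype.card_le_one_iff.mpr (fun x y => by rw [h x, h y])
    omega
  obtain ⟨a, ha⟩ := h1
  have h2 : ∃ b : P, b ≠ 1 ∧ b ≠ a := by
    by_contra h
    push Not at h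
    have hsub : (Finset.univ : Finset P) ⊆ {1, a} := by
      intro x _
      by_cases hx : x = 1
      · simp [hx]
      · simp [h x hx]
    have := Finset.card_le_card hsub
    have h3 : ({1, a} : Finset P).card ≤ 2 := Finset.card_le_two
    rw [Finset.card_univ] at this
    omega
  obtain ⟨b, hb, hba⟩ := h2
  have hab : a ≠ b := fun h => hba h.symm
  have hord : ∀ x : P, x ≠ 1 → orderOf (x : G) = 2 := by
    intro x hx
    rw [Subgroup.orderOf_coe]
    exact orderOf_eq_prime (by rw [pow_two]; exact IsKleinFour.mul_self x) hx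
  have hab1 : a * b ≠ 1 := by
    intro h
    apply hab
    have := IsKleinFour.mul_self b
    exact mul_right_cancel (h.trans this.symm)
  have huniv := IsKleinFour.eq_finset_univ ha hb hab
  refine ⟨a, b, a.2, b.2, hord a ha, hord b hb, ?_, ?_, ?_, ?_, ?_, ?_, ?_⟩
  · have := hord (a * b) hab1
    simpa using this
  · intro h; exact hab (Subtype.ext h)
  · intro h
    apply hb
    have : (a : G) * b = a * 1 := by rw [mul_one]; exact h
    exact Subtype.ext (mul_left_cancel this)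
  · intro h
    apply ha
    have : (a : G) * b = 1 * b := by rw [one_mul]; exact h
    exact Subtype.ext (mul_right_cancel this)
  · exact P.mul_mem a.2 b.2
  · intro x hx
    have : (⟨x, hx⟩ : P) ∈ ({a * b, a, b, 1} : Finset P) := by rw [huniv]; exact Finset.mem_univ _
    simp only [Finset.mem_insert, Finset.mem_singleton] at this
    rcases this with h | h | h | h
    · right; right; right
      have := congrArg Subtype.val h
      simpa using this
    · right; left; exact congrArg Subtype.val h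
    · right; right; left; exact congrArg Subtype.val h
    · left; exact congrArg Subtype.val h
  · intro x hx y hy
    have hc := IsKleinFour.isMulCommutative (G := P)
    have := hc.is_comm.comm (⟨x, hx⟩ : P) ⟨y, hy⟩
    exact congrArg Subtype.val this

/-- every involution is conjugate into a given Sylow 2-subgroup -/
theorem invol_conj_mem_sylow (P : Sylow 2 G) (t : G) (ht : orderOf t = 2) :
    ∃ g : G, g * t * g⁻¹ ∈ P := by
  have hZ : IsPGroup 2 (Subgroup.zpowers t) := by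
    apply IsPGroup.of_card (n := 1)
    rw [Nat.card_zpowers, ht, pow_one]
  obtain ⟨Q, hQ⟩ := hZ.exists_le_sylow
  obtain ⟨h, hh⟩ := MulAction.exists_smul_eq G Q P
  refine ⟨h, ?_⟩
  rw [← hh, ← SetLike.mem_coe, Sylow.coe_smul, Set.mem_smul_set]
  exact ⟨t, hQ (Subgroup.mem_zpowers t), by simp [MulAut.smul_def]⟩

/-- fusion in a Klein four Sylow 2-subgroup: if two distinct involutions of `P` are conjugate,
then they are conjugate to their product. -/
theorem klein_fusion (P : Sylow 2 G) (hcomm : ∀ x ∈ P, ∀ y ∈ P, x * y = y * x)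
    (a b : G) (ha : a ∈ P) (hb : b ∈ P) (hao : orderOf a = 2) (hbo : orderOf b = 2) (hab : a ≠ b)
    (hall : ∀ x ∈ P, x = 1 ∨ x = a ∨ x = b ∨ x = a * b) (hconj : IsConj a b) : IsConj a (a * b) := by
  haveI : IsMulCommutative (P : Subgroup G) :=
    ⟨⟨fun x y => Subtype.ext (hcomm x x.2 y y.2)⟩⟩
  obtain ⟨g, hg⟩ := isConj_iff.mp hconj
  -- b = g a g⁻¹ = (g⁻¹)⁻¹ a g⁻¹
  have hy : (g⁻¹)⁻¹ * a * g⁻¹ ∈ P := by rw [inv_inv, hg]; exact hb
  obtain ⟨n, hn, hn'⟩ := P.conj_eq_normalizer_conj_of_mem a g⁻¹ ha hy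
  rw [inv_inv, hg] at hn'
  -- ν = n⁻¹ normalizes P and ν a ν⁻¹ = b
  have hν : n⁻¹ ∈ Subgroup.normalizer ((P : Subgroup G) : Set G) := Subgroup.inv_mem _ hn
  have hνa : n⁻¹ * a * n⁻¹⁻¹ = b := by rw [inv_inv]; exact hn'.symm
  -- d = ν b ν⁻¹
  have hdP : n⁻¹ * b * n⁻¹⁻¹ ∈ P := (Subgroup.mem_normalizer_iff.mp hν b).mp hb
  have hdne : n⁻¹ * b * n⁻¹⁻¹ ≠ b := by
    intro h
    apply hab
    have : n⁻¹ * a * n⁻¹⁻¹ = n⁻¹ * b * n⁻¹⁻¹ := by rw [hνa, h]
    simpa using this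
  have hd1 : n⁻¹ * b * n⁻¹⁻¹ ≠ 1 := by
    intro h
    have : orderOf (n⁻¹ * b * n⁻¹⁻¹) = 2 := by rw [orderOf_conj_eq, hbo]
    rw [h, orderOf_one] at this
    omega
  rcases hall _ hdP with h | h | h | h
  · exact absurd h hd1
  · -- ν swaps a and b: contradiction
    exfalso
    obtain ⟨m, hm, k, hk⟩ := Cfsg.Agent.Helper67.exists_odd_pow_two_elt n⁻¹
    have hmemP : n⁻¹ ^ m ∈ P :=
      Cfsg.Agent.Helper67.mem_sylow_of_mem_normalizer P (Subgroup.pow_mem _ hν m) ⟨k, hk⟩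
    -- ν² centralizes a
    have hsq : Commute (n⁻¹ ^ 2) a := by
      show n⁻¹ ^ 2 * a = a * n⁻¹ ^ 2
      have e1 : n⁻¹ * a = b * n⁻¹ := by
        calc n⁻¹ * a = n⁻¹ * a * n⁻¹⁻¹ * n⁻¹ := by group
          _ = b * n⁻¹ := by rw [hνa]
      have e2 : n⁻¹ * b = a * n⁻¹ := by
        calc n⁻¹ * b = n⁻¹ * b * n⁻¹⁻¹ * n⁻¹ := by group
          _ = a * n⁻¹ := by rw [h]
      calc n⁻¹ ^ 2 * a = n⁻¹ * (n⁻¹ * a) := by rw [pow_two, mul_assoc]
        _ = n⁻¹ * (b * n⁻¹) := by rw [e1]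
        _ = (n⁻¹ * b) * n⁻¹ := by rw [mul_assoc]
        _ = a * n⁻¹ * n⁻¹ := by rw [e2]
        _ = a * n⁻¹ ^ 2 := by rw [pow_two, mul_assoc]
    obtain ⟨j, hj⟩ := hm
    have hpow : n⁻¹ ^ m * a * (n⁻¹ ^ m)⁻¹ = b := by
      have e : n⁻¹ ^ m = n⁻¹ * (n⁻¹ ^ 2) ^ j := by
        rw [hj, ← pow_mul, pow_succ']
      have hc : Commute ((n⁻¹ ^ 2) ^ j) a := hsq.pow_left j
      rw [e]
      calc n⁻¹ * (n⁻¹ ^ 2) ^ j * a * (n⁻¹ * (n⁻¹ ^ 2) ^ j)⁻¹
          = n⁻¹ * ((n⁻¹ ^ 2) ^ j * a) * ((n⁻¹ ^ 2) ^ j)⁻¹ * n⁻¹⁻¹ := by group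
        _ = n⁻¹ * (a * (n⁻¹ ^ 2) ^ j) * ((n⁻¹ ^ 2) ^ j)⁻¹ * n⁻¹⁻¹ := by rw [hc.eq]
        _ = n⁻¹ * a * n⁻¹⁻¹ := by group
        _ = b := hνa
    have hcm := hcomm _ hmemP a ha
    apply hab
    rw [← hpow, hcm]
    group
  · exact absurd h hdne
  · -- ν b ν⁻¹ = a * b
    have h1 : IsConj b (a * b) := isConj_iff.mpr ⟨n⁻¹, h⟩
    exact hconj.trans h1

end Cfsg.Agent.Helper4
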