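import Mathlib
import Cfsg.Agent.Lib.Helper7.M11UDefs
import Cfsg.Agent.Lib.Helper4.M11UTools

/-!
Piece (G3) `all_or_none` of helper7's lemma server "M11U" (row S0420).
-/

set_option autoImplicit false

namespace Cfsg.Agent.Helper4.M11U

open Subgroup Cfsg.Agent.Helper7.M11U
open scoped Pointwise

variable {G : Type*} [Group G] [Finite G] {t : G} {R R2 R3 : Sylow 3 G}

/-- `O = N(R) ⊓ N(R2)` is transitive on `R \ 1`. -/
theorem h4_O_trans (L : Loc G) (Cf : Conf t R R2 R3) {r₀ : G} (hr₀ : r₀ ∈ (R : Subgroup G))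
    (hr₀1 : r₀ ≠ 1) {r : G} (hr : r ∈ (R : Subgroup G)) (hr1 : r ≠ 1) :
    ∃ o : G, o ∈ normalizer ((R : Subgroup G) : Set G) ∧
      o ∈ normalizer ((R2 : Subgroup G) : Set G) ∧ o * r₀ * o⁻¹ = r := by
  classical
  set O : Subgroup G := normalizer ((R : Subgroup G) : Set G) ⊓
    normalizer ((R2 : Subgroup G) : Set G) with hO
  let f : O → ↥(((R : Subgroup G) : Set G) \ {1}) := fun o =>
    ⟨(o : G) * r₀ * (o : G)⁻¹, by
      refine ⟨?_, ?_⟩
      · exact (mem_normalizer_iff.mp o.2.1 r₀).mp hr₀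
      · intro h
        rw [Set.mem_singleton_iff] at h
        apply hr₀1
        have : r₀ = (o : G)⁻¹ * ((o : G) * r₀ * (o : G)⁻¹) * (o : G) := by group
        rw [this, h]; group⟩
  have hinj : Function.Injective f := by
    intro o o' h
    have h' : (o : G) * r₀ * (o : G)⁻¹ = (o' : G) * r₀ * (o' : G)⁻¹ := congrArg (fun w : ↥(((R : Subgroup G) : Set G) \ {1}) => (w : G)) h
    have hmem : (o' : G)⁻¹ * (o : G) ∈ O := O.mul_mem (O.inv_mem o'.2) o.2
    have hfix : ((o' : G)⁻¹ * (o : G)) * r₀ * ((o' : G)⁻¹ * (o : G))⁻¹ = r₀ := by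
      calc ((o' : G)⁻¹ * (o : G)) * r₀ * ((o' : G)⁻¹ * (o : G))⁻¹
          = (o' : G)⁻¹ * ((o : G) * r₀ * (o : G)⁻¹) * (o' : G) := by group
        _ = (o' : G)⁻¹ * ((o' : G) * r₀ * (o' : G)⁻¹) * (o' : G) := by rw [h']
        _ = r₀ := by group
    have := Cf.Oreg _ hmem.1 hmem.2 r₀ hr₀ hr₀1 hfix
    apply Subtype.ext
    have e : (o : G) = (o' : G) * ((o' : G)⁻¹ * (o : G)) := by group
    rw [e, this, mul_one]
  have hcard : Nat.card ↥(((R : Subgroup G) : Set G) \ {1}) ≤ Nat.card O := by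
    rw [Cf.cO]
    have h1 : Nat.card ↥(((R : Subgroup G) : Set G) \ {1}) =
        (((R : Subgroup G) : Set G) \ {1}).ncard := Nat.card_coe_set_eq _
    rw [h1, Set.ncard_sdiff_singleton_of_mem (R : Subgroup G).one_mem]
    have h2 : ((R : Subgroup G) : Set G).ncard = Nat.card (R : Subgroup G) :=
      (Nat.card_coe_set_eq _).symm
    rw [h2, L.card3 R]
  have hbij := hinj.bijective_of_nat_card_le hcard
  obtain ⟨o, ho⟩ := hbij.2 ⟨r, hr, by simpa using hr1⟩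
  exact ⟨o, o.2.1, o.2.2, congrArg (fun w : ↥(((R : Subgroup G) : Set G) \ {1}) => (w : G)) ho⟩

theorem all_or_none (B : Base G) (L : Loc G) (T : Tri t R R2 R3) (Cf : Conf t R R2 R3) :
    ((∀ r ∈ (R : Subgroup G), r ≠ 1 → Adj R2 (r • R2)) ∨ (∀ r ∈ (R : Subgroup G), r ≠ 1 → ¬ Adj R2 (r • R2))) ∧
    ((∀ r ∈ (R : Subgroup G), r ≠ 1 → Adj R2 (r • R3)) ∨ (∀ r ∈ (R : Subgroup G), r ≠ 1 → ¬ Adj R2 (r • R3))) := by
  -- a nontrivial element of R
  obtain ⟨r₀, hr₀, hr₀1⟩ : ∃ r₀ ∈ (R : Subgroup G), r₀ ≠ 1 := by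
    by_contra h
    have h' : ∀ x ∈ (R : Subgroup G), x = 1 := fun x hx => by
      by_contra hne
      exact h ⟨x, hx, hne⟩
    have hbot : (R : Subgroup G) = ⊥ := (Subgroup.eq_bot_iff_forall _).mpr h'
    have := L.card3 R
    rw [hbot] at this
    simp at this
  have key : ∀ (P : Sylow 3 G), (∀ o : G, o ∈ normalizer ((R : Subgroup G) : Set G) →
      o ∈ normalizer ((R2 : Subgroup G) : Set G) → o ∈ normalizer ((P : Subgroup G) : Set G)) →
      ∀ r ∈ (R : Subgroup G), r ≠ 1 → (Adj R2 (r • P) ↔ Adj R2 (r₀ • P)) := by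
    intro P hP r hr hr1
    obtain ⟨o, ho1, ho2, hor⟩ := h4_O_trans L Cf hr₀ hr₀1 hr hr1
    have e1 : o • R2 = R2 := Sylow.smul_eq_iff_mem_normalizer.mpr ho2
    have e2 : o • (r₀ • P) = r • P := by
      rw [h4_smul_smul_of_mem_normalizer (hP o ho1 ho2), hor]
    rw [← h4_adj_smul_iff o (X := R2) (Y := r₀ • P), e1, e2]
  have k2 := key R2 (fun o _ h2 => h2)
  have k3 := key R3 (fun o h1 h2 => (Cf.Ot o h1 h2).2)
  constructor
  · by_cases h : Adj R2 (r₀ • R2)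
    · exact Or.inl (fun r hr hr1 => (k2 r hr hr1).mpr h)
    · exact Or.inr (fun r hr hr1 hc => h ((k2 r hr hr1).mp hc))
  · by_cases h : Adj R2 (r₀ • R3)
    · exact Or.inl (fun r hr hr1 => (k3 r hr hr1).mpr h)
    · exact Or.inr (fun r hr hr1 hc => h ((k3 r hr hr1).mp hc))

end Cfsg.Agent.Helper4.M11U
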