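import Mathlib
import Cfsg.Agent.Lib.Helper7.M11UDefs
import Cfsg.Agent.Lib.Helper4.M11UTools

/-!
Piece (G5) `not_nab` of helper7's lemma server "M11U" (row S0420).
-/

set_option autoImplicit false

namespace Cfsg.Agent.Helper4.M11U

open Subgroup Cfsg.Agent.Helper7.M11U
open scoped Pointwise

theorem h4_le_stab_of_forall {G : Type*} [Group G] {α : Type*} [MulAction G α] (S : Set α)
    (H : Subgroup G) (h : ∀ x ∈ H, ∀ Z ∈ S, x • Z ∈ S) : H ≤ MulAction.stabilizer G S := by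
  intro x hx
  rw [MulAction.mem_stabilizer_set]
  intro Z
  constructor
  · intro hZ
    have := h x⁻¹ (H.inv_mem hx) _ hZ
    rwa [inv_smul_smul] at this
  · exact h x hx Z

variable {G : Type*} [Group G] [Finite G] {t : G} {R R2 R3 : Sylow 3 G}

theorem h4_adj_smul_left' {X Y : Sylow 3 G} (g : G) : Adj (g • X) Y ↔ Adj X (g⁻¹ • Y) := by
  rw [← h4_adj_smul_iff g⁻¹, inv_smul_smul]

theorem not_nab (B : Base G) (L : Loc G) (T : Tri t R R2 R3) (Cf : Conf t R R2 R3)
    (hadj : ∀ (t' : G) (P P2 P3 : Sylow 3 G), Tri t' P P2 P3 →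
      (∀ X : Sylow 3 G, Adj P X ↔ ∃ r ∈ (P : Subgroup G), X = r • P2 ∨ X = r • P3) ∧
      (∀ r ∈ (P : Subgroup G), ∀ r' ∈ (P : Subgroup G), r • P2 ≠ r' • P3) ∧
      (∀ r ∈ (P : Subgroup G), ∀ r' ∈ (P : Subgroup G), r • P2 = r' • P2 → r = r'))
    (hna : ∀ r ∈ (R : Subgroup G), r ≠ 1 → ¬ Adj R2 (r • R2))
    (hb : ∀ r ∈ (R : Subgroup G), r ≠ 1 → Adj R2 (r • R3)) : False := by
  classical
  haveI : Fact (Nat.Prime 3) := ⟨by norm_num⟩
  obtain ⟨h1, h2, h3⟩ := hadj t R R2 R3 T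
  obtain ⟨-, -, h3'⟩ := hadj t R R3 R2 ⟨T.ht, T.i1, T.i3, T.i2, T.ne13, T.ne12, T.ne23.symm⟩
  have hAdjR23 : Adj R2 R3 := ⟨T.ne23, t, T.ht, T.i2, T.i3⟩
  have desc1 : ∀ Z : Sylow 3 G, (Adj R Z ∧ Adj R2 Z) ↔ ∃ r ∈ (R : Subgroup G), Z = r • R3 := by
    intro Z
    constructor
    · rintro ⟨hZ1, hZ2⟩
      obtain ⟨r, hr, h | h⟩ := (h1 Z).mp hZ1
      · exfalso
        by_cases hr1 : r = 1
        · subst hr1; rw [one_smul] at h; exact hZ2.1 h.symm
        · rw [h] at hZ2; exact hna r hr hr1 hZ2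
      · exact ⟨r, hr, h⟩
    · rintro ⟨r, hr, rfl⟩
      refine ⟨(h1 _).mpr ⟨r, hr, Or.inr rfl⟩, ?_⟩
      by_cases hr1 : r = 1
      · subst hr1; rw [one_smul]; exact hAdjR23
      · exact hb r hr hr1
  obtain ⟨g, -, hgR, hgR2, hgR3⟩ := Cf.sw12
  have desc2 : ∀ Z : Sylow 3 G, (Adj R Z ∧ Adj R2 Z) ↔ ∃ x ∈ (R2 : Subgroup G), Z = x • R3 := by
    intro Z
    have e1 : (Adj R Z ∧ Adj R2 Z) ↔ (Adj R (g⁻¹ • Z) ∧ Adj R2 (g⁻¹ • Z)) := by
      rw [← h4_adj_smul_left' g, ← h4_adj_smul_left' g, hgR, hgR2]; exact and_comm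
    rw [e1, desc1]
    constructor
    · rintro ⟨r, hr, h⟩
      refine ⟨g * r * g⁻¹, ?_, ?_⟩
      · rw [← hgR]; exact h4_conj_mem_smul hr
      · calc Z = g • (g⁻¹ • Z) := (smul_inv_smul g Z).symm
          _ = g • (r • R3) := by rw [h]
          _ = (g * r * g⁻¹) • (g • R3) := by simp only [← mul_smul]; congr 1; group
          _ = (g * r * g⁻¹) • R3 := by rw [hgR3]
    · rintro ⟨x, hx, rfl⟩
      refine ⟨g⁻¹ * x * g, ?_, ?_⟩
      · rw [← hgR] at hx; exact h4_mem_smul.mp hx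
      · have hg' : g⁻¹ • R3 = R3 := by
          conv_lhs => rw [← hgR3]
          exact inv_smul_smul g R3
        calc g⁻¹ • (x • R3) = (g⁻¹ * x * g) • (g⁻¹ • R3) := by
              simp only [← mul_smul]; congr 1; group
          _ = _ := by rw [hg']
  set 𝔅 : Set (Sylow 3 G) := {Z | Adj R Z ∧ Adj R2 Z} with h𝔅
  set M : Subgroup G := MulAction.stabilizer G 𝔅 with hM
  have hRM : (R : Subgroup G) ≤ M := by
    apply h4_le_stab_of_forall
    intro x hx Z hZ
    obtain ⟨r, hr, rfl⟩ := (desc1 Z).mp hZ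
    exact (desc1 _).mpr ⟨x * r, (R : Subgroup G).mul_mem hx hr, (mul_smul x r R3).symm⟩
  have hR2M : (R2 : Subgroup G) ≤ M := by
    apply h4_le_stab_of_forall
    intro x hx Z hZ
    obtain ⟨r, hr, rfl⟩ := (desc2 Z).mp hZ
    exact (desc2 _).mpr ⟨x * r, (R2 : Subgroup G).mul_mem hx hr, (mul_smul x r R3).symm⟩
  set O : Subgroup G := normalizer ((R : Subgroup G) : Set G) ⊓
    normalizer ((R2 : Subgroup G) : Set G) with hO
  have hOM : O ≤ M := by
    apply h4_le_stab_of_forall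
    intro o ho Z hZ
    have e1 : o • R = R := Sylow.smul_eq_iff_mem_normalizer.mpr ho.1
    have e2 : o • R2 = R2 := Sylow.smul_eq_iff_mem_normalizer.mpr ho.2
    refine ⟨?_, ?_⟩
    · have := (h4_adj_smul_iff o).mpr hZ.1; rwa [e1] at this
    · have := (h4_adj_smul_iff o).mpr hZ.2; rwa [e2] at this
  have horb : MulAction.orbit M R3 = 𝔅 := by
    ext Z
    rw [MulAction.mem_orbit_iff]
    constructor
    · rintro ⟨m, rfl⟩
      have hm : (m : G) ∈ MulAction.stabilizer G 𝔅 := m.2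
      rw [MulAction.mem_stabilizer_set] at hm
      exact (hm R3).mpr ((desc1 R3).mpr ⟨1, one_mem _, (one_smul _ _).symm⟩)
    · intro hZ
      obtain ⟨r, hr, rfl⟩ := (desc1 Z).mp hZ
      exact ⟨⟨r, hRM hr⟩, rfl⟩
  have h𝔅card : 𝔅.ncard = 9 := by
    have : 𝔅 = Set.range (fun r : ↥(R : Subgroup G) => (r : G) • R3) := by
      ext Z
      simp only [h𝔅, Set.mem_setOf_eq, Set.mem_range]
      rw [desc1]
      constructor
      · rintro ⟨r, hr, rfl⟩; exact ⟨⟨r, hr⟩, rfl⟩
      · rintro ⟨⟨r, hr⟩, rfl⟩; exact ⟨r, hr, rfl⟩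
    rw [this, ← Nat.card_coe_set_eq, Nat.card_range_of_injective, L.card3 R]
    rintro ⟨r, hr⟩ ⟨r', hr'⟩ h
    exact Subtype.ext (h3' r hr r' hr' h)
  set W : Subgroup M := MulAction.stabilizer M R3 with hW
  have hidx : W.index = 9 := by
    rw [hW, MulAction.index_stabilizer, horb, h𝔅card]
  have hW144 : Nat.card W ∣ 144 := by
    rw [← B.h144 R3]
    let f : W →* normalizer ((R3 : Subgroup G) : Set G) :=
      ((M.subtype).comp W.subtype).codRestrict _ (fun w => by
        have hw : (w : M) ∈ MulAction.stabilizer M R3 := w.2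
        rw [MulAction.mem_stabilizer_iff] at hw
        exact Sylow.smul_eq_iff_mem_normalizer.mp hw)
    apply Subgroup.card_dvd_of_injective f
    intro a b hab
    have : ((a : M) : G) = ((b : M) : G) := congrArg (fun z : normalizer ((R3 : Subgroup G) : Set G) => (z : G)) hab
    exact Subtype.ext (Subtype.ext this)
  have hMcard : Nat.card W * 9 = Nat.card M := by
    rw [← hidx]; exact Subgroup.card_mul_index W
  have hM7920 : Nat.card M ∣ 7920 := by
    rw [← B.card]; exact Subgroup.card_subgroup_dvd_card M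
  have hW16 : Nat.card W ∣ 16 := by
    have h880 : Nat.card W ∣ 880 := by
      rw [← hMcard] at hM7920
      exact Nat.dvd_of_mul_dvd_mul_right (by norm_num : 0 < 9) (by simpa using hM7920)
    have := Nat.dvd_gcd h880 hW144
    simpa using this
  have hM144 : Nat.card M ∣ 144 := by
    rw [← hMcard]
    exact Nat.mul_dvd_mul hW16 (dvd_refl 9)
  set P : Sylow 3 M := R.subtype hRM with hP
  set NP : Subgroup M := normalizer ((P : Subgroup M) : Set M) with hNP
  have h9 : 9 ∣ Nat.card NP := by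
    have hc : Nat.card (P : Subgroup M) = 9 := by
      rw [hP, Sylow.coe_subtype, Nat.card_congr (Subgroup.subgroupOfEquivOfLe hRM).toEquiv, L.card3 R]
    rw [← hc]
    exact Subgroup.card_dvd_of_le le_normalizer
  have h8 : 8 ∣ Nat.card NP := by
    have hc : Nat.card (O.subgroupOf M) = 8 := by
      rw [Nat.card_congr (Subgroup.subgroupOfEquivOfLe hOM).toEquiv, hO, Cf.cO]
    rw [← hc]
    apply Subgroup.card_dvd_of_le
    intro x hx
    rw [mem_subgroupOf] at hx
    rw [hNP, mem_normalizer_iff]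
    intro h
    have hxN : (x : G) ∈ normalizer ((R : Subgroup G) : Set G) := hx.1
    rw [mem_normalizer_iff] at hxN
    have e : ∀ y : M, y ∈ (P : Subgroup M) ↔ (y : G) ∈ (R : Subgroup G) := by
      intro y
      rw [hP, Sylow.coe_subtype, mem_subgroupOf]
    rw [e, e]
    exact hxN (h : G)
  have h72 : 72 ∣ Nat.card NP :=
    (by norm_num : Nat.Coprime 9 8).mul_dvd_of_dvd_of_dvd h9 h8
  have hidxNP : NP.index ≤ 2 := by
    have hmul := Subgroup.card_mul_index NP
    have hd : 72 * NP.index ∣ 72 * 2 := by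
      have : 72 * NP.index ∣ Nat.card NP * NP.index := Nat.mul_dvd_mul h72 (dvd_refl _)
      rw [hmul] at this
      exact this.trans hM144
    exact Nat.le_of_dvd (by norm_num) (Nat.dvd_of_mul_dvd_mul_left (by norm_num) hd)
  have hn3 : Nat.card (Sylow 3 M) = NP.index := Sylow.card_eq_index_normalizer P
  have hmod : Nat.card (Sylow 3 M) ≡ 1 [MOD 3] := card_sylow_modEq_one 3 M
  have hone : Nat.card (Sylow 3 M) = 1 := by
    rw [hn3] at hmod ⊢
    have : NP.index % 3 = 1 := hmod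
    omega
  have hsub : Subsingleton (Sylow 3 M) := (Nat.card_eq_one_iff_unique.mp hone).1
  have : R.subtype hRM = R2.subtype hR2M := Subsingleton.elim _ _
  exact T.ne12 (Sylow.subtype_injective this)
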