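import Mathlib
import Cfsg.Prelude.Def_Blocks
import Cfsg.Agent.Lib.Helper55.O2520Defs
import Cfsg.Agent.Lib.Helper17.PrimeTIApp3
import Cfsg.Agent.Lib.Helper17.RationalTI
import Cfsg.Agent.Lib.Helper79.Orthogonality

set_option autoImplicit false

namespace Cfsg.Agent.Helper4.O2520

universe u

/-- divisors of 2520 up to 50 that are `±1 mod 7` -/
theorem h4_deg_list : ∀ x : ℕ, x ≤ 50 → x ∣ 2520 → (x % 7 = 1 ∨ x % 7 = 6) →
    (x = 1 ∨ x = 6 ∨ x = 8 ∨ x = 15 ∨ x = 20 ∨ x = 36) := by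
  decide

/-- divisors of 2520 up to 35 -/
theorem h4_div_list : ∀ d : ℕ, d ≤ 35 → d ∣ 2520 →
    (d = 1 ∨ d = 2 ∨ d = 3 ∨ d = 4 ∨ d = 5 ∨ d = 6 ∨ d = 7 ∨ d = 8 ∨ d = 9 ∨ d = 10 ∨ d = 12 ∨
      d = 14 ∨ d = 15 ∨ d = 18 ∨ d = 20 ∨ d = 21 ∨ d = 24 ∨ d = 28 ∨ d = 30 ∨ d = 35) := by
  intro d hd hdvd
  interval_cases d <;> first | omega | (exfalso; norm_num at hdvd)

set_option maxHeartbeats 1600000 in
/-- the arithmetic of the degree equation for `p = 7`, `e = 3` in order 2520 -/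
theorem h4_arith (x y d : ℕ) (ex ey w : ℤ) (hex : ex = 1 ∨ ex = -1) (hey : ey = 1 ∨ ey = -1)
    (hw : w = 1 ∨ w = -1) (hx2 : 2 ≤ x) (hy2 : 2 ≤ y) (hd1 : 1 ≤ d)
    (hxd : x ∣ 2520) (hyd : y ∣ 2520) (hdd : d ∣ 2520)
    (h7x : (7 : ℤ) ∣ (x : ℤ) - ex) (h7y : (7 : ℤ) ∣ (y : ℤ) - ey)
    (hrel : 1 + ex * (x : ℤ) + ey * (y : ℤ) + (d : ℤ) * w = 0)
    (hsq : 1 + x ^ 2 + y ^ 2 + 2 * d ^ 2 ≤ 2520) :
    x = 6 ∨ y = 6 ∨ d = 4 ∨ (d = 24 ∧ ((x = 8 ∧ y = 15) ∨ (x = 15 ∧ y = 8))) := by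
  have hx50 : x ≤ 50 := by nlinarith
  have hy50 : y ≤ 50 := by nlinarith
  have hd35 : d ≤ 35 := by nlinarith
  have hxm : x % 7 = 1 ∨ x % 7 = 6 := by rcases hex with h | h <;> rw [h] at h7x <;> omega
  have hym : y % 7 = 1 ∨ y % 7 = 6 := by rcases hey with h | h <;> rw [h] at h7y <;> omega
  have hxL := h4_deg_list x hx50 hxd hxm
  have hyL := h4_deg_list y hy50 hyd hym
  have hdL := h4_div_list d hd35 hdd
  rcases hex with rfl | rfl <;> rcases hey with rfl | rfl <;> rcases hw with rfl | rfl <;>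
    rcases hxL with rfl | rfl | rfl | rfl | rfl | rfl <;>
    rcases hyL with rfl | rfl | rfl | rfl | rfl | rfl <;> omega

open Cfsg Cfsg.Agent.Helper55.O2520
open scoped Classical

theorem h4_sylow_card_prime {G : Type u} [Group G] [Finite G] (p m : ℕ) [hp : Fact p.Prime]
    (hpG : p ∣ Nat.card G) (P : Sylow p G)
    (hN : Nat.card (Subgroup.normalizer ((P : Subgroup G) : Set G)) = p * m) (hpm : ¬ p ∣ m) :
    Nat.card (P : Subgroup G) = p := by
  obtain ⟨k, hk⟩ := P.2.exists_card_eq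
  have hdvd : Nat.card (P : Subgroup G) ∣ p * m := by
    rw [← hN]; exact Subgroup.card_dvd_of_le Subgroup.le_normalizer
  have hpP : p ∣ Nat.card (P : Subgroup G) := P.dvd_card_of_dvd_card hpG
  rw [hk] at hdvd hpP ⊢
  rcases k with _ | _ | k
  · exfalso
    rw [pow_zero] at hpP
    exact hp.out.one_lt.ne' (Nat.dvd_one.mp hpP)
  · simp
  · exfalso
    apply hpm
    have h2 : p * p ∣ p * m := by
      refine dvd_trans ?_ hdvd
      exact ⟨p ^ k, by ring⟩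
    exact (Nat.mul_dvd_mul_iff_left hp.out.pos).mp h2

set_option maxHeartbeats 1000000 in
/-- (DEG6) -/
theorem exists_deg6 {G : Type u} [Group G] [Fintype G] [IsSimpleGroup G] (hG : Nat.card G = 2520)
    (Q7 : Sylow 7 G) (hN7 : Nat.card (Subgroup.normalizer ((Q7 : Subgroup G) : Set G)) = 21)
    (hC7 : Subgroup.centralizer ((Q7 : Subgroup G) : Set G) = (Q7 : Subgroup G))
    (Q5 : Sylow 5 G) (hN5 : Nat.card (Subgroup.normalizer ((Q5 : Subgroup G) : Set G)) = 20)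
    (hC5 : Subgroup.centralizer ((Q5 : Subgroup G) : Set G) = (Q5 : Subgroup G))
    (hno4 : ∀ ψ : IrrCharacter G, charDegree (ψ : G → ℂ) ≠ 4) :
    ∃ ψ : IrrCharacter G, charDegree (ψ : G → ℂ) = 6 := by
  have : Fact (Nat.Prime 7) := ⟨by norm_num⟩
  have : Fact (Nat.Prime 5) := ⟨by norm_num⟩
  have hperf : commutator G = ⊤ :=
    Cfsg.Agent.Helper17.PrimeTI.perfect_of_simple (by rw [hG]; norm_num)
  have hP7 : Nat.card (Q7 : Subgroup G) = 7 :=
    h4_sylow_card_prime 7 3 (by rw [hG]; norm_num) Q7 (by rw [hN7]) (by norm_num)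
  have hP5 : Nat.card (Q5 : Subgroup G) = 5 :=
    h4_sylow_card_prime 5 4 (by rw [hG]; norm_num) Q5 (by rw [hN5]) (by norm_num)
  obtain ⟨w, d, E, a, hEcard, hEdeg, hEne, haE, haK, hcong, hnorm, hdegeq⟩ :=
    Cfsg.Agent.Helper17.PrimeTI.prime_degree_equation (Q7 : Subgroup G) 7 3 2 hP7 hC7
      (by rw [hN7]) (by norm_num) (by norm_num) (by norm_num)
  set ψ1 : IrrCharacter G := ⟨fun _ => 1, Cfsg.Agent.Helper81.isIrrCharacter_one⟩ with hψ1
  have hψ1E : ψ1 ∉ E := fun h => hEne ψ1 h rfl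
  obtain ⟨k, hk, hk1⟩ := Cfsg.Agent.Helper17.PrimeTI.exists_ne_one_of_prime_card
    (Q7 : Subgroup G) hP7
  have ha1 : a ψ1 = 1 := by
    have h := haK ψ1 hψ1E k hk hk1
    have h' : ((1 : ℤ) : ℂ) = ((a ψ1 : ℤ) : ℂ) := by
      rw [← h]; simp [hψ1]
    exact_mod_cast h'.symm
  have hdeg1 : charDegree (ψ1 : G → ℂ) = 1 := Cfsg.Agent.Helper17.PrimeTI.charDegree_one
  obtain ⟨ψe, hψe⟩ := Finset.card_pos.1 (by omega : 0 < E.card)
  have hd : d ∣ Nat.card G := by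
    rw [← hEdeg ψe hψe]
    exact Cfsg.Agent.Helper79.irr_degree_dvd_card ψe
  have hdpos : 0 < d := by
    rw [← hEdeg ψe hψe]
    exact (Cfsg.Agent.Helper79.irr_one_eq ψe).2
  have hsplit1 := Finset.add_sum_erase Finset.univ (fun ψ => (a ψ) ^ 2) (Finset.mem_univ ψ1)
  have hsplit2 := Finset.add_sum_erase Finset.univ
    (fun ψ => a ψ * (charDegree (ψ : G → ℂ) : ℤ)) (Finset.mem_univ ψ1)
  simp only [ha1, hdeg1] at hsplit1 hsplit2
  have hrest : 0 ≤ ∑ ψ ∈ Finset.univ.erase ψ1, (a ψ) ^ 2 :=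
    Finset.sum_nonneg (fun i _ => sq_nonneg _)
  rw [← hsplit1] at hnorm
  rw [← hsplit2] at hdegeq
  have hw2 : 0 ≤ w ^ 2 := sq_nonneg w
  have hR2 : ∑ ψ ∈ Finset.univ.erase ψ1, (a ψ) ^ 2 = 2 ∧ w ^ 2 = 1 := by
    have hle : ∑ ψ ∈ Finset.univ.erase ψ1, (a ψ) ^ 2 ≤ 2 := by
      by_contra hgt
      push_neg at hgt
      have h3 : (3 : ℤ) ≤ ∑ ψ ∈ Finset.univ.erase ψ1, (a ψ) ^ 2 := hgt
      push_cast at hnorm
      nlinarith
    have hwb : w ≤ 2 ∧ -2 ≤ w := by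
      push_cast at hnorm
      constructor <;> nlinarith
    push_cast at hnorm
    obtain ⟨hw1, hw2'⟩ := hwb
    interval_cases w <;> constructor <;> omega
  obtain ⟨h2, hw1⟩ := hR2
  have hw : w = 1 ∨ w = -1 := by
    have h : (w - 1) * (w + 1) = 0 := by ring_nf; linarith
    rcases mul_eq_zero.1 h with h | h
    · left; linarith
    · right; linarith
  obtain ⟨X, hX, haX, hrestX⟩ := Cfsg.Agent.Helper17.PrimeTI.peel (Finset.univ.erase ψ1) a 1
    (by norm_num) (by rw [h2]; norm_num)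
  obtain ⟨Y, hY, haY, hrestY⟩ := Cfsg.Agent.Helper17.PrimeTI.peel
    ((Finset.univ.erase ψ1).erase X) a 0 (by norm_num) (by rw [hrestX]; norm_num)
  have hXne : X ≠ ψ1 := (Finset.mem_erase.1 hX).1
  have hYne : Y ≠ ψ1 := (Finset.mem_erase.1 (Finset.mem_erase.1 hY).2).1
  have hYX : Y ≠ X := (Finset.mem_erase.1 hY).1
  have hz := Cfsg.Agent.Helper17.PrimeTI.all_zero _ a (by exact_mod_cast hrestY)
  have hsplit3 := Finset.add_sum_erase (Finset.univ.erase ψ1)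
    (fun ψ => a ψ * (charDegree (ψ : G → ℂ) : ℤ)) hX
  have hsplit4 := Finset.add_sum_erase ((Finset.univ.erase ψ1).erase X)
    (fun ψ => a ψ * (charDegree (ψ : G → ℂ) : ℤ)) hY
  have hs0 : ∑ ψ ∈ ((Finset.univ.erase ψ1).erase X).erase Y,
      a ψ * (charDegree (ψ : G → ℂ) : ℤ) = 0 :=
    Finset.sum_eq_zero (fun ψ hψ => by rw [hz ψ hψ, zero_mul])
  rw [hs0, add_zero] at hsplit4
  rw [← hsplit4] at hsplit3
  rw [← hsplit3] at hdegeq
  push_cast at hdegeq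
  have hnotE : ∀ Z : IrrCharacter G, (a Z = 1 ∨ a Z = -1) → Z ∉ E := by
    intro Z haZ h
    have := haE Z h
    rcases haZ with h' | h' <;> rw [h'] at this <;> norm_num at this
  have hXE := hnotE X haX
  have hYE := hnotE Y haY
  have hdeg_gt : ∀ Z : IrrCharacter G, Z ≠ ψ1 → 1 < charDegree (Z : G → ℂ) := by
    intro Z hZ
    have hpos : 0 < charDegree (Z : G → ℂ) := (Cfsg.Agent.Helper79.irr_one_eq Z).2
    have hne1 : charDegree (Z : G → ℂ) ≠ 1 := by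
      intro h
      apply hZ
      apply Subtype.ext
      exact Cfsg.Agent.Helper17.PrimeTI.linear_trivial_of_perfect hperf Z h
    omega
  have hcX := hcong X hXE
  have hcY := hcong Y hYE
  have hx2 := hdeg_gt X hXne
  have hy2 := hdeg_gt Y hYne
  have hxd : charDegree (X : G → ℂ) ∣ 2520 := by
    rw [← hG]; exact Cfsg.Agent.Helper79.irr_degree_dvd_card X
  have hyd : charDegree (Y : G → ℂ) ∣ 2520 := by
    rw [← hG]; exact Cfsg.Agent.Helper79.irr_degree_dvd_card Y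
  have hdd : d ∣ 2520 := by rw [← hG]; exact hd
  -- the sum of squares
  have hsq : 1 + charDegree (X : G → ℂ) ^ 2 + charDegree (Y : G → ℂ) ^ 2 + 2 * d ^ 2 ≤ 2520 := by
    have htot := Cfsg.Agent.Helper79.sum_sq_degree_nat (G := G)
    rw [hG] at htot
    have hsub : insert ψ1 (insert X (insert Y E)) ⊆ (Finset.univ : Finset (IrrCharacter G)) :=
      Finset.subset_univ _
    have hle := Finset.sum_le_sum_of_subset (f := fun χ : IrrCharacter G =>
      (charDegree (χ : G → ℂ)) ^ 2) hsub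
    rw [htot] at hle
    have hYE' : Y ∉ E := hYE
    have hX' : X ∉ insert Y E := by
      rw [Finset.mem_insert]; rintro (h | h)
      · exact hYX h.symm
      · exact hXE h
    have h1' : ψ1 ∉ insert X (insert Y E) := by
      rw [Finset.mem_insert, Finset.mem_insert]; rintro (h | h | h)
      · exact hXne h.symm
      · exact hYne h.symm
      · exact hψ1E h
    rw [Finset.sum_insert h1', Finset.sum_insert hX', Finset.sum_insert hYE', hdeg1] at hle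
    have hE : ∑ χ ∈ E, (charDegree (χ : G → ℂ)) ^ 2 = 2 * d ^ 2 := by
      rw [Finset.sum_congr rfl (fun χ hχ => by rw [hEdeg χ hχ]), Finset.sum_const, hEcard]
      simp
    rw [hE] at hle
    omega
  have hrel : 1 + a X * (charDegree (X : G → ℂ) : ℤ) + a Y * (charDegree (Y : G → ℂ) : ℤ)
      + (d : ℤ) * w = 0 := by linarith
  rcases h4_arith _ _ d (a X) (a Y) w haX haY hw hx2 hy2 hdpos hxd hyd hdd hcX hcY hrel hsq with
    h | h | h | ⟨hd24, hxy⟩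
  · exact ⟨X, h⟩
  · exact ⟨Y, h⟩
  · exfalso
    exact hno4 ψe (by rw [hEdeg ψe hψe, h])
  · -- pattern (8, 15, 24): the prime 5
    exfalso
    obtain ⟨b, hbK, hbcong, hbnorm, _⟩ :=
      Cfsg.Agent.Helper17.RationalTI.rational_degree_equation hperf Q5 hP5 hC5 (by rw [hN5])
    obtain ⟨k5, hk5, hk51⟩ := Cfsg.Agent.Helper17.PrimeTI.exists_ne_one_of_prime_card
      (Q5 : Subgroup G) hP5
    have hb1 : b ψ1 = 1 := by
      have h := hbK ψ1 k5 hk5 hk51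
      have h' : ((1 : ℤ) : ℂ) = ((b ψ1 : ℤ) : ℂ) := by
        rw [← h]; simp [hψ1]
      exact_mod_cast h'.symm
    -- a character `Z ≠ ψ1` of degree 8
    obtain ⟨Z, hZne, hZ8, hZE⟩ : ∃ Z : IrrCharacter G, Z ≠ ψ1 ∧ charDegree (Z : G → ℂ) = 8 ∧
        Z ∉ E := by
      rcases hxy with ⟨h8, _⟩ | ⟨_, h8⟩
      · exact ⟨X, hXne, h8, hXE⟩
      · exact ⟨Y, hYne, h8, hYE⟩
    have hs1 := Finset.add_sum_erase Finset.univ (fun ψ => (b ψ) ^ 2) (Finset.mem_univ ψ1)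
    have hZmem : Z ∈ Finset.univ.erase ψ1 := Finset.mem_erase.2 ⟨hZne, Finset.mem_univ _⟩
    have hs2 := Finset.add_sum_erase (Finset.univ.erase ψ1) (fun ψ => (b ψ) ^ 2) hZmem
    simp only [hb1] at hs1
    rw [← hs1, ← hs2] at hbnorm
    have hrest2 : 0 ≤ ∑ ψ ∈ (Finset.univ.erase ψ1).erase Z, (b ψ) ^ 2 :=
      Finset.sum_nonneg (fun i _ => sq_nonneg _)
    have hbZ := hbcong Z
    rw [hZ8] at hbZ
    push_cast at hbnorm hbZ
    have hbZ2 : (b Z) ^ 2 ≤ 4 := by linarith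
    have hbZb : b Z ≤ 2 ∧ -2 ≤ b Z := by constructor <;> nlinarith
    have hbZv : b Z = -2 := by
      obtain ⟨h1, h2⟩ := hbZb
      omega
    rw [hbZv] at hbnorm
    have hrest0 : ∑ ψ ∈ (Finset.univ.erase ψ1).erase Z, (b ψ) ^ 2 = 0 := by linarith
    have hz2 := Cfsg.Agent.Helper17.PrimeTI.all_zero _ b hrest0
    have hψe1 : ψe ≠ ψ1 := fun h => hψ1E (h ▸ hψe)
    have hψeZ : ψe ≠ Z := fun h => hZE (h ▸ hψe)
    have hbe : b ψe = 0 := hz2 ψe
      (Finset.mem_erase.2 ⟨hψeZ, Finset.mem_erase.2 ⟨hψe1, Finset.mem_univ _⟩⟩)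
    have hce := hbcong ψe
    rw [hEdeg ψe hψe, hd24, hbe] at hce
    norm_num at hce

end Cfsg.Agent.Helper4.O2520
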