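import Mathlib
import Cfsg.Prelude.Def_Blocks
import Cfsg.Agent.Lib.Helper55.O2520Defs

set_option autoImplicit false

namespace Cfsg.Agent.Helper4.O2520

open Cfsg Cfsg.Agent.Helper55.O2520
open scoped Classical

universe u

section generic
variable {G : Type u} [Group G] [Fintype G]

theorem h4_conj_pow_mem (P : Subgroup G) (v : G) (hn : ∀ x ∈ P, v * x * v⁻¹ ∈ P) :
    ∀ (k : ℕ) (x : G), x ∈ P → v ^ k * x * (v ^ k)⁻¹ ∈ P
  | 0, x, hx => by simpa using hx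
  | k + 1, x, hx => by
      have h1 := h4_conj_pow_mem P v hn k x hx
      have h2 := hn _ h1
      have e : v ^ (k + 1) * x * (v ^ (k + 1))⁻¹ = v * (v ^ k * x * (v ^ k)⁻¹) * v⁻¹ := by
        rw [pow_succ']; group
      rw [e]; exact h2

theorem h4_pow_inv_eq (v : G) (k : ℕ) : v ^ (k * (orderOf v - 1)) = (v ^ k)⁻¹ := by
  apply eq_inv_of_mul_eq_one_right
  rw [← pow_add]
  have hpos := orderOf_pos v
  have : k + k * (orderOf v - 1) = orderOf v * k := by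
    obtain ⟨r, hr⟩ : ∃ r, orderOf v = r + 1 := ⟨orderOf v - 1, by omega⟩
    rw [hr]; simp; ring
  rw [this, pow_mul, pow_orderOf_eq_one, one_pow]

/-- the product set `P ⟨v⟩` as a subgroup when `v` normalises `P`. -/
def h4_prodSub (P : Subgroup G) (v : G) (hn : ∀ x ∈ P, v * x * v⁻¹ ∈ P) : Subgroup G where
  carrier := {g | ∃ y ∈ P, ∃ k : ℕ, g = y * v ^ k}
  one_mem' := ⟨1, P.one_mem, 0, by simp⟩
  mul_mem' := by
    rintro _ _ ⟨y, hy, k, rfl⟩ ⟨y', hy', k', rfl⟩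
    refine ⟨y * (v ^ k * y' * (v ^ k)⁻¹), P.mul_mem hy (h4_conj_pow_mem P v hn k y' hy'),
      k + k', ?_⟩
    rw [pow_add]; group
  inv_mem' := by
    rintro _ ⟨y, hy, k, rfl⟩
    refine ⟨v ^ (k * (orderOf v - 1)) * y⁻¹ * (v ^ (k * (orderOf v - 1)))⁻¹,
      h4_conj_pow_mem P v hn _ _ (P.inv_mem hy), k * (orderOf v - 1), ?_⟩
    rw [h4_pow_inv_eq]; group

theorem h4_mem_sup_iff (P : Subgroup G) (v : G) (hn : ∀ x ∈ P, v * x * v⁻¹ ∈ P) (g : G) :
    g ∈ P ⊔ Subgroup.zpowers v ↔ ∃ y ∈ P, ∃ k : ℕ, k < orderOf v ∧ g = y * v ^ k := by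
  constructor
  · intro hg
    have hle : P ⊔ Subgroup.zpowers v ≤ h4_prodSub P v hn := by
      apply sup_le
      · intro y hy; exact ⟨y, hy, 0, by simp⟩
      · rw [Subgroup.zpowers_le]; exact ⟨1, P.one_mem, 1, by simp⟩
    obtain ⟨y, hy, k, rfl⟩ := hle hg
    exact ⟨y, hy, k % orderOf v, Nat.mod_lt _ (orderOf_pos v), by rw [pow_mod_orderOf]⟩
  · rintro ⟨y, hy, k, _, rfl⟩
    exact Subgroup.mul_mem _ (Subgroup.mem_sup_left hy)
      (Subgroup.mem_sup_right (Subgroup.pow_mem _ (Subgroup.mem_zpowers v) k))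

theorem h4_pair_inj (P : Subgroup G) (v : G) (hdisj : ∀ k : ℕ, v ^ k ∈ P → v ^ k = 1)
    (y y' : G) (hy : y ∈ P) (hy' : y' ∈ P) (k k' : ℕ) (hk : k < orderOf v) (hk' : k' < orderOf v)
    (heq : y * v ^ k = y' * v ^ k') : y = y' ∧ k = k' := by
  have h1 : y'⁻¹ * y = v ^ k' * (v ^ k)⁻¹ := by
    have : y = y' * v ^ k' * (v ^ k)⁻¹ := by rw [← heq]; group
    rw [this]; group
  rw [← h4_pow_inv_eq, ← pow_add] at h1
  have hmem : v ^ (k' + k * (orderOf v - 1)) ∈ P := by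
    rw [← h1]; exact P.mul_mem (P.inv_mem hy') hy
  have h2 := hdisj _ hmem
  rw [h2] at h1
  have hyy : y = y' := by
    have := inv_mul_eq_one.mp h1
    exact this.symm
  refine ⟨hyy, ?_⟩
  subst hyy
  have hv : v ^ k = v ^ k' := mul_left_cancel heq
  exact pow_injOn_Iio_orderOf hk hk' hv

theorem h4_sum_sup (P : Subgroup G) (v : G) (hn : ∀ x ∈ P, v * x * v⁻¹ ∈ P)
    (hdisj : ∀ k : ℕ, v ^ k ∈ P → v ^ k = 1) (χ : G → ℂ) :
    ∑ g : G, (if g ∈ P ⊔ Subgroup.zpowers v then χ g else 0) =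
      ∑ k ∈ Finset.range (orderOf v), ∑ y : G, (if y ∈ P then χ (y * v ^ k) else 0) := by
  rw [← Finset.sum_filter]
  have himg : Finset.univ.filter (fun g => g ∈ P ⊔ Subgroup.zpowers v) =
      ((Finset.univ.filter (fun y => y ∈ P)) ×ˢ Finset.range (orderOf v)).image
        (fun p => p.1 * v ^ p.2) := by
    ext g
    simp only [Finset.mem_filter, Finset.mem_univ, true_and, Finset.mem_image,
      Finset.mem_product, Finset.mem_range, Prod.exists]
    rw [h4_mem_sup_iff P v hn]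
    constructor
    · rintro ⟨y, hy, k, hk, rfl⟩; exact ⟨y, k, ⟨hy, hk⟩, rfl⟩
    · rintro ⟨y, k, ⟨hy, hk⟩, rfl⟩; exact ⟨y, hy, k, hk, rfl⟩
  rw [himg, Finset.sum_image]
  · rw [Finset.sum_product_right]
    apply Finset.sum_congr rfl
    intro k _
    rw [Finset.sum_filter]
  · rintro ⟨y, k⟩ h1 ⟨y', k'⟩ h2 heq
    simp only [Finset.coe_product, Finset.coe_filter, Finset.mem_univ, true_and, Finset.coe_range,
      Set.mem_prod, Set.mem_ofPred_eq, Set.mem_Iio] at h1 h2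
    obtain ⟨e1, e2⟩ := h4_pair_inj P v hdisj y y' h1.1 h2.1 k k' h1.2 h2.2 heq
    rw [e1, e2]

theorem h4_card_filter (P : Subgroup G) :
    ((Finset.univ.filter (fun y => y ∈ P)).card : ℂ) = (Nat.card P : ℂ) := by
  congr 1
  rw [Nat.card_eq_fintype_card, Fintype.card_subtype]

theorem h4_sum_const (P : Subgroup G) (c : ℂ) :
    ∑ y : G, (if y ∈ P then c else 0) = (Nat.card P : ℂ) * c := by
  rw [← Finset.sum_filter, Finset.sum_const, nsmul_eq_mul, h4_card_filter]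

theorem h4_conj_of_fpf (P : Subgroup G) (w : G) (hn : ∀ x ∈ P, w * x * w⁻¹ ∈ P)
    (hfpf : ∀ x ∈ P, w * x * w⁻¹ = x → x = 1) (y : G) (hy : y ∈ P) :
    ∃ z : G, z⁻¹ * w * z = y * w := by
  let f : P → P := fun z => ⟨(z : G)⁻¹ * (w * z * w⁻¹), P.mul_mem (P.inv_mem z.2) (hn z z.2)⟩
  have hinj : Function.Injective f := by
    intro a b h
    have h' : (a : G)⁻¹ * (w * a * w⁻¹) = (b : G)⁻¹ * (w * b * w⁻¹) := congrArg Subtype.val h
    have e1 : w * (b : G) * w⁻¹ = (b : G) * (a : G)⁻¹ * (w * a * w⁻¹) := by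
      rw [mul_assoc (b : G), h']; group
    have hfix : w * ((b : G) * (a : G)⁻¹) * w⁻¹ = (b : G) * (a : G)⁻¹ := by
      calc w * ((b : G) * (a : G)⁻¹) * w⁻¹ = (w * b * w⁻¹) * (w * a * w⁻¹)⁻¹ := by group
        _ = (b : G) * (a : G)⁻¹ * (w * a * w⁻¹) * (w * a * w⁻¹)⁻¹ := by rw [e1]
        _ = (b : G) * (a : G)⁻¹ := by group
    have h1 := hfpf _ (P.mul_mem b.2 (P.inv_mem a.2)) hfix
    have : (b : G) = a := mul_inv_eq_one.mp h1
    exact Subtype.ext this.symm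
  have hsurj : Function.Surjective f := Finite.surjective_of_injective hinj
  obtain ⟨z, hz⟩ := hsurj ⟨y, hy⟩
  refine ⟨z, ?_⟩
  have : (z : G)⁻¹ * (w * z * w⁻¹) = y := congrArg Subtype.val hz
  rw [← this]; group

theorem h4_sum_coset (P : Subgroup G) (w : G) (hn : ∀ x ∈ P, w * x * w⁻¹ ∈ P)
    (hfpf : ∀ x ∈ P, w * x * w⁻¹ = x → x = 1) (χ : G → ℂ)
    (hcl : ∀ g x : G, χ (g * x * g⁻¹) = χ x) :
    ∑ y : G, (if y ∈ P then χ (y * w) else 0) = (Nat.card P : ℂ) * χ w := by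
  rw [← h4_sum_const]
  apply Finset.sum_congr rfl
  intro y _
  by_cases hy : y ∈ P
  · rw [if_pos hy, if_pos hy]
    obtain ⟨z, hz⟩ := h4_conj_of_fpf P w hn hfpf y hy
    rw [← hz]
    have := hcl z⁻¹ w
    rw [inv_inv] at this
    exact this
  · rw [if_neg hy, if_neg hy]

end generic

section sums
variable {G : Type u} [Group G] [Fintype G] (P : Subgroup G) (u w : G) (hc : Config P u w)
  (χ : G → ℂ) (hcl : ∀ g x : G, χ (g * x * g⁻¹) = χ x)
include hc hcl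

/-- (SUMN) -/
theorem sum_N :
    Nat.card (P ⊔ Subgroup.zpowers u : Subgroup G) = 36 ∧
    Nat.card (P ⊔ Subgroup.zpowers (u ^ 2) : Subgroup G) = 18 ∧
    ∑ g : G, (if g ∈ P ⊔ Subgroup.zpowers u then χ g else 0) =
      ∑ g : G, (if g ∈ P then χ g else 0) + 9 * (χ u + χ (u ^ 2) + χ (u ^ 3)) ∧
    ∑ g : G, (if g ∈ P ⊔ Subgroup.zpowers (u ^ 2) then χ g else 0) =
      ∑ g : G, (if g ∈ P then χ g else 0) + 9 * χ (u ^ 2) := by
  have hu4 : u ^ 4 = 1 := by rw [← hc.ordu]; exact pow_orderOf_eq_one u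
  have hcard : (Nat.card P : ℂ) = 9 := by rw [hc.cardP]; norm_num
  -- normalisation by powers
  have hnk : ∀ k : ℕ, ∀ x ∈ P, u ^ k * x * (u ^ k)⁻¹ ∈ P :=
    fun k x hx => h4_conj_pow_mem P u hc.norm k x hx
  -- no power of u in P except 1
  have hdisj : ∀ k : ℕ, u ^ k ∈ P → u ^ k = 1 := by
    intro k hk
    have h3 := hc.expP _ hk
    have h4 : (u ^ k) ^ 4 = 1 := by rw [← pow_mul, mul_comm, pow_mul, hu4, one_pow]
    calc u ^ k = (u ^ k) ^ 4 * ((u ^ k) ^ 3)⁻¹ := by group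
      _ = 1 := by rw [h3, h4]; simp
  have hdisj2 : ∀ k : ℕ, (u ^ 2) ^ k ∈ P → (u ^ 2) ^ k = 1 := by
    intro k hk
    rw [← pow_mul] at hk ⊢
    exact hdisj _ hk
  have hord2 : orderOf (u ^ 2) = 2 := by
    rw [orderOf_pow' u (by norm_num : (2 : ℕ) ≠ 0), hc.ordu]
    norm_num
  -- fixed points
  have hx1 : ∀ x ∈ P, x⁻¹ = x → x = 1 := by
    intro x hx hxx
    have h3 := hc.expP x hx
    have h2 : x ^ 2 = 1 := by
      rw [pow_two]
      nth_rewrite 1 [← hxx]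
      exact inv_mul_cancel x
    calc x = x ^ 3 * (x ^ 2)⁻¹ := by group
      _ = 1 := by rw [h3, h2]; simp
  have hfpf2 : ∀ x ∈ P, u ^ 2 * x * (u ^ 2)⁻¹ = x → x = 1 := by
    intro x hx h
    rw [hc.inv x hx] at h
    exact hx1 x hx h
  have hfpf_of : ∀ v : G, v ^ 2 = u ^ 2 → ∀ x ∈ P, v * x * v⁻¹ = x → x = 1 := by
    intro v hv x hx h
    have hcomm : Commute v x := by
      have : v * x = x * v := by
        have := mul_inv_eq_iff_eq_mul.mp h
        exact this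
      exact this
    have h2 : Commute (v ^ 2) x := hcomm.pow_left 2
    apply hfpf2 x hx
    rw [← hv]
    exact mul_inv_eq_iff_eq_mul.mpr h2.eq
  have hfpf1 : ∀ x ∈ P, u * x * u⁻¹ = x → x = 1 := hfpf_of u rfl
  have hfpf3 : ∀ x ∈ P, u ^ 3 * x * (u ^ 3)⁻¹ = x → x = 1 := by
    apply hfpf_of
    calc (u ^ 3) ^ 2 = u ^ 4 * u ^ 2 := by rw [← pow_mul, ← pow_add]
      _ = u ^ 2 := by rw [hu4, one_mul]
  -- the two sums
  have hS1 := h4_sum_sup P u hc.norm hdisj χ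
  have hS2 := h4_sum_sup P (u ^ 2) (hnk 2) hdisj2 χ
  rw [hc.ordu] at hS1
  rw [hord2] at hS2
  have c1 := h4_sum_coset P u hc.norm hfpf1 χ hcl
  have c2 := h4_sum_coset P (u ^ 2) (hnk 2) hfpf2 χ hcl
  have c3 := h4_sum_coset P (u ^ 3) (hnk 3) hfpf3 χ hcl
  have e4 : ∑ g : G, (if g ∈ P ⊔ Subgroup.zpowers u then χ g else 0) =
      ∑ g : G, (if g ∈ P then χ g else 0) + 9 * (χ u + χ (u ^ 2) + χ (u ^ 3)) := by
    rw [hS1]
    simp only [Finset.sum_range_succ, Finset.sum_range_zero, zero_add, pow_zero, mul_one, pow_one]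
    rw [c1, c2, c3, hcard]; ring
  have e5 : ∑ g : G, (if g ∈ P ⊔ Subgroup.zpowers (u ^ 2) then χ g else 0) =
      ∑ g : G, (if g ∈ P then χ g else 0) + 9 * χ (u ^ 2) := by
    rw [hS2]
    simp only [Finset.sum_range_succ, Finset.sum_range_zero, zero_add, pow_zero, mul_one, pow_one]
    rw [c2, hcard]
  -- cardinalities: the sums with the constant function 1
  have hcardsub : ∀ X : Subgroup G, (Nat.card X : ℂ) = ∑ g : G, (if g ∈ X then (1 : ℂ) else 0) := by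
    intro X
    rw [h4_sum_const, mul_one]
  have k1 : (Nat.card (P ⊔ Subgroup.zpowers u : Subgroup G) : ℂ) = 36 := by
    rw [hcardsub, h4_sum_sup P u hc.norm hdisj (fun _ => 1), hc.ordu]
    simp only [Finset.sum_range_succ, Finset.sum_range_zero, zero_add]
    rw [h4_sum_const, hcard]; norm_num
  have k2 : (Nat.card (P ⊔ Subgroup.zpowers (u ^ 2) : Subgroup G) : ℂ) = 18 := by
    rw [hcardsub, h4_sum_sup P (u ^ 2) (hnk 2) hdisj2 (fun _ => 1), hord2]
    simp only [Finset.sum_range_succ, Finset.sum_range_zero, zero_add]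
    rw [h4_sum_const, hcard]; norm_num
  refine ⟨by exact_mod_cast k1, by exact_mod_cast k2, e4, e5⟩

end sums

end Cfsg.Agent.Helper4.O2520
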