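import Mathlib

set_option autoImplicit false

namespace Cfsg.Agent.Helper4.O459648

/-- (B3p) `Z` central of order 19 in `H` of order `19 * 2 ^ k`: the Sylow 2-subgroup is normal,
hence the only subgroup of its order. -/
theorem order_pow {H : Type*} [Group H] [Finite H] (k : ℕ) (hH : Nat.card H = 19 * 2 ^ k)
    (Z : Subgroup H) (hZ : Nat.card Z = 19) (hZc : Z ≤ Subgroup.center H) :
    ∃ W : Subgroup H, Nat.card W = 2 ^ k ∧ ∀ W' : Subgroup H, Nat.card W' = 2 ^ k → W' = W := by
  haveI : Fact (Nat.Prime 2) := ⟨Nat.prime_two⟩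
  obtain ⟨S⟩ : Nonempty (Sylow 2 H) := inferInstance
  have hS : Nat.card (S : Subgroup H) = 2 ^ k := by
    rw [Sylow.card_eq_multiplicity, hH]
    congr 1
    have h19 : (19 : ℕ).factorization 2 = 0 := by
      apply Nat.factorization_eq_zero_of_not_dvd; norm_num
    rw [Nat.factorization_mul (by norm_num) (by positivity), Nat.factorization_pow]
    simp [h19, Nat.prime_two.factorization_self]
  have hnorm : (S : Subgroup H).Normal := by
    rw [← Subgroup.normalizer_eq_top_iff]
    have h1 : (S : Subgroup H) ≤ Subgroup.normalizer ((S : Subgroup H) : Set H) :=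
      Subgroup.le_normalizer
    have h2 : Z ≤ Subgroup.normalizer ((S : Subgroup H) : Set H) := fun z hz =>
      (Subgroup.center_le_normalizer (s := ((S : Subgroup H) : Set H))) (hZc hz)
    have d1 : 2 ^ k ∣ Nat.card (Subgroup.normalizer ((S : Subgroup H) : Set H)) := by
      rw [← hS]; exact Subgroup.card_dvd_of_le h1
    have d2 : 19 ∣ Nat.card (Subgroup.normalizer ((S : Subgroup H) : Set H)) := by
      rw [← hZ]; exact Subgroup.card_dvd_of_le h2
    have hcop : Nat.Coprime 19 (2 ^ k) := by
      apply Nat.Coprime.pow_right; norm_num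
    have d3 : 19 * 2 ^ k ∣ Nat.card (Subgroup.normalizer ((S : Subgroup H) : Set H)) :=
      hcop.mul_dvd_of_dvd_of_dvd d2 d1
    apply Subgroup.eq_top_of_card_eq
    apply Nat.dvd_antisymm (Subgroup.card_subgroup_dvd_card _)
    rw [hH]; exact d3
  refine ⟨S, hS, fun W' hW' => ?_⟩
  have hp : IsPGroup 2 W' := IsPGroup.of_card hW'
  obtain ⟨Q, hQ⟩ := hp.exists_le_sylow
  have hQS : Q = S := by
    haveI := Sylow.unique_of_normal S hnorm
    exact Subsingleton.elim _ _
  have hle : W' ≤ (S : Subgroup H) := hQS ▸ hQ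
  exact Subgroup.eq_of_le_of_card_ge hle (by rw [hS, hW'])

end Cfsg.Agent.Helper4.O459648
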