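import Mathlib

set_option autoImplicit false

namespace Cfsg.Agent.Helper4.O459648

/-- a subgroup of `C` that is the only one of its order there is normalised by every element
whose conjugation preserves `C`. -/
theorem h4_unique_to_normal_aux {G : Type*} [Group G] [Finite G] (C : Subgroup G) (j : ℕ)
    (W : Subgroup ↥C) (hW : Nat.card W = j)
    (huniq : ∀ W' : Subgroup ↥C, Nat.card W' = j → W' = W) (n : G)
    (hnC : ∀ c ∈ C, n * c * n⁻¹ ∈ C) :
    n ∈ Subgroup.normalizer ((W.map C.subtype : Subgroup G) : Set G) := by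
  have hcardV : Nat.card (W.map C.subtype) = j := by
    rw [Subgroup.card_map_of_injective C.subtype_injective, hW]
  have hVC : W.map C.subtype ≤ C := Subgroup.map_subtype_le W
  have hV'C : (W.map C.subtype).map (MulAut.conj n).toMonoidHom ≤ C := by
    rintro _ ⟨v, hv, rfl⟩
    exact hnC v (hVC hv)
  have hcardV' : Nat.card
      (((W.map C.subtype).map (MulAut.conj n).toMonoidHom).subgroupOf C) = j := by
    rw [Nat.card_congr (Subgroup.subgroupOfEquivOfLe hV'C).toEquiv,
      Subgroup.card_map_of_injective (MulAut.conj n).injective, hcardV]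
  have hEq := huniq _ hcardV'
  have hV'V : (W.map C.subtype).map (MulAut.conj n).toMonoidHom = W.map C.subtype := by
    have : (((W.map C.subtype).map (MulAut.conj n).toMonoidHom).subgroupOf C).map C.subtype
        = (W.map C.subtype).map (MulAut.conj n).toMonoidHom := by
      rw [Subgroup.map_subgroupOf_eq_of_le hV'C]
    rw [← this, hEq]
  rw [Subgroup.mem_normalizer_iff]
  intro x
  constructor
  · intro hx
    have : n * x * n⁻¹ ∈ (W.map C.subtype).map (MulAut.conj n).toMonoidHom := ⟨x, hx, rfl⟩
    rwa [hV'V] at this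
  · intro hx
    rw [← hV'V] at hx
    obtain ⟨y, hy, hyx⟩ := hx
    have : y = x := by
      have h2 : n * y * n⁻¹ = n * x * n⁻¹ := hyx
      exact mul_left_cancel (mul_right_cancel h2)
    rwa [← this]

/-- (B3u) a subgroup of `C_G(P)` that is the only one of its order there, pushed to `G`, is
normalised by `N_G(P)`. -/
theorem unique_to_normal {G : Type*} [Group G] [Finite G] (P : Subgroup G) (j : ℕ)
    (W : Subgroup ↥(Subgroup.centralizer (P : Set G))) (hW : Nat.card W = j)
    (huniq : ∀ W' : Subgroup ↥(Subgroup.centralizer (P : Set G)), Nat.card W' = j → W' = W) :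
    ∃ V : Subgroup G, Nat.card V = j ∧ V ≤ Subgroup.centralizer (P : Set G) ∧
      Subgroup.normalizer (P : Set G) ≤ Subgroup.normalizer (V : Set G) := by
  refine ⟨W.map (Subgroup.centralizer (P : Set G)).subtype, ?_, Subgroup.map_subtype_le W, ?_⟩
  · rw [Subgroup.card_map_of_injective (Subgroup.centralizer (P : Set G)).subtype_injective, hW]
  intro n hn
  apply h4_unique_to_normal_aux _ j W hW huniq n
  intro c hc
  rw [Subgroup.mem_centralizer_iff] at hc ⊢
  intro p hp
  have hp' : n⁻¹ * p * n ∈ P := by
    have := (Subgroup.mem_normalizer_iff'.mp hn (n⁻¹ * p)).mpr (by simpa using hp)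
    simpa [mul_assoc] using this
  have h1 := hc (n⁻¹ * p * n) hp'
  calc p * (n * c * n⁻¹) = n * ((n⁻¹ * p * n) * c) * n⁻¹ := by group
    _ = n * (c * (n⁻¹ * p * n)) * n⁻¹ := by rw [h1]
    _ = n * c * n⁻¹ * p := by group

end Cfsg.Agent.Helper4.O459648
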