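import Mathlib
import Cfsg.Agent.Lib.Helper5.PFADefs
import Cfsg.Agent.S2611

/-!
# PFA (DEL): the diagonal automorphism of `diag(ν²,…,ν²,1,…,1)` is inner iff `ν^m` is a square
(helper5 server, S2715)
-/

set_option autoImplicit false

namespace Cfsg.Agent.Helper4.PFA

open Matrix QuadraticMap Cfsg.Agent.Helper43 Cfsg.Agent.Helper5.OrthAut Cfsg.Agent.Helper40.AutPOm
  Cfsg.Agent.Helper40.FieldCent Cfsg.Agent.Helper5.PFA

universe u u₀

variable {F₀ : Type u₀} [Field F₀] [Fintype F₀] {F : Type u} [Field F] [Fintype F]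

/-- the isometry `diag(ν,…,ν,ν⁻¹,…,ν⁻¹)` -/
def h4tor (m : ℕ) (ν : Fˣ) : GL (Fin m ⊕ Fin m) F :=
  diagGL (Sum.elim (fun _ => ν) (fun _ => ν⁻¹))

theorem h4tor_iso (m : ℕ) (ν : Fˣ) : h4tor m ν ∈ OG (stdPlus F m) := by
  rw [mem_iso_iff]
  intro v
  show Cfsg.quadFormPlus m F _ = Cfsg.quadFormPlus m F v
  unfold Cfsg.quadFormPlus
  apply Finset.sum_congr rfl
  intro i _
  rw [h4tor, diagGL_mulVec, diagGL_mulVec]
  simp only [Sum.elim_inl, Sum.elim_inr]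
  have h1 : (ν : F) * ((ν⁻¹ : Fˣ) : F) = 1 := by
    rw [← Units.val_mul, mul_inv_cancel, Units.val_one]
  linear_combination (v (Sum.inl i) * v (Sum.inr i)) * h1

theorem h4_deltaPlus_sq (m : ℕ) (ν : Fˣ) :
    (deltaPlus m (ν * ν) : GL (Fin m ⊕ Fin m) F) = sclHom ν * h4tor m ν := by
  apply Units.ext
  rw [Units.val_mul, sclHom_coe, h4tor, deltaPlus, diagGL_coe, diagGL_coe, Matrix.smul_mul,
    Matrix.one_mul, ← Matrix.diagonal_smul]
  congr 1
  funext i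
  rcases i with i | i
  · simp [Units.val_mul]
  · simp

theorem h4tor_blocks (m : ℕ) (ν : Fˣ) :
    Matrix.fromBlocks ((sclHom (ι := Fin m) ν : GL (Fin m) F) : Matrix (Fin m) (Fin m) F) 0 0
      (((sclHom (ι := Fin m) ν : GL (Fin m) F) : Matrix (Fin m) (Fin m) F)⁻¹).transpose =
      ((h4tor m ν : GL (Fin m ⊕ Fin m) F) : Matrix (Fin m ⊕ Fin m) (Fin m ⊕ Fin m) F) := by
  rw [← Matrix.coe_units_inv, ← map_inv, sclHom_coe, sclHom_coe, Matrix.smul_one_eq_diagonal,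
    Matrix.smul_one_eq_diagonal, Matrix.diagonal_transpose, Matrix.fromBlocks_diagonal, h4tor,
    diagGL_coe]
  congr 1
  funext i
  rcases i with i | i <;> simp

/-- (DEL) the diagonal automorphism of `diag(ν²,…,ν²,1,…,1)` is inner iff `ν^m` is a square. -/
theorem dP_sq_mem_inn_iff (h2 : (2 : F) ≠ 0) (hneg : IsSquare (-1 : F)) {m : ℕ} (hm : 3 ≤ m)
    (ν : Fˣ) : dP m (ν * ν) ∈ KP m F ↔ IsSquare ((ν : F) ^ m) := by
  classical
  have hfam := stdPlus_isHypFamily F m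
  have hnd := stdPlus_nondegenerate F m
  have hcard : Fintype.card (Fin m ⊕ Fin m) = 2 * m := by simp; ring
  have hQ0 := hQ0_of_hyp (stdPlus F m) hfam (by omega)
  have hperf := hperf_of_hyp (stdPlus F m) hnd _ _ hfam (by omega) (by rw [hcard]; omega)
  have hcent := hcent_of_hyp (stdPlus F m) hfam (by omega)
    (Cfsg.Agent.Lead.POmegaCard.hspan_plus m)
  have hq2 : Fintype.card F % 2 = 1 := by
    apply FiniteField.odd_card_of_char_ne_two
    intro h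
    haveI : CharP F 2 := ringChar.of_eq h
    exact h2 (by exact_mod_cast CharP.cast_eq_zero F 2)
  have hodd : Odd (Fintype.card F) := Nat.odd_iff.2 hq2
  have hq1 : Fintype.card F % 4 = 1 := by
    have h3 : Fintype.card F % 4 ≠ 3 := FiniteField.isSquare_neg_one_iff.1 hneg
    omega
  have hnegΩ : ∃ g : ↥(Cfsg.isometryGroup F ⇑(stdPlus F m)), g ∈ Cfsg.Omega F ⇑(stdPlus F m) ∧
      ((g : GL (Fin m ⊕ Fin m) F) : Matrix (Fin m ⊕ Fin m) (Fin m ⊕ Fin m) F) = -1 := by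
    apply (Cfsg.Agent.S0790.result (F := F) rfl hodd m (by omega)).2
    rw [pow_mod_four_eq_one_iff _ _ hq2]
    rintro ⟨_, h3⟩
    omega
  have ht_iso := h4tor_iso (F := F) m ν
  have htGO : h4tor m ν ∈ GO (stdPlus F m) := iso_le_sim _ ht_iso
  have hdP : dP m (ν * ν) =
      PhiGO (⇑(stdPlus F m)) (⟨h4tor m ν, htGO⟩ : ↥(GO (stdPlus F m))) := by
    have h1 : (deltaGO m (ν * ν) : ↥(GO (stdPlus F m))) =
        scGO (stdPlus F m) ν * (⟨h4tor m ν, htGO⟩ : ↥(GO (stdPlus F m))) :=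
      Subtype.ext (h4_deltaPlus_sq m ν)
    show PhiGO (⇑(stdPlus F m)) (deltaGO m (ν * ν)) = _
    rw [h1, map_mul, PhiGO_scGO _ hperf hcent, one_mul]
  have hS := Cfsg.Agent.S2611.result (F := F) (m := m) (by omega) (Or.inr (by omega))
    (sclHom (ι := Fin m) ν)
  have hdet : ((sclHom (ι := Fin m) ν : GL (Fin m) F) : Matrix (Fin m) (Fin m) F).det =
      (ν : F) ^ m := by
    rw [sclHom_det, Fintype.card_fin]
  rw [hdet, h4tor_blocks] at hS
  have ht_om : h4tor m ν ∈ OmGL (⇑(stdPlus F m)) ↔ IsSquare ((ν : F) ^ m) := by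
    rw [mem_OmGL, ← hS]
    constructor
    · rintro ⟨s, hs⟩
      exact ⟨s.1, s.2, by rw [hs]⟩
    · rintro ⟨g, hg, hgt⟩
      exact ⟨⟨g, hg⟩, Units.ext hgt⟩
  rw [hdP, ← ht_om]
  constructor
  · intro h
    exact mem_OmGL_of_Phi_mem_inn (stdPlus F m) hperf hcent hQ0 hnegΩ (h4tor m ν) ht_iso h
  · intro h
    show _ ∈ Cfsg.Inn (Cfsg.POmega F ⇑(stdPlus F m))
    rw [inn_eq]
    exact ⟨⟨h4tor m ν, sim_le_NO _ htGO⟩, h, rfl⟩

end Cfsg.Agent.Helper4.PFA
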