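import Mathlib
import Cfsg.Agent.Lib.Helper5.PFADefs

/-!
# PFA (IDX): `|Inndiag : Inn| = 4` for `PΩ⁺_{2m}(F)` when `-1` is a square (helper5 server, S2715)
-/

set_option autoImplicit false

namespace Cfsg.Agent.Helper4.PFA

open Matrix QuadraticMap Cfsg.Agent.Helper43 Cfsg.Agent.Helper5.OrthAut Cfsg.Agent.Helper40.AutPOm
  Cfsg.Agent.Helper40.FieldCent Cfsg.Agent.Helper5.PFA

universe u u₀

variable {F₀ : Type u₀} [Field F₀] [Fintype F₀] {F : Type u} [Field F] [Fintype F]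

/-- the relative index of the kernel of a surjective hom -/
theorem h4_relIndex_of_surj {G : Type*} [Group G] (H K : Subgroup G) {M : Type*} [Group M]
    (φ : ↥H →* M) (hs : Function.Surjective φ) (hk : φ.ker = K.subgroupOf H) :
    K.relIndex H = Nat.card M := by
  rw [Subgroup.relIndex, ← hk, Subgroup.index_ker, MonoidHom.range_eq_top.2 hs]
  exact Nat.card_congr Subgroup.topEquiv.toEquiv

/-- (IDX) `|Inndiag : Inn| = 4` when `-1` is a square. -/
theorem relIndex_inn_inndiag (hodd : Odd (Fintype.card F)) (hneg : IsSquare (-1 : F)) {m : ℕ}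
    (hm : 4 ≤ m) : (KP m F).relIndex (HP m F) = 4 := by
  have hq1 : Fintype.card F % 4 = 1 := by
    have h3 : Fintype.card F % 4 ≠ 3 := FiniteField.isSquare_neg_one_iff.1 hneg
    have h1 := Nat.odd_iff.1 hodd
    omega
  obtain ⟨-, h2, h3⟩ := Cfsg.Agent.Helper5.OrthAut.inndiag_mod_inn_plus hodd hm
  rcases Nat.even_or_odd m with he | ho
  · obtain ⟨φ, hs, hk⟩ := h3 he
    rw [h4_relIndex_of_surj (HP m F) (KP m F) φ hs hk, Nat.card_eq_fintype_card]
    rfl
  · obtain ⟨φ, hs, hk⟩ := h2 ⟨ho, hq1⟩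
    rw [h4_relIndex_of_surj (HP m F) (KP m F) φ hs hk, Nat.card_eq_fintype_card]
    rfl

end Cfsg.Agent.Helper4.PFA
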