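import Mathlib
import Cfsg.Agent.Lib.Helper93.RU0
import Cfsg.Agent.Lib.Helper35.RJ0

set_option autoImplicit false

namespace Cfsg.Agent.Helper4.RJ

open Matrix Cfsg.Agent.Helper93.RU Cfsg.Agent.Helper35.RJ

variable {F : Type*} [Field F] {m : ℕ}

/-- powers of a conjugate `A X B` with `B A = 1`. -/
theorem h4_conj_pow {n : Type*} [Fintype n] [DecidableEq n] (A B X : Matrix n n F) (hBA : B * A = 1) :
    ∀ k : ℕ, (A * X * B) ^ (k + 1) = A * X ^ (k + 1) * B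
  | 0 => by simp
  | k + 1 => by
      rw [pow_succ, h4_conj_pow A B X hBA k]
      calc A * X ^ (k + 1) * B * (A * X * B) = A * X ^ (k + 1) * (B * A) * X * B := by
            simp only [Matrix.mul_assoc]
        _ = A * X ^ (k + 1 + 1) * B := by
            rw [hBA, Matrix.mul_one, pow_succ X (k + 1)]
            simp only [Matrix.mul_assoc]

/-- (CR) -/
theorem conj_regular (u g : SLm m F) (h : IsNilpotent (u.1 - 1) ∧ (u.1 - 1) ^ (m + 2) ≠ 0) :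
    IsNilpotent ((g * u * g⁻¹).1 - 1) ∧ ((g * u * g⁻¹).1 - 1) ^ (m + 2) ≠ 0 := by
  have hAB : g.1 * (g⁻¹).1 = 1 := by
    rw [← Matrix.SpecialLinearGroup.coe_mul, mul_inv_cancel]; rfl
  have hBA : (g⁻¹).1 * g.1 = 1 := by
    rw [← Matrix.SpecialLinearGroup.coe_mul, inv_mul_cancel]; rfl
  have hconj : (g * u * g⁻¹).1 - 1 = g.1 * (u.1 - 1) * (g⁻¹).1 := by
    rw [Matrix.SpecialLinearGroup.coe_mul, Matrix.SpecialLinearGroup.coe_mul, Matrix.mul_sub,
      Matrix.sub_mul, Matrix.mul_one, hAB]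
  rw [hconj]
  obtain ⟨⟨k, hk⟩, hne⟩ := h
  constructor
  · refine ⟨k + 1, ?_⟩
    rw [h4_conj_pow _ _ _ hBA k, pow_succ, hk]
    simp
  · intro h0
    apply hne
    have hm : m + 2 = (m + 1) + 1 := rfl
    rw [hm, h4_conj_pow _ _ _ hBA (m + 1)] at h0
    have : (u.1 - 1) ^ (m + 1 + 1) =
        (g⁻¹).1 * (g.1 * (u.1 - 1) ^ (m + 1 + 1) * (g⁻¹).1) * g.1 := by
      calc (u.1 - 1) ^ (m + 1 + 1) = ((g⁻¹).1 * g.1) * (u.1 - 1) ^ (m + 1 + 1) * ((g⁻¹).1 * g.1) := by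
            rw [hBA, Matrix.one_mul, Matrix.mul_one]
        _ = (g⁻¹).1 * (g.1 * (u.1 - 1) ^ (m + 1 + 1) * (g⁻¹).1) * g.1 := by
            simp only [Matrix.mul_assoc]
    rw [hm, this, h0]
    simp

end Cfsg.Agent.Helper4.RJ
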