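import Mathlib
import Cfsg.Agent.Lib.Helper93.RU0
import Cfsg.Agent.Lib.Helper35.RJ0

set_option autoImplicit false

namespace Cfsg.Agent.Helper4.RJ

open Matrix Cfsg.Agent.Helper93.RU Cfsg.Agent.Helper35.RJ

variable {F : Type*} [Field F] {m : ℕ}

/-- the multiplier set (verbatim from the RJ signature file) -/
def Mult (m : ℕ) (L : ℕ → AddSubgroup F) : Set F :=
  {r | ∀ d, d ≤ m + 1 → ∀ x ∈ L d, r * x ∈ L d}

/-- iterate `h2`: `λ^j x ∈ L (d + j)` as long as `d + j ≤ m + 1`. -/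
theorem h4_pow_step (lam : F) (L : ℕ → AddSubgroup F)
    (h2 : ∀ d, d ≤ m → ∀ x ∈ L d, lam * x ∈ L (d + 1)) :
    ∀ (j d : ℕ) (x : F), d + j ≤ m + 1 → x ∈ L d → lam ^ j * x ∈ L (d + j)
  | 0, d, x, _, hx => by simpa using hx
  | j + 1, d, x, h, hx => by
      have h0 := h4_pow_step lam L h2 j d x (by omega) hx
      have h' := h2 (d + j) (by omega) _ h0
      have e : lam ^ (j + 1) * x = lam * (lam ^ j * x) := by ring
      rw [e]
      exact h'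

/-- (F3) -/
theorem mult_path (lam : F) (L : ℕ → AddSubgroup F)
    (h2 : ∀ d, d ≤ m → ∀ x ∈ L d, lam * x ∈ L (d + 1))
    (h3 : ∀ d d' r, d ≤ m + 1 → d' ≤ m + 1 → m + 2 ≤ r → r ≤ d + d' → ∀ x ∈ L d, ∀ y ∈ L d',
      (Nat.choose r (m + 2) : F) * x * y ∈ L (d + d' - r))
    (t : ℕ) (ht : t ≤ m) (y₀ : F) (hy₀ : y₀ ∈ L (m + 1)) :
    (Nat.choose (m + 2 + t) (m + 2) : F) * lam ^ (t + 1) * y₀ ∈ Mult m L := by
  intro d hd x hx
  -- j = t + 1 - d (truncated)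
  obtain ⟨j, hj⟩ : ∃ j, j = t + 1 - d := ⟨_, rfl⟩
  have hdj : d + j ≤ m + 1 := by omega
  have hdj' : t + 1 ≤ d + j := by omega
  have hjt : j ≤ t + 1 := by omega
  have s1 : lam ^ j * x ∈ L (d + j) := h4_pow_step lam L h2 j d x hdj hx
  have s2 := h3 (d + j) (m + 1) (m + 2 + t) hdj le_rfl (by omega) (by omega) _ s1 y₀ hy₀
  obtain ⟨k, hk⟩ : ∃ k, k = t + 1 - j := ⟨_, rfl⟩
  have hidx : d + j + (m + 1) - (m + 2 + t) + k = d := by omega
  have s3 := h4_pow_step lam L h2 k (d + j + (m + 1) - (m + 2 + t)) _ (by omega) s2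
  rw [hidx] at s3
  have e : (Nat.choose (m + 2 + t) (m + 2) : F) * lam ^ (t + 1) * y₀ * x
      = lam ^ k * ((Nat.choose (m + 2 + t) (m + 2) : F) * (lam ^ j * x) * y₀) := by
    have hkj : t + 1 = k + j := by omega
    rw [hkj, pow_add]; ring
  rw [e]
  exact s3

end Cfsg.Agent.Helper4.RJ
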