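import Mathlib
import Cfsg.Agent.Lib.Helper93.RU0
import Cfsg.Agent.Lib.Helper35.RJ0
import Cfsg.Agent.Lib.Helper87.RUPow

set_option autoImplicit false

namespace Cfsg.Agent.Helper4.RJ

open Matrix Cfsg.Agent.Helper93.RU Cfsg.Agent.Helper35.RJ

variable {F : Type*} [Field F] {m : ℕ}

/-- `φ_{-i} = e_0ᵀ J^i` is row `0` of `J^i`: binomial entries. -/
theorem h4_phV_neg_apply (i : ℕ) (k : Fin (m + 3)) :
    phV m F (-(i : ℤ)) k = ((Nat.choose i k.val : ℕ) : F) := by
  unfold phV
  rw [neg_neg, zpow_natCast]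
  have h1 : (eV (0 : Fin (m + 3)) ᵥ* ((uEl m F) ^ i).1) k = ((uEl m F) ^ i).1 0 k := by
    simp [eV, Matrix.vecMul, dotProduct, Pi.single_apply]
  rw [h1, Cfsg.Agent.Helper87.RUPow.uEl_pow_apply]
  simp

/-- triangular elimination. -/
theorem h4_span_aux : ∀ (r : ℕ), r ≤ m + 2 → ∀ ψ : Fin (m + 3) → F,
    (∀ k : Fin (m + 3), r ≤ k.val → ψ k = 0) →
    ∃ c : Fin (m + 2) → F, ψ = ∑ i : Fin (m + 2), c i • phV m F (-(i.val : ℤ))
  | 0, _, ψ, h => by
      refine ⟨0, ?_⟩
      have : ψ = 0 := by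
        funext k; exact h k (Nat.zero_le _)
      simp [this]
  | r + 1, hr, ψ, h => by
      have hr' : r < m + 3 := by omega
      have hr2 : r < m + 2 := by omega
      set a : F := ψ ⟨r, hr'⟩ with ha
      obtain ⟨c', hc'⟩ := h4_span_aux r (by omega) (ψ - a • phV m F (-(r : ℤ))) (by
        intro k hk
        rw [Pi.sub_apply, Pi.smul_apply, h4_phV_neg_apply, smul_eq_mul]
        rcases Nat.lt_or_ge r k.val with hlt | hge
        · rw [h k (by omega), Nat.choose_eq_zero_of_lt hlt]; simp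
        · have hkr : k.val = r := by omega
          have hk' : k = ⟨r, hr'⟩ := Fin.ext hkr
          rw [hk', ← ha]; simp)
      refine ⟨c' + Pi.single (⟨r, hr2⟩ : Fin (m + 2)) a, ?_⟩
      have e1 : ψ = (ψ - a • phV m F (-(r : ℤ))) + a • phV m F (-(r : ℤ)) := by
        rw [sub_add_cancel]
      rw [e1, hc']
      simp only [Pi.add_apply, add_smul, Finset.sum_add_distrib]
      congr 1
      rw [Finset.sum_eq_single (⟨r, hr2⟩ : Fin (m + 2))]
      · simp
      · intro b _ hb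
        rw [Pi.single_eq_of_ne hb, zero_smul]
      · intro h'; exact absurd (Finset.mem_univ _) h'

/-- (W1) -/
theorem phV_span (ψ : Fin (m + 3) → F) (hψ : ψ (lastI m) = 0) :
    ∃ c : Fin (m + 2) → F, ψ = ∑ i : Fin (m + 2), c i • phV m F (-(i.val : ℤ)) := by
  apply h4_span_aux (m + 2) le_rfl ψ
  intro k hk
  have : k = lastI m := by
    apply Fin.ext
    have := k.isLt
    show k.val = m + 2
    omega
  rw [this]; exact hψ

end Cfsg.Agent.Helper4.RJ
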