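import Mathlib
import Cfsg.Prelude.Def_Characters
import Cfsg.Agent.Lib.Helper3.CharDecomp
import Cfsg.Agent.Lib.Helper3.CharIntegral

set_option autoImplicit false

namespace Cfsg.Agent.Helper4

open scoped ComplexConjugate

/-- pairing lemma: a sum over an inverse-closed set without involutions of an inverse-invariant
function is twice a sum over a subset. -/
theorem sum_eq_two_mul_of_inv {H : Type*} [Group H] [Finite H] (A : Finset H)
    (hinv : ∀ a ∈ A, a⁻¹ ∈ A) (hne : ∀ a ∈ A, a⁻¹ ≠ a) (f : H → ℂ) (hf : ∀ a, f a⁻¹ = f a) :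
    ∃ T : Finset H, ∑ a ∈ A, f a = 2 * ∑ a ∈ T, f a := by
  classical
  obtain ⟨n, ⟨e⟩⟩ := Finite.exists_equiv_fin H
  refine ⟨A.filter (fun h => e h < e h⁻¹), ?_⟩
  have hA : A = A.filter (fun h => e h < e h⁻¹) ∪
      (A.filter (fun h => e h < e h⁻¹)).image (fun h => h⁻¹) := by
    ext h
    simp only [Finset.mem_union, Finset.mem_image, Finset.mem_filter]
    constructor
    · intro hh
      rcases lt_trichotomy (e h) (e h⁻¹) with hlt | heq | hgt
      · left; exact ⟨hh, hlt⟩
      · exact absurd (e.injective heq).symm (hne h hh)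
      · right; exact ⟨h⁻¹, ⟨hinv h hh, by rwa [inv_inv]⟩, inv_inv h⟩
    · rintro (⟨hh, -⟩ | ⟨t, ⟨ht, -⟩, rfl⟩)
      · exact hh
      · exact hinv t ht
  have hdisj : Disjoint (A.filter (fun h => e h < e h⁻¹))
      ((A.filter (fun h => e h < e h⁻¹)).image (fun h => h⁻¹)) := by
    rw [Finset.disjoint_left]
    intro h hh1 hh2
    simp only [Finset.mem_filter, Finset.mem_image] at hh1 hh2
    obtain ⟨t, ⟨-, ht⟩, rfl⟩ := hh2
    rw [inv_inv] at hh1
    exact lt_asymm ht hh1.2
  conv_lhs => rw [hA]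
  rw [Finset.sum_union hdisj, Finset.sum_image (by intro a _ b _ h; exact inv_injective h)]
  simp only [hf]
  ring

/-- a real-valued irreducible character of a group of odd order is principal -/
theorem real_irr_eq_one_of_odd {H : Type*} [Group H] [Fintype H] (hodd : Odd (Nat.card H))
    (θ : H → ℂ) (hθ : Cfsg.IsIrrCharacter H θ) (hreal : ∀ h, conj (θ h) = θ h) :
    θ = fun _ => 1 := by
  classical
  by_contra hne
  have h0 : Cfsg.classInner θ (fun _ => (1 : ℂ)) = 0 :=
    Helper3.classInner_irr_ne hθ Helper3.isIrrCharacter_one hne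
  have hG : (Nat.card H : ℂ) ≠ 0 := by exact_mod_cast Nat.card_pos.ne'
  have hsum : ∑ h : H, θ h = 0 := by
    unfold Cfsg.classInner at h0
    simp only [map_one, mul_one] at h0
    exact (mul_eq_zero.mp h0).resolve_left (inv_ne_zero hG)
  obtain ⟨n, ρ, hirr, hρ⟩ := hθ
  have hinvθ : ∀ h, θ h⁻¹ = θ h := by
    intro h
    rw [← hρ, Helper3.char_inv, hρ, hreal]
  have hno : ∀ a ∈ (Finset.univ.erase (1 : H)), a⁻¹ ≠ a := by
    intro a ha hinv
    have ha1 : a ≠ 1 := (Finset.mem_erase.mp ha).1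
    have hsq : a ^ 2 = 1 := by
      rw [pow_two]
      nth_rewrite 1 [← hinv]
      exact inv_mul_cancel a
    have ho : orderOf a = 2 := orderOf_eq_prime hsq ha1
    have h2 : 2 ∣ Nat.card H := ho ▸ orderOf_dvd_natCard a
    exact (Nat.not_even_iff_odd.mpr hodd) (even_iff_two_dvd.mpr h2)
  obtain ⟨T, hT⟩ := sum_eq_two_mul_of_inv (Finset.univ.erase (1 : H))
    (by
      intro a ha
      simp only [Finset.mem_erase, Finset.mem_univ, and_true] at ha ⊢
      exact inv_ne_one.mpr ha) hno θ hinvθ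
  have h1 : θ 1 + 2 * ∑ a ∈ T, θ a = 0 := by
    rw [← hT, Finset.add_sum_erase _ _ (Finset.mem_univ 1)]
    exact hsum
  have hθ1 : θ 1 = (n : ℂ) := by
    rw [← hρ, Representation.char_one]; simp
  have hint : IsIntegral ℤ ((n : ℂ) / ((2 : ℕ) : ℂ)) := by
    have e : (n : ℂ) / ((2 : ℕ) : ℂ) = -∑ a ∈ T, θ a := by
      push_cast
      rw [← hθ1]
      linear_combination h1 / 2
    rw [e]
    apply IsIntegral.neg
    apply IsIntegral.sum
    intro a _
    rw [← hρ]
    exact Helper3.char_isIntegral ρ a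
  have h2n : 2 ∣ n := Helper3.rat_of_isIntegral_natCast_div n 2 (by norm_num) hint
  have hdvd : n ∣ Nat.card H := by
    haveI := hirr
    have := Helper3.finrank_dvd_card ρ
    simpa using this
  exact (Nat.not_even_iff_odd.mpr hodd) (even_iff_two_dvd.mpr (h2n.trans hdvd))

end Cfsg.Agent.Helper4
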