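import Mathlib
import Cfsg.Agent.Lib.Helper76.RuZDefs

/-!
Piece (ACT) `exists_gens` of helper76's lemma server "RUZ" (row S3174).
-/

set_option autoImplicit false

namespace Cfsg.Agent.Helper4.RuZ

open Cfsg.Agent.Helper76.RuZ

variable {T : Type*} [Group T] [Finite T]

/-- index-two lemma: `H ≤ K`, `|K| = 2 |H|`, `a, b ∈ K \ H` ⇒ `a * b ∈ H`. -/
theorem h4_mul_mem_of_index_two {H K : Subgroup T} (hHK : H ≤ K)
    (hc : Nat.card K = 2 * Nat.card H)
    {a b : T} (ha : a ∈ K) (hb : b ∈ K) (haH : a ∉ H) (hbH : b ∉ H) : a * b ∈ H := by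
  have hidx : (H.subgroupOf K).index = 2 := by
    have h1 := Subgroup.card_mul_index (H.subgroupOf K)
    have h2 : Nat.card (H.subgroupOf K) = Nat.card H :=
      Nat.card_congr (Subgroup.subgroupOfEquivOfLe hHK).toEquiv
    rw [h2, hc] at h1
    have hpos : 0 < Nat.card H := Nat.card_pos
    nlinarith
  have := Subgroup.mul_mem_iff_of_index_two hidx (a := (⟨a, ha⟩ : K)) (b := (⟨b, hb⟩ : K))
  simp only [Subgroup.mem_subgroupOf] at this
  exact this.mpr ⟨fun h => absurd h haH, fun h => absurd h hbH⟩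

omit [Finite T] in
/-- elements of a subgroup of order two -/
theorem h4_card_two {H : Subgroup T} (hc : Nat.card H = 2) {e : T} (he : e ∈ H) (he1 : e ≠ 1)
    {a : T} (ha : a ∈ H) : a = 1 ∨ a = e := by
  obtain ⟨y, -, huniq⟩ := (Nat.card_eq_two_iff' (1 : H)).mp hc
  by_cases h : a = 1
  · exact Or.inl h
  · right
    have h1 : (⟨a, ha⟩ : H) = y := huniq _ (fun hh => h (congrArg Subtype.val hh))
    have h2 : (⟨e, he⟩ : H) = y := huniq _ (fun hh => he1 (congrArg Subtype.val hh))
    exact congrArg Subtype.val (h1.trans h2.symm)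

theorem exists_gens (W F Z1 Z2 : Subgroup T)
    (hZ1 : ∀ e ∈ Z1, ∀ t : T, t * e = e * t)
    (hZ2 : ∀ e ∈ Z2, ∀ t : T, t * e * t⁻¹ * e⁻¹ ∈ Z1)
    (hF : ∀ f ∈ F, ∀ t : T, t * f * t⁻¹ * f⁻¹ ∈ Z2)
    (h12 : Z1 ≤ Z2) (h2F : Z2 ≤ F)
    (c1 : Nat.card Z1 = 2) (c2 : Nat.card Z2 = 4) (c3 : Nat.card F = 8)
    (fsq : ∀ f ∈ F, f * f = 1)
    (hW : W = Subgroup.centralizer (F : Set T)) (hidx : W.index = 8) :
    ∃ x y z : T, Gens W F Z2 x y z := by
  classical
  -- the three basis elements
  obtain ⟨e1, he1Z, he1⟩ : ∃ e ∈ Z1, e ≠ 1 := by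
    by_contra h
    have h' : ∀ e ∈ Z1, e = 1 := fun e he => by
      by_contra hne
      exact h ⟨e, he, hne⟩
    have : Z1 = ⊥ := (Subgroup.eq_bot_iff_forall _).mpr h'
    rw [this] at c1
    simp at c1
  obtain ⟨e2, he2Z, he2⟩ : ∃ e ∈ Z2, e ∉ Z1 :=
    SetLike.exists_of_lt (lt_of_le_of_ne h12 (fun h => by rw [h] at c1; omega))
  obtain ⟨e3, he3F, he3⟩ : ∃ e ∈ F, e ∉ Z2 :=
    SetLike.exists_of_lt (lt_of_le_of_ne h2F (fun h => by rw [h] at c2; omega))
  have he1F : e1 ∈ F := h2F (h12 he1Z)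
  have he2F : e2 ∈ F := h2F he2Z
  have s1 : e1 * e1 = 1 := fsq e1 he1F
  have s2 : e2 * e2 = 1 := fsq e2 he2F
  have s3 : e3 * e3 = 1 := fsq e3 he3F
  -- F is commutative
  have hFc : ∀ a ∈ F, ∀ b ∈ F, a * b = b * a := by
    intro a ha b hb
    have h1 := fsq (a * b) (F.mul_mem ha hb)
    have h2 := fsq a ha
    have h3 := fsq b hb
    have ia : a⁻¹ = a := inv_eq_of_mul_eq_one_left h2
    have ib : b⁻¹ = b := inv_eq_of_mul_eq_one_left h3
    have : (a * b)⁻¹ = a * b := inv_eq_of_mul_eq_one_left h1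
    rw [mul_inv_rev, ia, ib] at this
    exact this.symm
  have c12 : e1 * e2 = e2 * e1 := hFc e1 he1F e2 he2F
  have c13 : e1 * e3 = e3 * e1 := hFc e1 he1F e3 he3F
  have c23 : e2 * e3 = e3 * e2 := hFc e2 he2F e3 he3F
  -- F is normal
  have hFn : ∀ f ∈ F, ∀ t : T, t * f * t⁻¹ ∈ F := by
    intro f hf t
    have := F.mul_mem (h2F (hF f hf t)) hf
    simpa using this
  -- enumerations
  have hZ2all : ∀ w ∈ Z2, w = 1 ∨ w = e1 ∨ w = e2 ∨ w = e2 * e1 := by
    intro w hw
    by_cases hw1 : w ∈ Z1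
    · rcases h4_card_two c1 he1Z he1 hw1 with h | h
      · exact Or.inl h
      · exact Or.inr (Or.inl h)
    · have := h4_mul_mem_of_index_two h12 (by rw [c1, c2]) he2Z hw he2 hw1
      rcases h4_card_two c1 he1Z he1 this with h | h
      · right; right; left
        have : w = e2 * (e2 * w) := by rw [← mul_assoc, s2, one_mul]
        rw [this, h, mul_one]
      · right; right; right
        have : w = e2 * (e2 * w) := by rw [← mul_assoc, s2, one_mul]
        rw [this, h]
  -- the closure of e1 e2 e3 is F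
  have hFgen : F ≤ Subgroup.closure ({e1, e2, e3} : Set T) := by
    intro f hf
    have m1 : e1 ∈ Subgroup.closure ({e1, e2, e3} : Set T) := Subgroup.subset_closure (by simp)
    have m2 : e2 ∈ Subgroup.closure ({e1, e2, e3} : Set T) := Subgroup.subset_closure (by simp)
    have m3 : e3 ∈ Subgroup.closure ({e1, e2, e3} : Set T) := Subgroup.subset_closure (by simp)
    have hZ2le : ∀ w ∈ Z2, w ∈ Subgroup.closure ({e1, e2, e3} : Set T) := by
      intro w hw
      rcases hZ2all w hw with h | h | h | h <;> rw [h]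
      · exact Subgroup.one_mem _
      · exact m1
      · exact m2
      · exact Subgroup.mul_mem _ m2 m1
    by_cases hf2 : f ∈ Z2
    · exact hZ2le f hf2
    · have := h4_mul_mem_of_index_two h2F (by rw [c2, c3]) he3F hf he3 hf2
      have hf' : f = e3 * (e3 * f) := by rw [← mul_assoc, s3, one_mul]
      rw [hf']
      exact Subgroup.mul_mem _ m3 (hZ2le _ this)
  -- conjugation
  let c : T →* MulAut T := MulAut.conj
  have cdef : ∀ g a : T, c g a = g * a * g⁻¹ := fun g a => MulAut.conj_apply g a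
  have ce1 : ∀ t : T, c t e1 = e1 := by
    intro t
    rw [cdef, hZ1 e1 he1Z t, mul_inv_cancel_right]
  -- membership criterion for W
  have agree : ∀ a b : T, c a e2 = c b e2 → c a e3 = c b e3 → ∀ f ∈ F, c a f = c b f := by
    intro a b h2 h3 f hf
    have hle : Subgroup.closure ({e1, e2, e3} : Set T) ≤ (c a).toMonoidHom.eqLocus (c b).toMonoidHom := by
      rw [Subgroup.closure_le]
      intro g hg
      simp only [Set.mem_insert_iff, Set.mem_singleton_iff] at hg
      rcases hg with rfl | rfl | rfl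
      · show c a g = c b g
        rw [ce1, ce1]
      · exact h2
      · exact h3
    exact hle (hFgen hf)
  have memW : ∀ a b : T, c a e2 = c b e2 → c a e3 = c b e3 → b⁻¹ * a ∈ W ∧ a * b⁻¹ ∈ W := by
    intro a b h2 h3
    have hag := agree a b h2 h3
    rw [hW]
    constructor
    · rw [Subgroup.mem_centralizer_iff]
      intro f hf
      have := hag f hf
      rw [cdef, cdef] at this
      calc f * (b⁻¹ * a) = b⁻¹ * (b * f * b⁻¹) * a := by group
        _ = b⁻¹ * (a * f * a⁻¹) * a := by rw [this]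
        _ = b⁻¹ * a * f := by group
    · rw [Subgroup.mem_centralizer_iff]
      intro f hf
      have hf' : b⁻¹ * f * b ∈ F := by
        have := hFn f hf b⁻¹
        simpa using this
      have := hag _ hf'
      rw [cdef, cdef] at this
      have h2' : b * (b⁻¹ * f * b) * b⁻¹ = f := by group
      rw [h2'] at this
      calc f * (a * b⁻¹) = (a * (b⁻¹ * f * b) * a⁻¹) * (a * b⁻¹) := by rw [this]
        _ = a * b⁻¹ * f := by group
  have memW1 : ∀ a : T, c a e2 = e2 → c a e3 = e3 → a ∈ W := by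
    intro a h2 h3
    have := (memW a 1 (by rw [h2, map_one]; rfl) (by rw [h3, map_one]; rfl)).2
    simpa using this
  -- the counting argument
  let ψ : T → Z1 × Z2 := fun t =>
    (⟨t * e2 * t⁻¹ * e2⁻¹, hZ2 e2 he2Z t⟩, ⟨t * e3 * t⁻¹ * e3⁻¹, hF e3 he3F t⟩)
  have ψeq : ∀ a b : T, ψ a = ψ b ↔ (c a e2 = c b e2 ∧ c a e3 = c b e3) := by
    intro a b
    simp only [ψ, Prod.mk.injEq, Subtype.mk.injEq, cdef, mul_left_inj]
  have hsurj : Function.Surjective ψ := by
    have hwd : ∀ a b : T, (QuotientGroup.leftRel W) a b → ψ a = ψ b := by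
      intro a b hab
      rw [QuotientGroup.leftRel_apply, hW, Subgroup.mem_centralizer_iff] at hab
      rw [ψeq]
      have key : ∀ f ∈ F, c a f = c b f := by
        intro f hf
        have := hab f hf
        rw [cdef, cdef]
        calc a * f * a⁻¹ = a * (f * (a⁻¹ * b)) * b⁻¹ := by group
          _ = a * (a⁻¹ * b * f) * b⁻¹ := by rw [this]
          _ = b * f * b⁻¹ := by group
      exact ⟨key e2 he2F, key e3 he3F⟩
    let ψbar : T ⧸ W → Z1 × Z2 := Quotient.lift ψ hwd
    have hinj : Function.Injective ψbar := by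
      intro q1 q2
      induction q1 using QuotientGroup.induction_on with
      | H a =>
        induction q2 using QuotientGroup.induction_on with
        | H b =>
          intro h
          have h' : ψ a = ψ b := h
          rw [ψeq] at h'
          rw [QuotientGroup.eq]
          exact (memW b a h'.1.symm h'.2.symm).1
    have hcard : Nat.card (Z1 × Z2) ≤ Nat.card (T ⧸ W) := by
      rw [Nat.card_prod, c1, c2, ← Subgroup.index_eq_card, hidx]
    have hbij := hinj.bijective_of_nat_card_le hcard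
    intro p
    obtain ⟨q, hq⟩ := hbij.2 p
    induction q using QuotientGroup.induction_on with
    | H a => exact ⟨a, hq⟩
  -- the generators
  obtain ⟨x, hx⟩ := hsurj (⟨e1, he1Z⟩, ⟨1, Z2.one_mem⟩)
  obtain ⟨y, hy⟩ := hsurj (⟨1, Z1.one_mem⟩, ⟨e2, he2Z⟩)
  obtain ⟨z, hz⟩ := hsurj (⟨1, Z1.one_mem⟩, ⟨e1, h12 he1Z⟩)
  simp only [ψ, Prod.mk.injEq, Subtype.mk.injEq] at hx hy hz
  have conv : ∀ t e p : T, t * e * t⁻¹ * e⁻¹ = p → c t e = p * e := by
    intro t e p h
    rw [cdef, ← h]; group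
  have X2 : c x e2 = e1 * e2 := conv _ _ _ hx.1
  have X3 : c x e3 = e3 := by rw [conv _ _ _ hx.2, one_mul]
  have Y2 : c y e2 = e2 := by rw [conv _ _ _ hy.1, one_mul]
  have Y3 : c y e3 = e2 * e3 := conv _ _ _ hy.2
  have Zz2 : c z e2 = e2 := by rw [conv _ _ _ hz.1, one_mul]
  have Zz3 : c z e3 = e1 * e3 := conv _ _ _ hz.2
  -- normal form rules
  have n21 : e2 * e1 = e1 * e2 := c12.symm
  have n31 : e3 * e1 = e1 * e3 := c13.symm
  have n32 : e3 * e2 = e2 * e3 := c23.symm
  have n21' : ∀ a : T, e2 * (e1 * a) = e1 * (e2 * a) := fun a => by rw [← mul_assoc, n21, mul_assoc]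
  have n31' : ∀ a : T, e3 * (e1 * a) = e1 * (e3 * a) := fun a => by rw [← mul_assoc, n31, mul_assoc]
  have n32' : ∀ a : T, e3 * (e2 * a) = e2 * (e3 * a) := fun a => by rw [← mul_assoc, n32, mul_assoc]
  have s1' : ∀ a : T, e1 * (e1 * a) = a := fun a => by rw [← mul_assoc, s1, one_mul]
  have s2' : ∀ a : T, e2 * (e2 * a) = a := fun a => by rw [← mul_assoc, s2, one_mul]
  have s3' : ∀ a : T, e3 * (e3 * a) = a := fun a => by rw [← mul_assoc, s3, one_mul]
  have inW : ∀ a ∈ W, ∀ f ∈ F, c a f = f := by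
    intro a ha f hf
    rw [hW, Subgroup.mem_centralizer_iff] at ha
    rw [cdef, ← ha f hf, mul_inv_cancel_right]
  have e2ne : e2 ≠ 1 := fun h => he2 (h ▸ Z1.one_mem)
  have e12ne : e1 * e2 ≠ 1 := by
    intro h
    apply he2
    have : e2 = e1 := by
      have := congrArg (fun a => e1 * a) h
      simp only [s1', mul_one] at this
      exact this
    rw [this]; exact he1Z
  -- fixed points
  have fixlemma : ∀ g k : T, c g e2 = e2 → c g e3 = k * e3 → k ≠ 1 →
      ∀ f ∈ F, g * f = f * g → f ∈ Z2 := by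
    intro g k h2 h3 hk f hf hgf
    by_contra hfZ
    have hw := h4_mul_mem_of_index_two h2F (by rw [c2, c3]) he3F hf he3 hfZ
    have hf' : f = e3 * (e3 * f) := (s3' f).symm
    have hfix : c g f = f := by rw [cdef, hgf, mul_inv_cancel_right]
    have hwfix : c g (e3 * f) = e3 * f := by
      rcases hZ2all _ hw with h | h | h | h <;> rw [h]
      · exact map_one _
      · exact ce1 g
      · exact h2
      · rw [map_mul, h2, ce1]
    rw [hf', map_mul, hwfix, h3] at hfix
    have : k * e3 = e3 := mul_right_cancel hfix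
    exact hk (by simpa using this)
  refine ⟨x, y, z, ?_⟩
  refine
    { cover := ?_
      zsq := ?_
      xsq := ?_
      ysq := ?_
      xz := ?_
      yz := ?_
      yx := ?_
      zW := ?_
      xW := ?_
      xzW := ?_
      fixz := ?_
      fixy := ?_
      fixyz := ?_ }
  · -- cover
    intro t
    have hp := h4_card_two c1 he1Z he1 (hZ2 e2 he2Z t)
    have hq := hZ2all _ (hF e3 he3F t)
    have T2 := conv t e2 _ rfl
    have T3 := conv t e3 _ rfl
    rcases hp with hp | hp <;> rcases hq with hq | hq | hq | hq <;> rw [hp] at T2 <;> rw [hq] at T3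
    · refine ⟨1, by simp, (memW t 1 ?_ ?_).1⟩
      · rw [T2]; simp only [map_one, MulAut.one_apply, one_mul]
      · rw [T3]; simp only [map_one, MulAut.one_apply, one_mul]
    · refine ⟨z, by simp, (memW t z ?_ ?_).1⟩
      · rw [T2, Zz2, one_mul]
      · rw [T3, Zz3]
    · refine ⟨y, by simp, (memW t y ?_ ?_).1⟩
      · rw [T2, Y2, one_mul]
      · rw [T3, Y3]
    · refine ⟨y * z, by simp, (memW t (y * z) ?_ ?_).1⟩
      · rw [T2]; simp only [map_mul, MulAut.mul_apply, Zz2, Y2, one_mul]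
      · rw [T3]; simp only [map_mul, MulAut.mul_apply, Zz3, Y3, ce1, mul_assoc, n21']
    · refine ⟨x, by simp, (memW t x ?_ ?_).1⟩
      · rw [T2, X2]
      · rw [T3, X3, one_mul]
    · refine ⟨x * z, by simp, (memW t (x * z) ?_ ?_).1⟩
      · rw [T2]; simp only [map_mul, MulAut.mul_apply, Zz2, X2]
      · rw [T3]; simp only [map_mul, MulAut.mul_apply, Zz3, X3, ce1]
    · refine ⟨y * x, by simp, (memW t (y * x) ?_ ?_).1⟩
      · rw [T2]; simp only [map_mul, MulAut.mul_apply, X2, Y2, ce1]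
      · rw [T3]; simp only [map_mul, MulAut.mul_apply, X3, Y3]
    · refine ⟨y * x * z, by simp, (memW t (y * x * z) ?_ ?_).1⟩
      · rw [T2]; simp only [map_mul, MulAut.mul_apply, Zz2, X2, Y2, ce1]
      · rw [T3]; simp only [map_mul, MulAut.mul_apply, Zz3, X3, Y3, ce1, mul_assoc, n21']
  · -- zsq
    apply memW1
    · simp only [map_mul, MulAut.mul_apply, Zz2]
    · simp only [map_mul, MulAut.mul_apply, Zz3, ce1, s1']
  · apply memW1
    · simp only [map_mul, MulAut.mul_apply, X2, ce1, s1']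
    · simp only [map_mul, MulAut.mul_apply, X3]
  · apply memW1
    · simp only [map_mul, MulAut.mul_apply, Y2]
    · simp only [map_mul, MulAut.mul_apply, Y3, Y2, s2']
  · -- xz
    have : x * z * x⁻¹ * z⁻¹ = (x * z) * (z * x)⁻¹ := by group
    rw [this]
    apply (memW _ _ ?_ ?_).2
    · simp only [map_mul, MulAut.mul_apply, Zz2, X2, ce1]
    · simp only [map_mul, MulAut.mul_apply, Zz3, X3, ce1]
  · -- yz
    have : y * z * y⁻¹ * z⁻¹ = (y * z) * (z * y)⁻¹ := by group
    rw [this]
    apply (memW _ _ ?_ ?_).2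
    · simp only [map_mul, MulAut.mul_apply, Zz2, Y2]
    · simp only [map_mul, MulAut.mul_apply, Zz3, Y3, Zz2, ce1, mul_assoc, n21']
  · -- yx
    have : y * x * y⁻¹ * (x * z)⁻¹ = (y * x) * ((x * z) * y)⁻¹ := by group
    rw [this]
    apply (memW _ _ ?_ ?_).2
    · simp only [map_mul, MulAut.mul_apply, Zz2, Y2, X2, ce1]
    · simp only [map_mul, MulAut.mul_apply, Zz3, Y3, X3, Zz2, Y2, X2, ce1, mul_assoc, n21', s1']
  · -- zW
    intro h
    have := inW z h e3 he3F
    rw [Zz3] at this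
    exact he1 (by simpa using this)
  · intro h
    have := inW x h e2 he2F
    rw [X2] at this
    exact he1 (by simpa using this)
  · intro h
    have := inW (x * z) h e2 he2F
    simp only [map_mul, MulAut.mul_apply, Zz2, X2] at this
    exact he1 (by simpa using this)
  · exact fixlemma z e1 Zz2 Zz3 he1
  · exact fixlemma y e2 Y2 Y3 e2ne
  · apply fixlemma (y * z) (e1 * e2) ?_ ?_ e12ne
    · simp only [map_mul, MulAut.mul_apply, Zz2, Y2]
    · simp only [map_mul, MulAut.mul_apply, Zz3, Y3, ce1, mul_assoc]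

end Cfsg.Agent.Helper4.RuZ
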