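import Mathlib
import Cfsg.Agent.Lib.Helper2.SR0

set_option autoImplicit false

namespace Cfsg.Agent.Helper4.SR

open Matrix Cfsg Cfsg.Agent.Helper13 Cfsg.Agent.Helper84.SpRoot Cfsg.Agent.Helper5.SpAut
open Cfsg.Agent.Helper2.SR

section A
variable {F : Type*} [Field F] {n : ℕ}
  {H : Subgroup (Matrix.symplecticGroup (Fin n) F)} {e0 : Fin n ⊕ Fin n → F}

/-- (A1) -/
theorem orb_self : e0 ∈ Orb H e0 := by
  exact ⟨1, H.one_mem, one_act e0⟩

end A

end Cfsg.Agent.Helper4.SR
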