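import Mathlib
import Cfsg.Agent.Lib.Helper2.SR0

set_option autoImplicit false

namespace Cfsg.Agent.Helper4.SR

open Matrix Cfsg Cfsg.Agent.Helper13 Cfsg.Agent.Helper84.SpRoot Cfsg.Agent.Helper5.SpAut
open Cfsg.Agent.Helper2.SR

section A
variable {F : Type*} [Field F] {n : ℕ}
  {H : Subgroup (Matrix.symplecticGroup (Fin n) F)} {e0 : Fin n ⊕ Fin n → F}

/-- (A3) `conj_sympT` -/
theorem tv_of_orb {x : Fin n ⊕ Fin n → F} (hx : x ∈ Orb H e0) {c : F} (hc : c ∈ MM H e0) :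
    sympT x c ∈ H := by
  obtain ⟨g, hg, rfl⟩ := hx
  rw [← conj_sympT]
  exact H.mul_mem (H.mul_mem hg hc) (H.inv_mem hg)

end A

end Cfsg.Agent.Helper4.SR
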