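import Mathlib
import Cfsg.Agent.Lib.Helper2.SR0

set_option autoImplicit false

namespace Cfsg.Agent.Helper4.SR

open Matrix Cfsg Cfsg.Agent.Helper13 Cfsg.Agent.Helper84.SpRoot Cfsg.Agent.Helper5.SpAut
open Cfsg.Agent.Helper2.SR

section K
variable {F : Type*} [Field F] {n : ℕ}
  {H : Subgroup (Matrix.symplecticGroup (Fin n) F)} {u l : Matrix.symplecticGroup (Fin n) F}
  {e0 e1 p : Fin n ⊕ Fin n → F} {κ γ : F}

/-- (K1) `e1 = l e0`, `e1 + e0 = u e1`, `p = l⁻¹ e0` -/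
theorem orb_basic (hyp : Hyp H u l e0 e1 p κ γ) :
    e1 ∈ Orb H e0 ∧ e1 + e0 ∈ Orb H e0 ∧ p ∈ Orb H e0 := by
  refine ⟨⟨l, hyp.hl, hyp.le0⟩, ⟨u * l, H.mul_mem hyp.hu hyp.hl, ?_⟩,
    ⟨l⁻¹, H.inv_mem hyp.hl, ?_⟩⟩
  · rw [mul_act, hyp.le0, hyp.ue1]
  · rw [← hyp.lp, ← mul_act, inv_mul_cancel, one_act]

end K

end Cfsg.Agent.Helper4.SR
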