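import Mathlib
import Cfsg.Agent.Lib.Helper2.SR0

set_option autoImplicit false

namespace Cfsg.Agent.Helper4.SR

open Matrix Cfsg Cfsg.Agent.Helper13 Cfsg.Agent.Helper84.SpRoot Cfsg.Agent.Helper5.SpAut
open Cfsg.Agent.Helper2.SR

section K
variable {F : Type*} [Field F] {n : ℕ}
  {H : Subgroup (Matrix.symplecticGroup (Fin n) F)} {u l : Matrix.symplecticGroup (Fin n) F}
  {e0 e1 p : Fin n ⊕ Fin n → F} {κ γ : F}

/-- (K4) with K1, K3 and A7 as hypotheses -/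
theorem lin_e1_of (hyp : Hyp H u l e0 e1 p κ γ)
    (hK1 : e1 ∈ Orb H e0)
    (hK3 : ∀ a : F, a • p ∈ QQ H e0)
    (hA7 : ∀ {w y : Fin n ⊕ Fin n → F}, w ∈ QQ H e0 → y ∈ Orb H e0 →
      Cfsg.sympForm n F y e0 = 0 → ∀ {c : F}, c ∈ MM H e0 →
      (c * Cfsg.sympForm n F w y) • y ∈ QQ H e0) :
    ∀ a : F, a • e1 ∈ QQ H e0 := by
  intro a
  have hκ : κ ∈ MM H e0 := hyp.hκ
  have hκγ : κ * γ ≠ 0 := mul_ne_zero hyp.κ0 hyp.γ0
  have h := hA7 (hK3 (-(a / (κ * γ)))) hK1 hyp.e1e0 hκ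
  have hform : Cfsg.sympForm n F ((-(a / (κ * γ))) • p) e1 = a / (κ * γ) * γ := by
    rw [sympForm_smul_left, sympForm_swap p e1, hyp.e1p]
    ring
  rw [hform] at h
  have hc : κ * (a / (κ * γ) * γ) = a := by
    have hκ0 := hyp.κ0
    have hγ0 := hyp.γ0
    field_simp
  rw [hc] at h
  exact h

end K

end Cfsg.Agent.Helper4.SR
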