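import Mathlib
import Cfsg.Agent.Lib.Helper87.PsuA
import Cfsg.Agent.Lib.Helper87.PsuB0

/-!
# SUOT (S2282) piece T9, hypothesis-form core (helper4): the third conjugate.
For any `u ∈ SU_n` with `u b0 = b0`, `u b1 = b1 + δ b0`, `δ ≠ 0`, and any trace-zero `kap`
there is `g` with `g u g⁻¹ = eich b0 0 kap * u`  (`g = eich b0 ((x/δ) • b1) 0`, `x - x^q = -kap`).
-/

set_option autoImplicit false
set_option linter.unusedSectionVars false
set_option linter.unusedVariables false
set_option quotPrecheck false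

namespace Cfsg.Agent.Helper4.SUOT

open Matrix Cfsg Cfsg.Agent.Helper13 Cfsg.Agent.Helper87.PsuA Cfsg.Agent.Helper87.PsuB0

variable {F : Type*} [Field F] [Fintype F] {q n : ℕ}

local notation "V" => Fin n → F
local notation "G" => ↥(Cfsg.SU n F q)
local notation "H" => Cfsg.hermForm n F q

/-- every trace-zero element is of the form `x - x^q` -/
theorem h4_exists_skew (hF : Fintype.card F = q ^ 2) (c : F) (hc : c + c ^ q = 0) :
    ∃ x : F, x - x ^ q = c := by
  obtain ⟨κ, hκ0, hκ⟩ := exists_kappa hF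
  have hκq : κ ^ q = -κ := by linear_combination hκ
  have hcq : c ^ q = -c := by linear_combination hc
  obtain ⟨a, ha⟩ := exists_trace hF (c / κ) (by rw [div_pow, hκq, hcq, neg_div_neg_eq])
  refine ⟨κ * a, ?_⟩
  rw [mul_pow, hκq]
  have : κ * (a + a ^ q) = c := by rw [ha]; field_simp
  linear_combination this

/-- the core of T9 for an arbitrary `u` fixing `e0` and with `u e1 = e1 + δ e0` -/
theorem h4_exists_g_core (hF : Fintype.card F = q ^ 2) (e0 e1 : V) (h00 : H e0 e0 = 0)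
    (h01 : H e0 e1 = 0) (h11 : H e1 e1 = 0) (u : G) (δ : F) (hδ : δ ≠ 0)
    (hu0 : actv u e0 = e0) (hu1 : actv u e1 = e1 + δ • e0) (kap : F)
    (hkap : kap + kap ^ q = 0) :
    ∃ g : G, g * u * g⁻¹ = eich hF e0 0 kap * u := by
  have hnk : (-kap) + (-kap) ^ q = 0 := by
    rw [frob_neg hF]; linear_combination -hkap
  obtain ⟨x, hx⟩ := h4_exists_skew hF (-kap) hnk
  set μ : F := x / δ with hμ
  have hμδ : μ * δ = x := by rw [hμ]; field_simp
  have h10 : H e1 e0 = 0 := H_symm_zero hF h01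
  -- parameters of g
  have hw : H e0 (μ • e1) = 0 := by rw [hermForm_smul_right, h01, mul_zero]
  have ha : (0 : F) + (0 : F) ^ q + H (μ • e1) (μ • e1) = 0 := by
    rw [hermForm_smul_left, hermForm_smul_right, h11, frob_zero hF]; ring
  refine ⟨eich hF e0 (μ • e1) 0, ?_⟩
  -- g u g⁻¹ = (g (u g⁻¹ u⁻¹)) u
  have hinv : (eich hF e0 (μ • e1) 0)⁻¹ = eich hF e0 (-(μ • e1)) 0 := by
    rw [eich_inv hF h00 hw ha, frob_zero hF]
  have hw' : H e0 (-(μ • e1)) = 0 := by rw [H_neg_right hF, hw, neg_zero]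
  have ha' : (0 : F) + (0 : F) ^ q + H (-(μ • e1)) (-(μ • e1)) = 0 := by
    rw [H_neg_left hF, H_neg_right hF, hermForm_smul_left, hermForm_smul_right, h11,
      frob_zero hF]; ring
  have hconj : u * eich hF e0 (-(μ • e1)) 0 * u⁻¹ =
      eich hF e0 (-(μ • e1) + (-(μ * δ)) • e0) 0 := by
    rw [eich_conj hF h00 hw' ha' u, hu0, actv_neg, actv_smul, hu1]
    congr 1
    module
  have hw2 : H e0 (-(μ • e1)) = 0 := hw'
  have hsm : eich hF e0 (-(μ • e1) + (-(μ * δ)) • e0) 0 =
      eich hF e0 (-(μ • e1)) (0 + (-(μ * δ)) - (-(μ * δ)) ^ q) :=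
    eich_add_smul hF h00 hw' ha'
  have hpar : (0 : F) + (-(μ * δ)) - (-(μ * δ)) ^ q = kap := by
    rw [hμδ, frob_neg hF]; linear_combination -hx
  rw [hpar] at hsm
  have ha2 : kap + kap ^ q + H (-(μ • e1)) (-(μ • e1)) = 0 := by
    rw [H_neg_left hF, H_neg_right hF, hermForm_smul_left, hermForm_smul_right, h11]
    linear_combination hkap
  have hprod : eich hF e0 (μ • e1) 0 * eich hF e0 (-(μ • e1)) kap = eich hF e0 0 kap := by
    rw [eich_mul hF h00 hw ha hw' ha2]
    have e1' : μ • e1 + -(μ • e1) = 0 := add_neg_cancel _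
    have e2' : (0 : F) + kap - H (-(μ • e1)) (μ • e1) = kap := by
      rw [H_neg_left hF, hermForm_smul_left, hermForm_smul_right, h11]; ring
    rw [e1', e2']
  calc eich hF e0 (μ • e1) 0 * u * (eich hF e0 (μ • e1) 0)⁻¹
      = eich hF e0 (μ • e1) 0 * (u * eich hF e0 (-(μ • e1)) 0 * u⁻¹) * u := by
        rw [hinv]; group
    _ = eich hF e0 0 kap * u := by rw [hconj, hsm, hprod]

end Cfsg.Agent.Helper4.SUOT
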