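import Mathlib
import Cfsg.Agent.Lib.Helper12.SUOT0
import Cfsg.Agent.Lib.Helper12.SUOT_T14
import Cfsg.Agent.Lib.Helper4.SUOT_T9core

/-!
# SUOT (S2282) piece T9 (helper4): the third conjugate `g u g⁻¹ = eich b0 0 kap * u`, VERBATIM.
-/

set_option autoImplicit false
set_option linter.unusedSectionVars false
set_option linter.unusedVariables false

namespace Cfsg.Agent.Helper4.SUOT

open Matrix Cfsg Cfsg.Agent.Helper13 Cfsg.Agent.Helper87.PsuA Cfsg.Agent.Helper12.SUOT

variable {F : Type*} [Field F] [Fintype F] {q n : ℕ}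

/-- private copy of (T5) `uEl_b_zero` -/
theorem h4_uEl_b_zero (hF : Fintype.card F = q ^ 2) {b : Fin n → Fin n → F} (hb : HB q b) (al : F)
    (j : Fin n) (hj : j.val = 0) : actv (uEl q b al) (b j) = b j := by
  have h := uEl_key hF hb al (b j)
  simpa [Nm_b_zero hF hb j hj] using h

/-- private copy of (T5) `uEl_b_one` -/
theorem h4_uEl_b_one (hF : Fintype.card F = q ^ 2) {b : Fin n → Fin n → F} (hb : HB q b) (al : F)
    (i j : Fin n) (hi : i.val = 0) (hj : j.val = 1) :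
    actv (uEl q b al) (b j) = b j + (al - al ^ q) • b i := by
  have h := uEl_key hF hb al (b j)
  rw [Nm_b_succ hF hb i j (by omega), actv_add, actv_smul, h4_uEl_b_zero hF hb al i hi] at h
  have h2 : actv (uEl q b al) (b j) = b j + al • b i - al ^ q • b i := by
    rw [← h]; abel
  rw [h2, sub_smul]; abel

theorem exists_g (hF : Fintype.card F = q ^ 2) {b : Fin n → Fin n → F} (hb : HB q b)
    (hn : 5 ≤ n) (al : F) (hal : al ^ q ≠ al) (kap : F) (hkap : kap + kap ^ q = 0) :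
    ∃ g : ↥(Cfsg.SU n F q),
      g * uEl q b al * g⁻¹ = eich hF (b ⟨0, by omega⟩) 0 kap * uEl q b al := by
  have h00 : Cfsg.hermForm n F q (b ⟨0, by omega⟩) (b ⟨0, by omega⟩) = 0 := by
    rw [hb ⟨0, by omega⟩ ⟨0, by omega⟩, if_neg]
    intro h
    have := congrArg Fin.val h
    simp [Fin.rev] at this
    omega
  have h01 : Cfsg.hermForm n F q (b ⟨0, by omega⟩) (b ⟨1, by omega⟩) = 0 := by
    rw [hb ⟨0, by omega⟩ ⟨1, by omega⟩, if_neg]
    intro h
    have := congrArg Fin.val h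
    simp [Fin.rev] at this
    omega
  have h11 : Cfsg.hermForm n F q (b ⟨1, by omega⟩) (b ⟨1, by omega⟩) = 0 := by
    rw [hb ⟨1, by omega⟩ ⟨1, by omega⟩, if_neg]
    intro h
    have := congrArg Fin.val h
    simp [Fin.rev] at this
    omega
  have hδ : al - al ^ q ≠ 0 := fun h => hal (sub_eq_zero.mp h).symm
  exact h4_exists_g_core hF (b ⟨0, by omega⟩) (b ⟨1, by omega⟩) h00 h01 h11 (uEl q b al)
    (al - al ^ q) hδ (h4_uEl_b_zero hF hb al ⟨0, by omega⟩ rfl)
    (h4_uEl_b_one hF hb al ⟨0, by omega⟩ ⟨1, by omega⟩ rfl rfl) kap hkap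

end Cfsg.Agent.Helper4.SUOT
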