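import Mathlib

set_option autoImplicit false

namespace Cfsg.Agent.Helper4.TU

/-- Lucas, one digit at a time: `C(p^a t + p^a - 1, p^a) ≡ t (mod p)`. -/
theorem h4_choose_pow_modEq (p : ℕ) [hp : Fact p.Prime] (a t : ℕ) :
    Nat.choose (p ^ a * t + p ^ a - 1) (p ^ a) ≡ t [MOD p] := by
  induction a with
  | zero => simp [Nat.ModEq]
  | succ a ih =>
    have hpp := hp.out
    have h1p : 1 ≤ p := hpp.one_le
    have hpa : 1 ≤ p ^ a := Nat.one_le_pow _ _ hpp.pos
    have hX : 1 ≤ p ^ a * t + p ^ a := by omega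
    have hN : p ^ (a + 1) * t + p ^ (a + 1) - 1 = p * (p ^ a * t + p ^ a - 1) + (p - 1) := by
      have e1 : p ^ (a + 1) * t + p ^ (a + 1) = p * (p ^ a * t + p ^ a) := by ring
      rw [e1]
      obtain ⟨X, hXe⟩ : ∃ X, p ^ a * t + p ^ a = X + 1 := ⟨p ^ a * t + p ^ a - 1, by omega⟩
      rw [hXe]
      have : p * (X + 1) = p * X + p := by ring
      rw [this]
      simp only [Nat.add_sub_cancel]
      omega
    have hmod : (p ^ (a + 1) * t + p ^ (a + 1) - 1) % p = p - 1 := by
      rw [hN, Nat.mul_add_mod]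
      exact Nat.mod_eq_of_lt (by omega)
    have hdiv : (p ^ (a + 1) * t + p ^ (a + 1) - 1) / p = p ^ a * t + p ^ a - 1 := by
      rw [hN, Nat.mul_add_div hpp.pos]
      rw [Nat.div_eq_of_lt (by omega)]
      simp
    have hkmod : p ^ (a + 1) % p = 0 := by
      rw [pow_succ]; exact Nat.mul_mod_left _ _
    have hkdiv : p ^ (a + 1) / p = p ^ a := by
      rw [pow_succ]; exact Nat.mul_div_cancel _ hpp.pos
    have h1 := Choose.choose_modEq_choose_mod_mul_choose_div_nat (p := p)
      (n := p ^ (a + 1) * t + p ^ (a + 1) - 1) (k := p ^ (a + 1))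
    rw [hmod, hdiv, hkmod, hkdiv, Nat.choose_zero_right, one_mul] at h1
    exact h1.trans ih

/-- (LUC) the offset `s = p ^ v_p(n)`: either `n = s`, or `s + 3 ≤ n` and the Gram value
`C(n - 1 + s, n - 1)` is a unit mod `p`. -/
theorem exists_offset (p n : ℕ) [Fact p.Prime] (hn : 4 ≤ n) :
    ∃ a : ℕ, n = p ^ a ∨ (p ^ a + 3 ≤ n ∧ ¬ p ∣ Nat.choose (n - 1 + p ^ a) (n - 1)) := by
  have hpp := (Fact.out : p.Prime)
  have hn0 : n ≠ 0 := by omega
  obtain ⟨a, t, ht, hnt⟩ := Nat.exists_eq_pow_mul_and_not_dvd hn0 p hpp.ne_one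
  refine ⟨a, ?_⟩
  have hpa : 1 ≤ p ^ a := Nat.one_le_pow _ _ hpp.pos
  by_cases ht1 : t = 1
  · left; rw [hnt, ht1, mul_one]
  right
  have ht0 : t ≠ 0 := by
    rintro rfl; exact ht (dvd_zero _)
  have ht2 : 2 ≤ t := by omega
  have hge : 2 * p ^ a ≤ n := by
    rw [hnt]; nlinarith
  refine ⟨?_, ?_⟩
  · -- p^a + 3 ≤ n
    by_cases h3 : 3 ≤ p ^ a
    · omega
    · -- p^a ∈ {1, 2}
      have h12 : p ^ a = 1 ∨ p ^ a = 2 := by omega
      rcases h12 with h | h
      · omega
      · -- p^a = 2, n = 2 t, t odd (not divisible by p = 2), t ≥ 2, so t ≥ 3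
        have hp2 : p = 2 := by
          have hdvd : p ∣ 2 := by
            rw [← h]
            have ha0 : a ≠ 0 := by
              rintro h0; rw [h0] at h; simp at h
            exact dvd_pow_self p ha0
          have := (Nat.prime_dvd_prime_iff_eq hpp Nat.prime_two).mp hdvd
          exact this
        have ht3 : t ≠ 2 := by
          rintro rfl; apply ht; rw [hp2]
        have : 3 ≤ t := by omega
        rw [hnt, h]; omega
  · -- the binomial is ≡ t mod p
    have hsymm : Nat.choose (n - 1 + p ^ a) (n - 1) = Nat.choose (n - 1 + p ^ a) (p ^ a) := by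
      rw [Nat.choose_symm_add]
    rw [hsymm]
    have hN : n - 1 + p ^ a = p ^ a * t + p ^ a - 1 := by
      rw [← hnt]; omega
    rw [hN]
    intro hdvd
    have h1 := h4_choose_pow_modEq p a t
    have : p ∣ t := by
      have h2 : Nat.choose (p ^ a * t + p ^ a - 1) (p ^ a) % p = 0 := Nat.mod_eq_zero_of_dvd hdvd
      have h3 : t % p = 0 := by rw [← h1, h2]
      exact Nat.dvd_of_mod_eq_zero h3
    exact ht this

end Cfsg.Agent.Helper4.TU
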