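import Mathlib
import Cfsg.Agent.Lib.Helper43.Tri.Defs2

/-!
# TRI2 (M3): conjugating a related triple by a product of two reflections (helper43 server, S2608)
-/

set_option autoImplicit false
set_option linter.unusedSectionVars false
set_option linter.unusedVariables false

namespace Cfsg.Agent.Helper4.Tri2

open Matrix QuadraticMap Cfsg.Agent.Helper13 Cfsg.Agent.Helper43 Cfsg.Agent.Helper5.OAut Module
  Cfsg.Agent.Helper43.Tri Cfsg.Agent.Helper43.OGam

variable {F : Type*} [Field F]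

/-- the linear map of an isometry -/
noncomputable def h4Lin (h : O8 F) : OV F →ₗ[F] OV F :=
  Matrix.mulVecLin (((h : O8 F) : GL (Fin 4 ⊕ Fin 4) F) : Matrix (Fin 4 ⊕ Fin 4) (Fin 4 ⊕ Fin 4) F)

theorem h4Lin_apply (h : O8 F) (x : OV F) : h4Lin h x = h • x := rfl

theorem h4_Q_smul (g : O8 F) (v : OV F) : stdPlus F 4 (g • v) = stdPlus F 4 v :=
  O_Q_smul (stdPlus F 4) g v

theorem h4_smul_comm (g : O8 F) (c : F) (v : OV F) : g • (c • v) = c • (g • v) :=
  O_smul_smul_comm (stdPlus F 4) g c v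

/-- transport an isometry along a bijective similitude -/
theorem h4_conjIso (G Gi : OV F →ₗ[F] OV F) (n : F) (hn : n ≠ 0)
    (h1 : ∀ x, G (Gi x) = x) (h2 : ∀ x, Gi (G x) = x)
    (hN : ∀ x, stdPlus F 4 (G x) = n * stdPlus F 4 x) (h : O8 F) :
    ∃ k : O8 F, ∀ x : OV F, k • G x = G (h • x) := by
  have hNi : ∀ x, n * stdPlus F 4 (Gi x) = stdPlus F 4 x := by
    intro x
    rw [← hN, h1]
  let f : OV F →ₗ[F] OV F := G ∘ₗ h4Lin h ∘ₗ Gi
  let g : OV F →ₗ[F] OV F := G ∘ₗ h4Lin h⁻¹ ∘ₗ Gi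
  have hf : ∀ x, f x = G (h • Gi x) := fun x => rfl
  have hg : ∀ x, g x = G (h⁻¹ • Gi x) := fun x => rfl
  have e1 : f ∘ₗ g = LinearMap.id := by
    apply LinearMap.ext
    intro x
    rw [LinearMap.comp_apply, hf, hg, h2, smul_inv_smul, h1, LinearMap.id_apply]
  have e2 : g ∘ₗ f = LinearMap.id := by
    apply LinearMap.ext
    intro x
    rw [LinearMap.comp_apply, hf, hg, h2, inv_smul_smul, h1, LinearMap.id_apply]
  have hQ : ∀ x, stdPlus F 4 (f x) = stdPlus F 4 x := by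
    intro x
    rw [hf, hN, h4_Q_smul, hNi]
  refine ⟨mkIso (stdPlus F 4) f g e1 e2 hQ, ?_⟩
  intro x
  rw [mkIso_smul, hf, h2]

theorem Rel.conj_refl_mul
    (hM1 : ∀ (a b : OV F) (ha : stdPlus F 4 a ≠ 0) (hb : stdPlus F 4 b ≠ 0) (x y : OV F),
      (reflIso (stdPlus F 4) ha * reflIso (stdPlus F 4) hb : O8 F) • omul x y =
        (stdPlus F 4 a * stdPlus F 4 b)⁻¹ •
          omul (omul a (omul (oconj b) x)) (omul (omul y (oconj b)) a))
    (a b : OV F) (ha : stdPlus F 4 a ≠ 0) (hb : stdPlus F 4 b ≠ 0)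
    {h₀ h₁ h₂ : O8 F} (h : Rel h₀ h₁ h₂) :
    ∃ k₁ k₂ : O8 F,
      Rel ((reflIso (stdPlus F 4) ha * reflIso (stdPlus F 4) hb) * h₀ *
        (reflIso (stdPlus F 4) ha * reflIso (stdPlus F 4) hb)⁻¹) k₁ k₂ ∧
      ∀ x : OV F, k₁ • omul a (omul (oconj b) x) = omul a (omul (oconj b) (h₁ • x)) := by
  set n : F := stdPlus F 4 a * stdPlus F 4 b with hn_def
  have hn : n ≠ 0 := mul_ne_zero ha hb
  set s : O8 F := reflIso (stdPlus F 4) ha * reflIso (stdPlus F 4) hb with hs_def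
  -- the two similitudes
  let G1 : OV F →ₗ[F] OV F := Lm a ∘ₗ Lm (oconj b)
  let G1i : OV F →ₗ[F] OV F := n⁻¹ • (Lm b ∘ₗ Lm (oconj a))
  let G2 : OV F →ₗ[F] OV F := Rm a ∘ₗ Rm (oconj b)
  let G2i : OV F →ₗ[F] OV F := n⁻¹ • (Rm b ∘ₗ Rm (oconj a))
  have hG1 : ∀ x, G1 x = omul a (omul (oconj b) x) := fun x => rfl
  have hG1i : ∀ x, G1i x = n⁻¹ • omul b (omul (oconj a) x) := fun x => rfl
  have hG2 : ∀ y, G2 y = omul (omul y (oconj b)) a := fun y => rfl
  have hG2i : ∀ y, G2i y = n⁻¹ • omul (omul y (oconj a)) b := fun y => rfl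
  have c1 : n⁻¹ * stdPlus F 4 b * stdPlus F 4 a = 1 := by
    rw [hn_def]; field_simp
  have c2 : n⁻¹ * stdPlus F 4 a * stdPlus F 4 b = 1 := by
    rw [hn_def]; field_simp
  have a1 : ∀ x, G1 (G1i x) = x := by
    intro x
    rw [hG1, hG1i, omul_smul_right, omul_smul_right, oconj_omul_omul, omul_smul_right,
      omul_oconj_omul', smul_smul, smul_smul, c1, one_smul]
  have a2 : ∀ x, G1i (G1 x) = x := by
    intro x
    rw [hG1, hG1i, oconj_omul_omul, omul_smul_right, omul_oconj_omul', smul_smul, smul_smul, c2,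
      one_smul]
  have b1 : ∀ y, G2 (G2i y) = y := by
    intro y
    rw [hG2, hG2i, omul_smul_left, omul_smul_left, omul_omul_oconj, omul_smul_left,
      omul_oconj_omul_right, smul_smul, smul_smul, c1, one_smul]
  have b2 : ∀ y, G2i (G2 y) = y := by
    intro y
    rw [hG2, hG2i, omul_omul_oconj, omul_smul_left, omul_oconj_omul_right, smul_smul, smul_smul,
      c2, one_smul]
  have n1 : ∀ x, stdPlus F 4 (G1 x) = n * stdPlus F 4 x := by
    intro x
    rw [hG1, N_omul, N_omul, N_oconj, hn_def]; ring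
  have n2 : ∀ y, stdPlus F 4 (G2 y) = n * stdPlus F 4 y := by
    intro y
    rw [hG2, N_omul, N_omul, N_oconj, hn_def]; ring
  obtain ⟨k₁, hk₁⟩ := h4_conjIso G1 G1i n hn a1 a2 n1 h₁
  obtain ⟨k₂, hk₂⟩ := h4_conjIso G2 G2i n hn b1 b2 n2 h₂
  refine ⟨k₁, k₂, ?_, fun x => hk₁ x⟩
  -- the key identity: `G1 x · G2 y = s • (n • (x y))`
  have key : ∀ x y : OV F, omul (G1 x) (G2 y) = s • (n • omul x y) := by
    intro x y
    rw [h4_smul_comm, hM1 a b ha hb x y, smul_smul, mul_inv_cancel₀ hn, one_smul, hG1, hG2]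
  intro x y
  have ex : x = G1 (G1i x) := (a1 x).symm
  have ey : y = G2 (G2i y) := (b1 y).symm
  rw [ex, ey, hk₁, hk₂, key, key, mul_smul, mul_smul, inv_smul_smul, h4_smul_comm, h]

end Cfsg.Agent.Helper4.Tri2
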