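import Mathlib
import Cfsg.Agent.Lib.Helper43.Tri.Rel

/-!
# TRI (NOTQB): a scalar multiple of `L_{1+u₀}` lies in no point radical modulo the centre
(helper43 server, S0817)
-/

set_option autoImplicit false

namespace Cfsg.Agent.Helper4.Tri

open Matrix QuadraticMap Cfsg.Agent.Helper13 Cfsg.Agent.Helper43 Cfsg.Agent.Helper5.OAut Module
open Cfsg.Agent.Helper43.Tri

variable {F : Type*} [Field F]

local infixr:73 " ⋆ " => Cfsg.Agent.Helper5.OAut.act _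

/-- test vectors -/
def h4x1 : OV F := Sum.elim ![0, 0, 0, 0] ![1, 0, 0, 0]
def h4x2 : OV F := Sum.elim ![0, 0, 0, 1] ![0, 0, 0, 0]
def h4x3 : OV F := Sum.elim ![0, 0, 1, 0] ![0, 0, 0, 0]

/-- the image of `L_{u₀}` is not contained in a 2-dimensional space -/
theorem h4_rank_contra (u' w' : OV F)
    (key : ∀ x : OV F, ∃ a b : F, omul u₀ x = a • w' + b • u') : False := by
  obtain ⟨a₁, b₁, h1⟩ := key h4x1
  obtain ⟨a₂, b₂, h2⟩ := key h4x2
  obtain ⟨a₃, b₃, h3⟩ := key h4x3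
  have E11 : a₁ * w' (Sum.inl 1) + b₁ * u' (Sum.inl 1) = 1 := (congrFun h1 (Sum.inl 1)).symm.trans (by
    simp [omul_inl1, h4x1, u₀_inl0, u₀_inl1, u₀_inr2, u₀_inr3])
  have E12 : a₁ * w' (Sum.inr 2) + b₁ * u' (Sum.inr 2) = 0 := (congrFun h1 (Sum.inr 2)).symm.trans (by
    simp [omul_inr2, h4x1, u₀_inl0, u₀_inl1, u₀_inl3, u₀_inr0, u₀_inr2])
  have E13 : a₁ * w' (Sum.inr 3) + b₁ * u' (Sum.inr 3) = 0 := (congrFun h1 (Sum.inr 3)).symm.trans (by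
    simp [omul_inr3, h4x1, u₀_inl0, u₀_inl1, u₀_inl2, u₀_inr0, u₀_inr3])
  have E21 : a₂ * w' (Sum.inl 1) + b₂ * u' (Sum.inl 1) = 0 := (congrFun h2 (Sum.inl 1)).symm.trans (by
    simp [omul_inl1, h4x2, u₀_inl0, u₀_inl1, u₀_inr2, u₀_inr3])
  have E22 : a₂ * w' (Sum.inr 2) + b₂ * u' (Sum.inr 2) = 1 := (congrFun h2 (Sum.inr 2)).symm.trans (by
    simp [omul_inr2, h4x2, u₀_inl0, u₀_inl1, u₀_inl3, u₀_inr0, u₀_inr2])
  have E23 : a₂ * w' (Sum.inr 3) + b₂ * u' (Sum.inr 3) = 0 := (congrFun h2 (Sum.inr 3)).symm.trans (by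
    simp [omul_inr3, h4x2, u₀_inl0, u₀_inl1, u₀_inl2, u₀_inr0, u₀_inr3])
  have E33 : a₃ * w' (Sum.inr 3) + b₃ * u' (Sum.inr 3) = -1 := (congrFun h3 (Sum.inr 3)).symm.trans (by
    simp [omul_inr3, h4x3, u₀_inl0, u₀_inl1, u₀_inl2, u₀_inr0, u₀_inr3])
  have hn3 : a₁ * b₂ - a₂ * b₁ = 0 := by
    linear_combination (a₂ * b₃ - a₃ * b₂) * E13 + (a₃ * b₁ - a₁ * b₃) * E23
      + (a₁ * b₂ - a₂ * b₁) * E33
  have hm : (a₁ * b₂ - a₂ * b₁) * (w' (Sum.inl 1) * u' (Sum.inr 2) - w' (Sum.inr 2) * u' (Sum.inl 1))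
      = 1 := by
    linear_combination (a₂ * w' (Sum.inr 2) + b₂ * u' (Sum.inr 2)) * E11 + E22
      - (a₂ * w' (Sum.inl 1) + b₂ * u' (Sum.inl 1)) * E12
  rw [hn3, zero_mul] at hm
  exact zero_ne_one hm

/-- (NOTQB) a scalar multiple of `L_{1+u₀}` does not lie in any point radical modulo the centre. -/
theorem special_not_mem_Qb (C : Ctx (stdPlus F 4)) (g₁ : ↥(Cfsg.Omega F ⇑(stdPlus F 4))) (c : F)
    (hg₁ : ∀ x : OV F, (g₁ : O8 F) • x = c • (x + omul u₀ x))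
    (u' : OV F) (hu'0 : u' ≠ 0) (hu' : stdPlus F 4 u' = 0) :
    prj (stdPlus F 4) g₁ ∉ Qb (stdPlus F 4) u' := by
  intro hmem
  rw [mem_Qb] at hmem
  obtain ⟨g, hg, hprj⟩ := hmem
  rw [mem_Qrad C hu'] at hg
  obtain ⟨w', hw', rfl⟩ := hg
  rw [prj_eq_iff] at hprj
  obtain ⟨d, hd⟩ := C.hcen _ hprj
  have hg₁' : ∀ x : OV F, g₁ ⋆ x = c • (x + omul u₀ x) := hg₁
  have hd' : ∀ x : OV F, g₁ ⋆ x = d • (E (stdPlus F 4) u' w' ⋆ x) := by
    intro x
    have h1 : ((E (stdPlus F 4) u' w')⁻¹ * g₁) ⋆ x = d • x := hd x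
    rw [act_mul, act_inv_eq_iff, act_smul] at h1
    exact h1
  have huu : ∀ x : OV F, omul u₀ (omul u₀ x) = 0 := by
    intro x
    rw [alt_left, omul_u₀_u₀, omul_zero_left]
  have hc0 : c ≠ 0 := by
    intro hc0
    have h1 := hg₁' u'
    rw [hc0, zero_smul, act_eq_zero] at h1
    exact hu'0 h1
  have h1 : c • (u' + omul u₀ u') = d • u' := by
    rw [← hg₁', hd', E_fix_left C hu' hw']
  have h2 : c • omul u₀ u' = (d - c) • u' := by
    rw [sub_smul, ← h1, smul_add]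
    abel
  have h3 : (d - c) • omul u₀ u' = 0 := by
    have := congrArg (omul u₀) h2
    rw [omul_smul_right, omul_smul_right, huu, smul_zero] at this
    exact this.symm
  have h4 : ((d - c) * (d - c)) • u' = 0 := by
    rw [mul_smul, ← h2, smul_comm, h3, smul_zero]
  have hdc : d = c := by
    rcases smul_eq_zero.mp h4 with h | h
    · exact sub_eq_zero.mp (mul_self_eq_zero.mp h)
    · exact absurd h hu'0
  refine h4_rank_contra u' w' (fun x => ?_)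
  have h5 : c • (x + omul u₀ x) = c • (E (stdPlus F 4) u' w' ⋆ x) := by
    rw [← hg₁' x, hd' x, hdc]
  have h6 : x + omul u₀ x = E (stdPlus F 4) u' w' ⋆ x := smul_right_injective _ hc0 h5
  rw [E_act C hu' hw'] at h6
  refine ⟨polar (⇑(stdPlus F 4)) u' x,
    -(polar (⇑(stdPlus F 4)) w' x) - stdPlus F 4 w' * polar (⇑(stdPlus F 4)) u' x, ?_⟩
  have h7 : omul u₀ x = (x + omul u₀ x) - x := by abel
  rw [h7, h6]
  module

end Cfsg.Agent.Helper4.Tri
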