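import Mathlib
import Cfsg.Agent.Lib.Helper43.Tri.Defs

/-!
# TRI (NUC): the middle nucleus of the split octonions is `F·1` (helper43 server, S0817)
-/

set_option autoImplicit false

namespace Cfsg.Agent.Helper4.Tri

open Matrix QuadraticMap Cfsg.Agent.Helper13 Cfsg.Agent.Helper43 Cfsg.Agent.Helper5.OAut Module
open Cfsg.Agent.Helper43.Tri

variable {F : Type*} [Field F]

/-- (NUC) the middle nucleus of the split octonions is `F·1`. -/
theorem nucleus (c : OV F) (h : ∀ x y : OV F, omul (omul x c) y = omul x (omul c y)) :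
    ∃ l : F, c = l • oone := by
  have e1 := congrFun (h (Pi.single (Sum.inl 0) 1) (Pi.single (Sum.inr 3) 1)) (Sum.inl 1)
  have e2 := congrFun (h (Pi.single (Sum.inl 0) 1) (Pi.single (Sum.inr 2) 1)) (Sum.inl 1)
  have e3 := congrFun (h (Pi.single (Sum.inl 0) 1) (Pi.single (Sum.inr 3) 1)) (Sum.inl 2)
  have e4 := congrFun (h (Pi.single (Sum.inl 0) 1) (Pi.single (Sum.inl 3) 1)) (Sum.inr 1)
  have e5 := congrFun (h (Pi.single (Sum.inl 0) 1) (Pi.single (Sum.inl 2) 1)) (Sum.inr 1)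
  have e6 := congrFun (h (Pi.single (Sum.inl 0) 1) (Pi.single (Sum.inl 3) 1)) (Sum.inr 2)
  have e7 := congrFun (h (Pi.single (Sum.inl 1) 1) (Pi.single (Sum.inl 2) 1)) (Sum.inr 3)
  simp [omul_inl0, omul_inl1, omul_inl2, omul_inl3, omul_inr0, omul_inr1, omul_inr2,
    omul_inr3] at e1 e2 e3 e4 e5 e6 e7
  refine ⟨c (Sum.inl 0), ?_⟩
  apply ov_ext <;>
    simp [oone_inl0, oone_inl1, oone_inl2, oone_inl3, oone_inr0, oone_inr1, oone_inr2, oone_inr3,
      e1, ← e2, ← e3, e4, e5, e6, e7]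

end Cfsg.Agent.Helper4.Tri
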