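import Mathlib
import Cfsg.Agent.Lib.Helper43.Tri.Rel

/-!
# TRI (SPEC): the explicit related triple `(B_{1+u₀}, L_{1+u₀}, R_{1+u₀})` (helper43 server, S0817)
-/

set_option autoImplicit false

namespace Cfsg.Agent.Helper4.Tri

open Matrix QuadraticMap Cfsg.Agent.Helper13 Cfsg.Agent.Helper43 Cfsg.Agent.Helper5.OAut Module
open Cfsg.Agent.Helper43.Tri

variable {F : Type*} [Field F]

theorem h4_u₀_u₀_omul (x : OV F) : omul u₀ (omul u₀ x) = 0 := by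
  rw [alt_left, omul_u₀_u₀, omul_zero_left]

theorem h4_omul_u₀_u₀ (x : OV F) : omul (omul x u₀) u₀ = 0 := by
  rw [alt_right, omul_u₀_u₀, omul_zero_right]

theorem h4_N_add_u₀_omul (x : OV F) : stdPlus F 4 (x + omul u₀ x) = stdPlus F 4 x := by
  simp only [N_eq, omul_inl0, omul_inl1, omul_inl2, omul_inl3, omul_inr0, omul_inr1, omul_inr2,
    omul_inr3, u₀_inl0, u₀_inl1, u₀_inl2, u₀_inl3, u₀_inr0, u₀_inr1, u₀_inr2, u₀_inr3,
    Pi.add_apply]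
  ring

theorem h4_N_add_omul_u₀ (x : OV F) : stdPlus F 4 (x + omul x u₀) = stdPlus F 4 x := by
  simp only [N_eq, omul_inl0, omul_inl1, omul_inl2, omul_inl3, omul_inr0, omul_inr1, omul_inr2,
    omul_inr3, u₀_inl0, u₀_inl1, u₀_inl2, u₀_inl3, u₀_inr0, u₀_inr1, u₀_inr2, u₀_inr3,
    Pi.add_apply]
  ring

/-- (SPEC) the explicit triple `(B_{1+u₀}, L_{1+u₀}, R_{1+u₀})`. -/
theorem rel_special (C : Ctx (stdPlus F 4)) :
    ∃ g₁ g₂ : O8 F, Rel ((E (stdPlus F 4) u₀ (-oone) : ↥(Cfsg.Omega F ⇑(stdPlus F 4))) : O8 F) g₁ g₂ ∧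
      ∀ x : OV F, g₁ • x = x + omul u₀ x := by
  have hpol : polar (⇑(stdPlus F 4)) (u₀ : OV F) (-oone) = 0 := by
    rw [polar_neg_right, polar_u₀_oone, neg_zero]
  have h11 : (LinearMap.id + Lm (u₀ : OV F)) ∘ₗ (LinearMap.id - Lm (u₀ : OV F)) = LinearMap.id := by
    refine LinearMap.ext fun x => ?_
    show (x - omul u₀ x) + omul u₀ (x - omul u₀ x) = x
    rw [omul_sub_right, h4_u₀_u₀_omul]
    abel
  have h12 : (LinearMap.id - Lm (u₀ : OV F)) ∘ₗ (LinearMap.id + Lm (u₀ : OV F)) = LinearMap.id := by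
    refine LinearMap.ext fun x => ?_
    show (x + omul u₀ x) - omul u₀ (x + omul u₀ x) = x
    rw [omul_add_right, h4_u₀_u₀_omul]
    abel
  have h21 : (LinearMap.id + Rm (u₀ : OV F)) ∘ₗ (LinearMap.id - Rm (u₀ : OV F)) = LinearMap.id := by
    refine LinearMap.ext fun x => ?_
    show (x - omul x u₀) + omul (x - omul x u₀) u₀ = x
    rw [omul_sub_left, h4_omul_u₀_u₀]
    abel
  have h22 : (LinearMap.id - Rm (u₀ : OV F)) ∘ₗ (LinearMap.id + Rm (u₀ : OV F)) = LinearMap.id := by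
    refine LinearMap.ext fun x => ?_
    show (x + omul x u₀) - omul (x + omul x u₀) u₀ = x
    rw [omul_add_left, h4_omul_u₀_u₀]
    abel
  have hN1 : ∀ x : OV F, stdPlus F 4 ((LinearMap.id + Lm (u₀ : OV F) : OV F →ₗ[F] OV F) x) = stdPlus F 4 x :=
    fun x => h4_N_add_u₀_omul x
  have hN2 : ∀ x : OV F, stdPlus F 4 ((LinearMap.id + Rm (u₀ : OV F) : OV F →ₗ[F] OV F) x) = stdPlus F 4 x :=
    fun x => h4_N_add_omul_u₀ x
  obtain ⟨g₁, hg₁⟩ : ∃ g₁ : O8 F, ∀ x : OV F, g₁ • x = x + omul u₀ x :=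
    ⟨mkIso (stdPlus F 4) _ _ h11 h12 hN1, fun x => (mkIso_smul (stdPlus F 4) _ _ h11 h12 hN1 x).trans rfl⟩
  obtain ⟨g₂, hg₂⟩ : ∃ g₂ : O8 F, ∀ x : OV F, g₂ • x = x + omul x u₀ :=
    ⟨mkIso (stdPlus F 4) _ _ h21 h22 hN2, fun x => (mkIso_smul (stdPlus F 4) _ _ h21 h22 hN2 x).trans rfl⟩
  refine ⟨g₁, g₂, ?_, hg₁⟩
  intro x y
  rw [hg₁, hg₂]
  show act _ (E (stdPlus F 4) u₀ (-oone)) (omul x y) = omul (x + omul u₀ x) (y + omul y u₀)
  rw [E_act C N_u₀ hpol]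
  apply ov_ext <;>
  simp only [N_eq, polar_eq, omul_inl0, omul_inl1, omul_inl2, omul_inl3, omul_inr0, omul_inr1,
    omul_inr2, omul_inr3, u₀_inl0, u₀_inl1, u₀_inl2, u₀_inl3, u₀_inr0, u₀_inr1, u₀_inr2, u₀_inr3,
    oone_inl0, oone_inl1, oone_inl2, oone_inl3, oone_inr0, oone_inr1, oone_inr2, oone_inr3,
    Pi.add_apply, Pi.sub_apply, Pi.smul_apply, Pi.neg_apply, smul_eq_mul] <;> ring

end Cfsg.Agent.Helper4.Tri
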