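import Mathlib
import Cfsg.Agent.Lib.Helper43.Tri.Rel

/-!
# TRI (TAU): the triality homomorphism of `PΩ⁺₈(F)` (helper43 server, S0817)
-/

set_option autoImplicit false

namespace Cfsg.Agent.Helper4.Tri

open Matrix QuadraticMap Cfsg.Agent.Helper13 Cfsg.Agent.Helper43 Cfsg.Agent.Helper5.OAut Module
open Cfsg.Agent.Helper43.Tri

variable {F : Type*} [Field F]

local infixr:73 " ⋆ " => Cfsg.Agent.Helper5.OAut.act _

/-- two elements of `Ω` that differ by a scalar have the same image in `PΩ` -/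
theorem h4_prj_eq_of_scalar {a b : ↥(Cfsg.Omega F ⇑(stdPlus F 4))} (c : F)
    (h : ∀ x : OV F, (b : O8 F) • x = c • ((a : O8 F) • x)) :
    prj (stdPlus F 4) a = prj (stdPlus F 4) b := by
  rw [prj_eq_iff, Subgroup.mem_center_iff]
  have hz : ∀ x : OV F, (a⁻¹ * b) ⋆ x = c • x := by
    intro x
    rw [act_mul, act_inv_eq_iff, act_smul]
    exact h x
  intro g
  apply Om_ext
  intro x
  rw [act_mul g (a⁻¹ * b) x, act_mul (a⁻¹ * b) g x, hz, hz, act_smul]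

/-- (TAU) the triality homomorphism. -/
theorem exists_tau (C : Ctx (stdPlus F 4))
    (hex : ∀ g₀ ∈ Cfsg.Omega F ⇑(stdPlus F 4), ∃ g₁ ∈ Cfsg.Omega F ⇑(stdPlus F 4),
      ∃ g₂ : O8 F, Rel g₀ g₁ g₂)
    (huniq : ∀ {g₀ g₁ g₂ g₁' g₂' : O8 F}, Rel g₀ g₁ g₂ → Rel g₀ g₁' g₂' →
      ∃ c : F, ∀ x : OV F, g₁' • x = c • (g₁ • x)) :
    ∃ τ : Cfsg.POmega F ⇑(stdPlus F 4) →* Cfsg.POmega F ⇑(stdPlus F 4),
      ∀ (g₀ g₁ : ↥(Cfsg.Omega F ⇑(stdPlus F 4))) (g₂ : O8 F),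
        Rel (g₀ : O8 F) (g₁ : O8 F) g₂ → τ (prj (stdPlus F 4) g₀) = prj (stdPlus F 4) g₁ := by
  classical
  -- a choice of second component in `Ω`
  have hex' : ∀ g₀ : ↥(Cfsg.Omega F ⇑(stdPlus F 4)),
      ∃ g₁ : ↥(Cfsg.Omega F ⇑(stdPlus F 4)), ∃ g₂ : O8 F, Rel (g₀ : O8 F) (g₁ : O8 F) g₂ := by
    intro g₀
    obtain ⟨g₁, hg₁, g₂, h⟩ := hex g₀ g₀.2
    exact ⟨⟨g₁, hg₁⟩, g₂, h⟩
  choose s hs using hex'
  -- independence of choices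
  have key : ∀ (g₀ g₁ : ↥(Cfsg.Omega F ⇑(stdPlus F 4))) (g₂ : O8 F),
      Rel (g₀ : O8 F) (g₁ : O8 F) g₂ → prj (stdPlus F 4) (s g₀) = prj (stdPlus F 4) g₁ := by
    intro g₀ g₁ g₂ h
    obtain ⟨g₂', h'⟩ := hs g₀
    obtain ⟨c, hc⟩ := huniq h' h
    exact h4_prj_eq_of_scalar c hc
  -- the homomorphism on `Ω`
  let τ₀ : ↥(Cfsg.Omega F ⇑(stdPlus F 4)) →* Cfsg.POmega F ⇑(stdPlus F 4) :=
    MonoidHom.mk' (fun g₀ => prj (stdPlus F 4) (s g₀)) (by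
      intro a b
      obtain ⟨a₂, ha⟩ := hs a
      obtain ⟨b₂, hb⟩ := hs b
      have hab : Rel ((a * b : ↥(Cfsg.Omega F ⇑(stdPlus F 4))) : O8 F)
          ((s a * s b : ↥(Cfsg.Omega F ⇑(stdPlus F 4))) : O8 F) (a₂ * b₂) := ha.mul hb
      rw [key (a * b) (s a * s b) (a₂ * b₂) hab, map_mul])
  have hτ₀ : ∀ g₀, τ₀ g₀ = prj (stdPlus F 4) (s g₀) := fun _ => rfl
  -- it kills the centre
  have hker : Subgroup.center ↥(Cfsg.Omega F ⇑(stdPlus F 4)) ≤ τ₀.ker := by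
    intro z hz
    rw [MonoidHom.mem_ker, hτ₀]
    obtain ⟨c₀, hc₀⟩ := C.hcen z hz
    have hrel : Rel (z : O8 F) ((1 : ↥(Cfsg.Omega F ⇑(stdPlus F 4))) : O8 F) (z : O8 F) := by
      intro x y
      have h1 : (z : O8 F) • omul x y = c₀ • omul x y := hc₀ (omul x y)
      have h2 : (z : O8 F) • y = c₀ • y := hc₀ y
      rw [h1, h2, Subgroup.coe_one, one_smul, omul_smul_right]
    rw [key z 1 (z : O8 F) hrel, map_one]
  refine ⟨QuotientGroup.lift (Subgroup.center ↥(Cfsg.Omega F ⇑(stdPlus F 4))) τ₀ hker, ?_⟩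
  intro g₀ g₁ g₂ h
  have : QuotientGroup.lift (Subgroup.center ↥(Cfsg.Omega F ⇑(stdPlus F 4))) τ₀ hker
      (prj (stdPlus F 4) g₀) = τ₀ g₀ := rfl
  rw [this, hτ₀]
  exact key g₀ g₁ g₂ h

end Cfsg.Agent.Helper4.Tri
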