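import Mathlib

/-!
# U6 (CORE): the graph-subgroup argument (helper92 server, S1684)

`H` acts on an `S`-conjugation-closed family `τ : Fin n → S` compatibly on generators; then
`H / Z(H) ≃* S / Z(S)` by cardinality.
-/

set_option autoImplicit false

namespace Cfsg.Agent.Helper4.U6

/-- the closure of a conjugation-invariant set is normal -/
theorem h4_normal_closure_of_conj {S : Type*} [Group S] (X : Set S)
    (hX : ∀ s : S, ∀ x ∈ X, s * x * s⁻¹ ∈ X) : (Subgroup.closure X).Normal := by
  refine ⟨fun n hn s => ?_⟩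
  induction hn using Subgroup.closure_induction with
  | mem x hx => exact Subgroup.subset_closure (hX s x hx)
  | one => simp
  | mul x y _ _ hx hy =>
    have : s * (x * y) * s⁻¹ = (s * x * s⁻¹) * (s * y * s⁻¹) := by group
    rw [this]; exact mul_mem hx hy
  | inv x _ hx =>
    have : s * x⁻¹ * s⁻¹ = (s * x * s⁻¹)⁻¹ := by group
    rw [this]; exact inv_mem hx

theorem core {H S : Type*} [Group H] [Group S] [Finite H] [Finite S]
    (hP : IsSimpleGroup (S ⧸ Subgroup.center S))
    (hnp : ¬ (Nat.card (S ⧸ Subgroup.center S)).Prime)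
    (hcard : Nat.card H = 2 * Nat.card (S ⧸ Subgroup.center S))
    (a : H) (ha : a ∈ Subgroup.center H) (ha1 : a ≠ 1)
    {n : ℕ} (τ : Fin n → S) (hτ : Function.Injective τ)
    (ρ : H →* Equiv.Perm (Fin n)) (hρa : ρ a = 1)
    (Γ : Set H) (hΓ : Subgroup.closure Γ = ⊤)
    (heq : ∀ γ ∈ Γ, ∃ m : S, ∀ i, τ (ρ γ i) = m * τ i * m⁻¹)
    (htrans : ∀ i j, ∃ h : H, ρ h i = j)
    (i0 : Fin n) (γ0 : H) (h0 : ∀ i, τ (ρ γ0 i) = τ i0 * τ i * (τ i0)⁻¹)
    (hclosed : ∀ (s : S) (i : Fin n), ∃ j, s * τ i * s⁻¹ = τ j)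
    (hnc : ∃ j, τ i0 * τ j ≠ τ j * τ i0) :
    Nat.card (Subgroup.center H) = 2 ∧
      Nonempty (H ⧸ Subgroup.center H ≃* S ⧸ Subgroup.center S) := by
  classical
  set Z : Subgroup S := Subgroup.center S with hZdef
  -- the graph subgroup
  let T : Subgroup (H × S) :=
    { carrier := {p | ∀ i, τ (ρ p.1 i) = p.2 * τ i * p.2⁻¹}
      one_mem' := by
        intro i
        simp
      mul_mem' := by
        intro p q hp hq i
        show τ (ρ (p.1 * q.1) i) = (p.2 * q.2) * τ i * (p.2 * q.2)⁻¹
        rw [map_mul, Equiv.Perm.mul_apply, hp, hq]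
        group
      inv_mem' := by
        intro p hp i
        show τ (ρ p.1⁻¹ i) = p.2⁻¹ * τ i * p.2⁻¹⁻¹
        have := hp (ρ p.1⁻¹ i)
        rw [← Equiv.Perm.mul_apply, ← map_mul, mul_inv_cancel, map_one,
          Equiv.Perm.one_apply] at this
        rw [this]
        group }
  -- (1) first projection onto
  have h1 : ∀ h : H, ∃ s : S, (h, s) ∈ T := by
    have hle : (⊤ : Subgroup H) ≤ T.map (MonoidHom.fst H S) := by
      rw [← hΓ, Subgroup.closure_le]
      intro γ hγ
      obtain ⟨m, hm⟩ := heq γ hγ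
      exact ⟨(γ, m), hm, rfl⟩
    intro h
    obtain ⟨p, hp, hph⟩ := hle (Subgroup.mem_top h)
    refine ⟨p.2, ?_⟩
    have : p = (h, p.2) := by rw [← hph]; rfl
    rw [← this]; exact hp
  -- (2) every `τ j` is a second component
  have h2 : ∀ j, ∃ h : H, (h, τ j) ∈ T := by
    intro j
    obtain ⟨h, hh⟩ := htrans i0 j
    obtain ⟨s, hs⟩ := h1 h
    have hγ0 : (γ0, τ i0) ∈ T := h0
    have hconj : (h, s) * (γ0, τ i0) * (h, s)⁻¹ ∈ T := mul_mem (mul_mem hs hγ0) (inv_mem hs)
    refine ⟨h * γ0 * h⁻¹, ?_⟩
    have e : s * τ i0 * s⁻¹ = τ j := by rw [← hh]; exact (hs i0).symm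
    have : (h, s) * (γ0, τ i0) * (h, s)⁻¹ = (h * γ0 * h⁻¹, τ j) := by
      rw [← e]; rfl
    rw [← this]; exact hconj
  -- central elements
  have hZT : ∀ z ∈ Z, ((1 : H), z) ∈ T := by
    intro z hz i
    show τ (ρ 1 i) = z * τ i * z⁻¹
    rw [map_one, Equiv.Perm.one_apply]
    have := Subgroup.mem_center_iff.mp hz (τ i)
    rw [← this]
    group
  -- the normal subgroup generated by the `τ i`
  set N : Subgroup S := Subgroup.closure (Set.range τ) with hN
  have hNn : N.Normal := h4_normal_closure_of_conj _ (by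
    rintro s _ ⟨i, rfl⟩
    obtain ⟨j, hj⟩ := hclosed s i
    exact ⟨j, hj.symm⟩)
  have hNZ : N ⊔ Z = ⊤ := by
    have hmapn : (N.map (QuotientGroup.mk' Z)).Normal :=
      Subgroup.Normal.map hNn _ (QuotientGroup.mk'_surjective Z)
    rcases hP.eq_bot_or_eq_top_of_normal _ hmapn with hb | ht
    · exfalso
      obtain ⟨j, hj⟩ := hnc
      apply hj
      have hi0 : τ i0 ∈ Z := by
        have hm : QuotientGroup.mk' Z (τ i0) ∈ N.map (QuotientGroup.mk' Z) :=
          Subgroup.mem_map_of_mem _ (Subgroup.subset_closure ⟨i0, rfl⟩)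
        rw [hb, Subgroup.mem_bot] at hm
        exact (QuotientGroup.eq_one_iff _).mp hm
      exact (Subgroup.mem_center_iff.mp hi0 (τ j)).symm
    · have := Subgroup.comap_map_eq (QuotientGroup.mk' Z) N
      rw [ht, Subgroup.comap_top, QuotientGroup.ker_mk'] at this
      exact this.symm
  -- (3) second projection onto
  have h3 : ∀ s : S, ∃ h : H, (h, s) ∈ T := by
    have hle : (⊤ : Subgroup S) ≤ T.map (MonoidHom.snd H S) := by
      rw [← hNZ, sup_le_iff]
      constructor
      · rw [hN, Subgroup.closure_le]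
        rintro _ ⟨j, rfl⟩
        obtain ⟨h, hh⟩ := h2 j
        exact ⟨(h, τ j), hh, rfl⟩
      · intro z hz
        exact ⟨(1, z), hZT z hz, rfl⟩
    intro s
    obtain ⟨p, hp, hps⟩ := hle (Subgroup.mem_top s)
    refine ⟨p.1, ?_⟩
    have : p = (p.1, s) := by rw [← hps]; rfl
    rw [← this]; exact hp
  -- (4) the kernel of the first projection is central
  have h4 : ∀ s : S, ((1 : H), s) ∈ T → s ∈ Z := by
    intro s hs
    have hcomm : ∀ i, s * τ i = τ i * s := by
      intro i
      have := hs i
      simp only [map_one, Equiv.Perm.one_apply] at this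
      calc s * τ i = (s * τ i * s⁻¹) * s := by group
        _ = τ i * s := by rw [← this]
    have hle : (⊤ : Subgroup S) ≤ Subgroup.centralizer ({s} : Set S) := by
      rw [← hNZ, sup_le_iff]
      constructor
      · rw [hN, Subgroup.closure_le]
        rintro _ ⟨i, rfl⟩
        rw [SetLike.mem_coe, Subgroup.mem_centralizer_iff]
        intro x hx
        rw [Set.mem_singleton_iff] at hx
        subst hx
        exact hcomm i
      · intro z hz
        rw [Subgroup.mem_centralizer_iff]
        intro x hx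
        rw [Set.mem_singleton_iff] at hx
        subst hx
        exact Subgroup.mem_center_iff.mp hz x
    rw [Subgroup.mem_center_iff]
    intro g
    have := hle (Subgroup.mem_top g)
    rw [Subgroup.mem_centralizer_iff] at this
    exact (this s rfl).symm
  -- (5) the homomorphism
  choose sOf hsOf using h1
  have huniq : ∀ h s s', (h, s) ∈ T → (h, s') ∈ T →
      QuotientGroup.mk' Z s = QuotientGroup.mk' Z s' := by
    intro h s s' hs hs'
    have hmem : (h, s)⁻¹ * (h, s') ∈ T := mul_mem (inv_mem hs) hs'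
    have e : (h, s)⁻¹ * (h, s') = ((1 : H), s⁻¹ * s') := by
      ext
      · simp
      · simp
    rw [e] at hmem
    exact QuotientGroup.eq.mpr (h4 _ hmem)
  let θ : H →* S ⧸ Z := MonoidHom.mk' (fun h => QuotientGroup.mk' Z (sOf h)) (by
    intro x y
    rw [← map_mul]
    exact huniq (x * y) _ _ (hsOf (x * y)) (mul_mem (hsOf x) (hsOf y)))
  have hθ : ∀ h s, (h, s) ∈ T → θ h = QuotientGroup.mk' Z s :=
    fun h s hs => huniq h _ _ (hsOf h) hs
  have hsurj : Function.Surjective θ := by
    intro q
    obtain ⟨s, rfl⟩ := QuotientGroup.mk'_surjective Z q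
    obtain ⟨h, hh⟩ := h3 s
    exact ⟨h, hθ h s hh⟩
  have hker : ∀ h, h ∈ θ.ker ↔ ρ h = 1 := by
    intro h
    rw [MonoidHom.mem_ker]
    constructor
    · intro hh
      have hz : sOf h ∈ Z := by
        have : QuotientGroup.mk' Z (sOf h) = 1 := hh
        exact (QuotientGroup.eq_one_iff _).mp this
      have hT1 : (h, sOf h) * ((1 : H), (sOf h)⁻¹) ∈ T :=
        mul_mem (hsOf h) (hZT _ (inv_mem hz))
      have e : (h, sOf h) * ((1 : H), (sOf h)⁻¹) = (h, 1) := by
        ext
        · simp
        · simp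
      rw [e] at hT1
      apply Equiv.ext
      intro i
      apply hτ
      have := hT1 i
      simpa using this
    · intro hh
      have : (h, (1 : S)) ∈ T := by
        intro i
        show τ (ρ h i) = 1 * τ i * 1⁻¹
        rw [hh]
        simp
      rw [hθ h 1 this, map_one]
  -- (6) counting
  have hpos : 0 < Nat.card (S ⧸ Z) := Nat.card_pos
  have hcardker : Nat.card θ.ker = 2 := by
    have e1 := Subgroup.card_mul_index θ.ker
    have e2 : θ.ker.index = Nat.card (S ⧸ Z) := by
      rw [Subgroup.index_ker, MonoidHom.range_eq_top.mpr hsurj, Subgroup.card_top]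
    rw [e2, hcard] at e1
    exact Nat.eq_of_mul_eq_mul_right hpos e1
  have haker : a ∈ θ.ker := (hker a).mpr hρa
  have hkerset : ∀ x ∈ θ.ker, x = 1 ∨ x = a := by
    intro x hx
    by_contra hcon
    push Not at hcon
    have hsub : ({1, a, x} : Set H) ⊆ (θ.ker : Set H) := by
      intro y hy
      rcases hy with rfl | rfl | rfl
      · exact one_mem _
      · exact haker
      · exact hx
    have hthree : ({1, a, x} : Set H).ncard = 3 := by
      rw [Set.ncard_eq_three]
      exact ⟨1, a, x, ha1.symm, fun h => hcon.1 h.symm, fun h => hcon.2 h.symm, rfl⟩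
    have hle := Set.ncard_le_ncard hsub (Set.toFinite _)
    have htwo : (θ.ker : Set H).ncard = 2 := by
      rw [← Nat.card_coe_set_eq]
      exact hcardker
    omega
  have hcenP : Subgroup.center (S ⧸ Z) = ⊥ := by
    rcases hP.eq_bot_or_eq_top_of_normal (Subgroup.center (S ⧸ Z)) inferInstance with hb | ht
    · exact hb
    · exfalso
      apply hnp
      let this : CommGroup (S ⧸ Z) :=
        { (inferInstance : Group (S ⧸ Z)) with
          mul_comm := fun x y => by
            have hx : x ∈ Subgroup.center (S ⧸ Z) := by rw [ht]; exact Subgroup.mem_top x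
            exact (Subgroup.mem_center_iff.mp hx y).symm }
      exact @IsSimpleGroup.prime_card (S ⧸ Z) this hP
  have hcen : Subgroup.center H = θ.ker := by
    apply le_antisymm
    · intro x hx
      rw [MonoidHom.mem_ker]
      have : θ x ∈ Subgroup.center (S ⧸ Z) := by
        rw [Subgroup.mem_center_iff]
        intro q
        obtain ⟨y, rfl⟩ := hsurj q
        rw [← map_mul, ← map_mul, Subgroup.mem_center_iff.mp hx y]
      rw [hcenP, Subgroup.mem_bot] at this
      exact this
    · intro x hx
      rcases hkerset x hx with rfl | rfl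
      · exact one_mem _
      · exact ha
  refine ⟨by rw [hcen]; exact hcardker, ⟨?_⟩⟩
  exact (QuotientGroup.quotientMulEquivOfEq hcen).trans
    (QuotientGroup.quotientKerEquivOfSurjective θ hsurj)

end Cfsg.Agent.Helper4.U6
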