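import Mathlib

/-!
# U6 (NS): a perfect group with centre of order 2 does not split over its centre
(helper92 server, S1684)
-/

set_option autoImplicit false

namespace Cfsg.Agent.Helper4.U6

open scoped commutatorElement

theorem nonsplit_of_perfect {H : Type*} [Group H] [Finite H]
    (hZ : Nat.card (Subgroup.center H) = 2) (hperf : commutator H = ⊤) :
    ∀ L : Subgroup H, ¬ (Subgroup.center H).IsComplement' L := by
  intro L hL
  -- `L` is normal: every element is `z * l`
  have hLn : L.Normal := by
    refine ⟨fun n hn g => ?_⟩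
    obtain ⟨⟨⟨z, hz⟩, ⟨l, hl⟩⟩, hzl⟩ := (hL.existsUnique g).exists
    have hg : g = z * l := hzl.symm
    have hzc : ∀ x : H, x * z = z * x := Subgroup.mem_center_iff.mp hz
    have : g * n * g⁻¹ = l * n * l⁻¹ := by
      rw [hg]
      calc z * l * n * (z * l)⁻¹ = z * (l * n * l⁻¹) * z⁻¹ := by group
        _ = (l * n * l⁻¹) * z * z⁻¹ := by rw [← hzc (l * n * l⁻¹)]
        _ = l * n * l⁻¹ := by group
    rw [this]
    exact L.mul_mem (L.mul_mem hl hn) (L.inv_mem hl)
  -- index 2
  have hidx : L.index = 2 := by
    have := hL.index_eq_card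
    rw [this, hZ]
  -- the quotient is abelian, so `commutator H ≤ L`
  have hle : commutator H ≤ L := by
    have := hLn
    have hcard : Nat.card (H ⧸ L) = 2 := hidx
    have hcomm : ∀ x y : H ⧸ L, x * y = y * x := by
      have : Fact (Nat.Prime 2) := ⟨Nat.prime_two⟩
      have hcyc : IsCyclic (H ⧸ L) := isCyclic_of_prime_card hcard
      intro x y
      let cg : CommGroup (H ⧸ L) := IsCyclic.commGroup
      exact mul_comm x y
    rw [commutator_def, Subgroup.commutator_le]
    intro x _ y _
    have : (QuotientGroup.mk' L) ⁅x, y⁆ = 1 := by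
      rw [commutatorElement_def, map_mul, map_mul, map_mul, map_inv, map_inv,
        hcomm (QuotientGroup.mk' L x) (QuotientGroup.mk' L y)]
      group
    exact (QuotientGroup.eq_one_iff _).mp this
  -- but `L ≠ ⊤`
  rw [hperf] at hle
  have hLtop : L = ⊤ := top_le_iff.mp hle
  rw [hLtop, Subgroup.index_top] at hidx
  omega

end Cfsg.Agent.Helper4.U6
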