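import Mathlib
import Cfsg.Agent.Lib.Helper73.W44Defs

/-!
# W44 (C1): orbits of a finite 2-group have 2-power size (helper73 server, S4414)
-/

set_option autoImplicit false

namespace Cfsg.Agent.Helper4.W44

open Cfsg.Agent.Helper73.W44

section comb
variable {G : Type*} [Group G] {X : Type*} [MulAction G X]

/-- **(C1)** orbits of a finite 2-subgroup have 2-power size -/
theorem card_orbit_two_pow (P : Subgroup G) [Finite P] (hP : IsPGroup 2 P) (x : X) :
    ∃ n : ℕ, Nat.card (MulAction.orbit P x) = 2 ^ n := by
  have : Fact (Nat.Prime 2) := ⟨Nat.prime_two⟩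
  have hfin : Finite (MulAction.orbit P x) := by
    have : MulAction.orbit P x = Set.range (fun p : P => p • x) := rfl
    rw [this]
    exact (Set.finite_range _).to_subtype
  exact hP.card_orbit x

end comb

end Cfsg.Agent.Helper4.W44
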