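import Mathlib
import Cfsg.Agent.Lib.Helper73.W44Defs

/-!
# W44 (C2): a counting lemma for `p`-group actions (helper73 server, S4414)
-/

set_option autoImplicit false

namespace Cfsg.Agent.Helper4.W44

open Cfsg.Agent.Helper73.W44

section comb
variable {G : Type*} [Group G] {X : Type*} [MulAction G X]

/-- **(C2)** a group of prime order `q` acting without fixed points on a finite invariant set:
`q` divides the size -/
theorem prime_dvd_card_of_semiregular (Q : Subgroup G) (q : ℕ) (hq : q.Prime)
    (hQ : Nat.card Q = q) (A : Set X) (hA : A.Finite) (hinv : ∀ y ∈ Q, ∀ x ∈ A, y • x ∈ A)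
    (hsemi : ∀ x ∈ A, ∃ y ∈ Q, y • x ≠ x) : q ∣ Nat.card A := by
  have : Fact q.Prime := ⟨hq⟩
  have : Finite ↥A := hA.to_subtype
  have hpg : IsPGroup q Q := IsPGroup.of_card (n := 1) (by rw [hQ, pow_one])
  let act : MulAction ↥Q ↥A :=
    { smul := fun y a => ⟨(y : G) • (a : X), hinv y y.2 a a.2⟩
      one_smul := fun a => Subtype.ext (one_smul G (a : X))
      mul_smul := fun y z a => Subtype.ext (mul_smul (y : G) (z : G) (a : X)) }
  have hmod := hpg.card_modEq_card_fixedPoints (↥A)
  have hempty : IsEmpty (MulAction.fixedPoints ↥Q ↥A) := by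
    constructor
    rintro ⟨a, ha⟩
    obtain ⟨y, hy, hne⟩ := hsemi a a.2
    apply hne
    have := ha ⟨y, hy⟩
    exact congrArg Subtype.val this
  have h0 : Nat.card (MulAction.fixedPoints ↥Q ↥A) = 0 := Nat.card_eq_zero.mpr (Or.inl hempty)
  rw [h0] at hmod
  exact (Nat.modEq_zero_iff_dvd).mp hmod

end comb

end Cfsg.Agent.Helper4.W44
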