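import Mathlib
import Cfsg.Agent.Lib.Helper73.W44Defs

/-!
# W44 (PJ): projections of an internal direct sum (helper73 server, S4414)
-/

set_option autoImplicit false

namespace Cfsg.Agent.Helper4.W44

open Cfsg.Agent.Helper73.W44

section graded
variable {k : Type*} [Field k] {G : Type*} [Group G] {V : Type*} [AddCommGroup V] [Module k V]
variable {X : Type*} [DecidableEq X]

theorem h4_proj_apply (W : X → Submodule k V) (hI : DirectSum.IsInternal W) (x : X) (v : V) :
    proj W hI x v =
      (((LinearEquiv.ofBijective (DirectSum.coeLinearMap W) hI).symm v) x : V) := rfl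

theorem h4_symm_of_mem (W : X → Submodule k V) (hI : DirectSum.IsInternal W) (x : X) (v : V)
    (hv : v ∈ W x) :
    (LinearEquiv.ofBijective (DirectSum.coeLinearMap W) hI).symm v =
      DirectSum.lof k X (fun i => W i) x ⟨v, hv⟩ := by
  rw [LinearEquiv.symm_apply_eq]
  show v = DirectSum.coeLinearMap W (DirectSum.lof k X (fun i => W i) x ⟨v, hv⟩)
  rw [DirectSum.coeLinearMap_lof]

/-- **(PJ1)** -/
theorem proj_of_mem_same (W : X → Submodule k V) (hI : DirectSum.IsInternal W) (x : X) (v : V)
    (hv : v ∈ W x) : proj W hI x v = v := by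
  rw [h4_proj_apply, h4_symm_of_mem W hI x v hv]
  have : (DirectSum.lof k X (fun i => W i) x ⟨v, hv⟩) x = ⟨v, hv⟩ := by
    exact DirectSum.of_eq_same x _
  rw [this]

/-- **(PJ2)** -/
theorem proj_of_mem_ne (W : X → Submodule k V) (hI : DirectSum.IsInternal W) (x y : X) (v : V)
    (hv : v ∈ W x) (hxy : x ≠ y) : proj W hI y v = 0 := by
  rw [h4_proj_apply, h4_symm_of_mem W hI x v hv]
  have : (DirectSum.lof k X (fun i => W i) x ⟨v, hv⟩) y = 0 := by
    exact DirectSum.of_eq_of_ne x y _ hxy.symm
  rw [this]
  rfl

/-- **(PJ3)** -/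
theorem eq_zero_of_forall_proj (W : X → Submodule k V) (hI : DirectSum.IsInternal W) (v : V)
    (hv : ∀ x, proj W hI x v = 0) : v = 0 := by
  have h0 : (LinearEquiv.ofBijective (DirectSum.coeLinearMap W) hI).symm v = 0 := by
    apply DFinsupp.ext
    intro x
    apply Subtype.ext
    have := hv x
    rw [h4_proj_apply] at this
    rw [this]
    rfl
  have := congrArg (LinearEquiv.ofBijective (DirectSum.coeLinearMap W) hI) h0
  rw [LinearEquiv.apply_symm_apply, map_zero] at this
  exact this

/-- **(PJ4)** equivariance -/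
theorem proj_equivariant [MulAction G X] (ρ : G →* Module.End k V) (W : X → Submodule k V)
    (hI : DirectSum.IsInternal W) (hmap : ∀ g x, (W x).map (ρ g) = W (g • x))
    (g : G) (x : X) (v : V) : proj W hI (g • x) (ρ g v) = ρ g (proj W hI x v) := by
  have htop : v ∈ ⨆ y, W y := by
    rw [hI.submodule_iSup_eq_top]
    exact Submodule.mem_top
  induction htop using Submodule.iSup_induction' with
  | mem y w hw =>
    have hgw : ρ g w ∈ W (g • y) := by
      rw [← hmap g y]
      exact Submodule.mem_map_of_mem hw
    by_cases hyx : y = x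
    · subst hyx
      rw [proj_of_mem_same W hI (g • y) _ hgw, proj_of_mem_same W hI y _ hw]
    · have hne : g • y ≠ g • x := fun h => hyx (MulAction.injective g h)
      rw [proj_of_mem_ne W hI (g • y) (g • x) _ hgw hne, proj_of_mem_ne W hI y x _ hw hyx,
        map_zero]
  | zero => simp only [map_zero]
  | add a b _ _ iha ihb => rw [map_add, map_add, map_add, map_add, iha, ihb]

end graded

end Cfsg.Agent.Helper4.W44
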