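import Mathlib
import Cfsg.Agent.Lib.Helper73.W44Defs
import Cfsg.Agent.Lib.Helper4.W44PJ

/-!
# W44 (SP1): supports of vectors in a partial sum (helper73 server, S4414)
-/

set_option autoImplicit false

namespace Cfsg.Agent.Helper4.W44

open Cfsg.Agent.Helper73.W44

section graded
variable {k : Type*} [Field k] {G : Type*} [Group G] {V : Type*} [AddCommGroup V] [Module k V]
variable {X : Type*} [DecidableEq X]

/-- **(SP1)** -/
theorem supp_subset_of_mem_biSup (W : X → Submodule k V) (hI : DirectSum.IsInternal W)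
    (A : Set X) (v : V) (hv : v ∈ ⨆ x ∈ A, W x) : supp W hI v ⊆ A := by
  intro y hy
  by_contra hyA
  apply hy
  have hle : (⨆ x ∈ A, W x) ≤ LinearMap.ker (proj W hI y) := by
    apply iSup₂_le
    intro x hxA w hw
    rw [LinearMap.mem_ker]
    exact proj_of_mem_ne W hI x y w hw (fun h => hyA (h ▸ hxA))
  exact LinearMap.mem_ker.mp (hle hv)

end graded

end Cfsg.Agent.Helper4.W44
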