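import Mathlib
import Cfsg.Agent.Lib.Helper73.W44Defs
import Cfsg.Agent.Lib.Helper23.W44A5
import Cfsg.Agent.Lib.Helper4.W44PJ
import Cfsg.Agent.Lib.Helper4.W44SP1

/-!
# W44 (K1): a fixed vector supported exactly on an orbit (helper73 server, S4414)
-/

set_option autoImplicit false

namespace Cfsg.Agent.Helper4.W44

open Cfsg.Agent.Helper73.W44

section thmA
variable {k : Type*} [Field k] [CharP k 2] {G : Type*} [Group G] {V : Type*} [AddCommGroup V]
  [Module k V] [FiniteDimensional k V] [Nontrivial V]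
variable {X : Type*} [DecidableEq X] [MulAction G X]

/-- **(K1)** for every nonzero component there is a nonzero `P`-fixed vector whose support is the
`P`-orbit of its index (use A5 on `⨆ y ∈ orbit P x, W y`, then SP1, PJ3, PJ4) -/
theorem exists_fixed_supp_eq_orbit (ρ : G →* Module.End k V) (W : X → Submodule k V)
    (hI : DirectSum.IsInternal W) (hmap : ∀ g x, (W x).map (ρ g) = W (g • x))
    (P : Subgroup G) [Finite P] (hP : IsPGroup 2 P) (x : X) (hx : W x ≠ ⊥) :
    ∃ f ∈ fixS ρ P, f ≠ 0 ∧ supp W hI f = MulAction.orbit P x := by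
  set U : Submodule k V := ⨆ y ∈ MulAction.orbit P x, W y with hU_def
  have hxU : W x ≤ U := le_iSup₂_of_le x (MulAction.mem_orbit_self x) le_rfl
  have hU : U ≠ ⊥ := by
    intro h
    apply hx
    rw [eq_bot_iff, ← h]
    exact hxU
  have hinv : ∀ s ∈ P, ∀ u ∈ U, ρ s u ∈ U := by
    intro s hs u hu
    have hle : U.map (ρ s) ≤ U := by
      rw [hU_def, Submodule.map_iSup]
      apply iSup_le
      intro y
      rw [Submodule.map_iSup]
      apply iSup_le
      intro hy
      rw [hmap s y]
      refine le_iSup₂_of_le (s • y) ?_ le_rfl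
      have : s • y = (⟨s, hs⟩ : P) • y := rfl
      rw [this]
      exact MulAction.mem_orbit_of_mem_orbit _ hy
    exact hle (Submodule.mem_map_of_mem hu)
  obtain ⟨f, hfU, hf0, hfix⟩ := Cfsg.Agent.Helper23.W44.exists_fixed_vector ρ P hP U hU hinv
  refine ⟨f, hfix, hf0, ?_⟩
  have hsub : supp W hI f ⊆ MulAction.orbit P x :=
    supp_subset_of_mem_biSup W hI _ f hfU
  apply Set.Subset.antisymm hsub
  -- some component is nonzero
  have hex : ∃ y, proj W hI y f ≠ 0 := by
    by_contra hcon
    push Not at hcon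
    exact hf0 (eq_zero_of_forall_proj W hI f hcon)
  obtain ⟨y, hy⟩ := hex
  have hyo : y ∈ MulAction.orbit P x := hsub hy
  intro z hz
  -- `z = s • y` with `s ∈ P`
  have hzy : z ∈ MulAction.orbit P y := by
    rw [MulAction.orbit_eq_iff.mpr hyo]
    exact hz
  obtain ⟨s, hs⟩ := hzy
  have hs' : (s : G) • y = z := hs
  rw [mem_supp, ← hs']
  have hfs : ρ (s : G) f = f := hfix s s.2
  have hequi := proj_equivariant ρ W hI hmap (s : G) y f
  rw [hfs] at hequi
  rw [hequi]
  intro h0
  apply hy
  have hinj : ρ ((s : G)⁻¹) (ρ (s : G) (proj W hI y f)) = proj W hI y f := by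
    have : ρ ((s : G)⁻¹) * ρ (s : G) = 1 := by
      rw [← map_mul, inv_mul_cancel, map_one]
    calc ρ ((s : G)⁻¹) (ρ (s : G) (proj W hI y f)) = (ρ ((s : G)⁻¹) * ρ (s : G)) (proj W hI y f) := rfl
      _ = proj W hI y f := by rw [this]; rfl
  rw [← hinj, h0, map_zero]

end thmA

end Cfsg.Agent.Helper4.W44
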