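import Mathlib
import Cfsg.Agent.Lib.Helper4.ZassFeitA

/-!
# Exceptional characters of an abelian T.I. subgroup: values on `K' ∖ {1}` (helper4)
-/

set_option autoImplicit false
set_option linter.style.haveILetI false
set_option linter.unusedSectionVars false

namespace Cfsg.Agent.Helper4.ZassFeitB

open Cfsg Cfsg.Agent.Helper81 Cfsg.Agent.Helper82 Cfsg.Agent.Helper4.ZassFeitA
open scoped ComplexConjugate

universe u

variable {G : Type u} [Group G] [Fintype G] (N : Subgroup G) [Fintype N] (K' : Subgroup N)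
  [hKn : K'.Normal]
  (hC' : ∀ n ∈ K', n ≠ 1 → Subgroup.centralizer ({n} : Set N) ≤ K')
  (hind : ∀ ϑ : N → ℂ, IsClassFunction N ϑ → (∀ x : N, x ∉ K' → ϑ x = 0) → ϑ 1 = 0 →
    ∀ x : N, Cfsg.indFun N ϑ x = ϑ x)
  (hab : ∀ a ∈ K', ∀ b ∈ K', a * b = b * a)
  (ε : ℂ) (hε : ε = 1 ∨ ε = -1)
  (f : {χ : IrrCharacter N // ∃ k ∈ K', (χ : N → ℂ) k ≠ (χ : N → ℂ) 1} → IrrCharacter G)
  (hinj : Function.Injective f)
  (hf : ∀ χ ξ, indFun N ((χ.1 : N → ℂ) - (ξ.1 : N → ℂ)) = ε • ((f χ : G → ℂ) - (f ξ : G → ℂ)))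

include hε in
theorem eps_sq : ε * ε = 1 := by
  rcases hε with h | h <;> rw [h] <;> norm_num

include hε in
theorem eps_conj : conj ε = ε := by
  rcases hε with h | h
  · rw [h, map_one]
  · rw [h, map_neg, map_one]

include hC' hind hab hf in
/-- on `N`, the difference of two exceptional characters is the difference of the relevant
characters (up to the sign). -/
theorem exc_diff (χ ξ : {χ : IrrCharacter N // ∃ k ∈ K', (χ : N → ℂ) k ≠ (χ : N → ℂ) 1})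
    (x : N) : ε * ((f χ : G → ℂ) x - (f ξ : G → ℂ) x) = (χ.1 : N → ℂ) x - (ξ.1 : N → ℂ) x := by
  have hcl : IsClassFunction N ((χ.1 : N → ℂ) - (ξ.1 : N → ℂ)) := by
    intro g h
    rw [Pi.sub_apply, Pi.sub_apply,
      isClassFunction_of_isCharacter (IsIrrCharacter.isCharacter χ.1.2) g h,
      isClassFunction_of_isCharacter (IsIrrCharacter.isCharacter ξ.1.2) g h]
  have hvan : ∀ x : N, x ∉ K' → ((χ.1 : N → ℂ) - (ξ.1 : N → ℂ)) x = 0 := by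
    intro x hx
    rw [Pi.sub_apply, rel_vanish K' hC' χ.1.2 χ.2 hx, rel_vanish K' hC' ξ.1.2 ξ.2 hx, sub_zero]
  have hone : ((χ.1 : N → ℂ) - (ξ.1 : N → ℂ)) 1 = 0 := by
    rw [Pi.sub_apply, relevant_degree K' hC' hab χ.1.2 χ.2,
      relevant_degree K' hC' hab ξ.1.2 ξ.2, sub_self]
  have h := hind _ hcl hvan hone x
  rw [hf, Pi.smul_apply, Pi.sub_apply, smul_eq_mul, Pi.sub_apply] at h
  exact h

include hC' hab hε hinj hf in
open Classical in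
/-- the sum of the exceptional characters is a constant integer on `K' ∖ {1}`. -/
theorem exists_w (χ₀ : {χ : IrrCharacter N // ∃ k ∈ K', (χ : N → ℂ) k ≠ (χ : N → ℂ) 1}) :
    ∃ w : ℤ, ∀ k : N, k ∈ K' → k ≠ 1 →
      ∑ χ, (f χ : G → ℂ) k = (w : ℂ) := by
  have hsum : ∀ χ', classInner (∑ χ, (f χ : G → ℂ)) (f χ' : G → ℂ) = 1 := by
    intro χ'
    rw [classInner_sum_left]
    rw [Finset.sum_eq_single χ']
    · rw [irr_orthonormal (f χ').2 (f χ').2, if_pos rfl]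
    · intro b _ hb
      rw [irr_orthonormal (f b).2 (f χ').2, if_neg]
      intro h
      exact hb (hinj (Subtype.ext h))
    · intro h
      exact absurd (Finset.mem_univ _) h
  have hgen : IsGeneralizedCharacter G (∑ χ, (f χ : G → ℂ)) :=
    isGeneralizedCharacter_sum _ _ (fun χ _ =>
      isGeneralizedCharacter_of_isCharacter (IsIrrCharacter.isCharacter (f χ).2))
  obtain ⟨z, hz⟩ := caf_const N K' hC' hab ε hε f hf hgen
    (fun χ ξ => by rw [hsum χ, hsum ξ]) χ₀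
  refine ⟨z, fun k hk hk1 => ?_⟩
  rw [← hz k hk hk1, Finset.sum_apply]
  

include hC' hab hε hf in
/-- a non-exceptional irreducible character is a constant integer on `K' ∖ {1}`. -/
theorem nonexc_const (χ₀ : {χ : IrrCharacter N // ∃ k ∈ K', (χ : N → ℂ) k ≠ (χ : N → ℂ) 1})
    (ψ : IrrCharacter G) (hψ : ∀ χ, f χ ≠ ψ) :
    ∃ a : ℤ, ∀ k : N, k ∈ K' → k ≠ 1 → (ψ : G → ℂ) k = (a : ℂ) := by
  apply caf_const N K' hC' hab ε hε f hf
    (isGeneralizedCharacter_of_isCharacter (IsIrrCharacter.isCharacter ψ.2)) _ χ₀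
  intro χ ξ
  have h1 : (ψ : G → ℂ) ≠ (f χ : G → ℂ) := fun h => hψ χ (Subtype.ext h.symm)
  have h2 : (ψ : G → ℂ) ≠ (f ξ : G → ℂ) := fun h => hψ ξ (Subtype.ext h.symm)
  rw [irr_orthonormal ψ.2 (f χ).2, if_neg h1, irr_orthonormal ψ.2 (f ξ).2, if_neg h2]

include hC' hind hab hε hinj hf in
open Classical in
/-- the exceptional characters agree with the relevant ones on `K' ∖ {1}` up to the sign and a
constant integer. -/
theorem exists_m (χ₀ : {χ : IrrCharacter N // ∃ k ∈ K', (χ : N → ℂ) k ≠ (χ : N → ℂ) 1}) :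
    ∃ m : ℤ, ∀ χ : {χ : IrrCharacter N // ∃ k ∈ K', (χ : N → ℂ) k ≠ (χ : N → ℂ) 1},
      ∀ k : N, k ∈ K' → k ≠ 1 → ε * (f χ : G → ℂ) k = (χ.1 : N → ℂ) k + (m : ℂ) := by
  obtain ⟨w, hw⟩ := exists_w N K' hC' hab ε hε f hinj hf χ₀
  obtain ⟨εz, hεz⟩ : ∃ z : ℤ, (z : ℂ) = ε := by
    rcases hε with h | h
    · exact ⟨1, by rw [h]; norm_num⟩
    · exact ⟨-1, by rw [h]; norm_num⟩
  set t := Fintype.card {χ : IrrCharacter N // ∃ k ∈ K', (χ : N → ℂ) k ≠ (χ : N → ℂ) 1} with ht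
  have ht0 : 0 < t := Fintype.card_pos_iff.2 ⟨χ₀⟩
  have hkey : ∀ k : N, k ∈ K' → k ≠ 1 →
      (t : ℂ) * (ε * (f χ₀ : G → ℂ) k - (χ₀.1 : N → ℂ) k) = ε * w + 1 := by
    intro k hk hk1
    have h1 : ∀ χ : {χ : IrrCharacter N // ∃ k ∈ K', (χ : N → ℂ) k ≠ (χ : N → ℂ) 1},
        ε * (f χ : G → ℂ) k - (χ.1 : N → ℂ) k =
          ε * (f χ₀ : G → ℂ) k - (χ₀.1 : N → ℂ) k := by
      intro χ
      have := exc_diff N K' hC' hind hab ε f hf χ χ₀ k
      linear_combination this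
    have h2 : ∑ χ : {χ : IrrCharacter N // ∃ k ∈ K', (χ : N → ℂ) k ≠ (χ : N → ℂ) 1},
        (ε * (f χ : G → ℂ) k - (χ.1 : N → ℂ) k) =
          (t : ℂ) * (ε * (f χ₀ : G → ℂ) k - (χ₀.1 : N → ℂ) k) := by
      rw [Finset.sum_congr rfl (fun χ _ => h1 χ), Finset.sum_const, Finset.card_univ,
        nsmul_eq_mul]
    rw [← h2, Finset.sum_sub_distrib, ← Finset.mul_sum, hw k hk hk1,
      sum_rel_apply K' hC' hab hk hk1]
    ring
  by_cases hex : ∃ k₀ : N, k₀ ∈ K' ∧ k₀ ≠ 1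
  · obtain ⟨k₀, hk₀, hk₀1⟩ := hex
    have ht' : (t : ℂ) ≠ 0 := by exact_mod_cast ht0.ne'
    set q : ℚ := ((εz * w + 1 : ℤ) : ℚ) / (t : ℚ) with hq
    have hval : ∀ k : N, k ∈ K' → k ≠ 1 →
        ε * (f χ₀ : G → ℂ) k - (χ₀.1 : N → ℂ) k = (q : ℂ) := by
      intro k hk hk1
      have := hkey k hk hk1
      rw [hq]
      push_cast
      rw [hεz, eq_div_iff ht']
      linear_combination this
    have hintg : IsIntegral ℤ (q : ℂ) := by
      rw [← hval k₀ hk₀ hk₀1]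
      apply IsIntegral.sub
      · rcases hε with h | h
        · rw [h, one_mul]
          exact Cfsg.Agent.Helper79.irr_isIntegral (f χ₀) _
        · rw [h, neg_one_mul]
          exact (Cfsg.Agent.Helper79.irr_isIntegral (f χ₀) _).neg
      · exact Cfsg.Agent.Helper79.irr_isIntegral χ₀.1 k₀
    obtain ⟨m, hm⟩ := int_of_isIntegral_ratCast q hintg
    refine ⟨m, fun χ k hk hk1 => ?_⟩
    have h1 := exc_diff N K' hC' hind hab ε f hf χ χ₀ k
    have h2 := hval k hk hk1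
    rw [hm] at h2
    linear_combination h1 + h2
  · push Not at hex
    exact ⟨0, fun χ k hk hk1 => absurd (hex k hk) hk1⟩

include hC' hab hε hinj in
open Classical in
/-- column orthogonality at an element of `K' ∖ {1}`. -/
theorem col_eq (m : ℤ)
    (hm : ∀ χ : {χ : IrrCharacter N // ∃ k ∈ K', (χ : N → ℂ) k ≠ (χ : N → ℂ) 1},
      ∀ k : N, k ∈ K' → k ≠ 1 → ε * (f χ : G → ℂ) k = (χ.1 : N → ℂ) k + (m : ℂ))
    (a : IrrCharacter G → ℤ)
    (ha : ∀ ψ : IrrCharacter G, (∀ χ, f χ ≠ ψ) → ∀ k : N, k ∈ K' → k ≠ 1 →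
      (ψ : G → ℂ) k = (a ψ : ℂ))
    (k₀ : N) (hk₀ : k₀ ∈ K') (hk₀1 : k₀ ≠ 1)
    (hcent : Nat.card (Subgroup.centralizer ({(k₀ : G)} : Set G)) = Nat.card K') :
    ∑ ψ ∈ (Finset.univ.image f)ᶜ, (a ψ) ^ 2 =
      (K'.index : ℤ) + 2 * m - (Fintype.card
        {χ : IrrCharacter N // ∃ k ∈ K', (χ : N → ℂ) k ≠ (χ : N → ℂ) 1} : ℤ) * m ^ 2 := by
  have h0 := Cfsg.Agent.Helper79.col_orth_self (k₀ : G)
  rw [hcent, ← Finset.sum_add_sum_compl (Finset.univ.image f)] at h0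
  have h1 : ∑ ψ ∈ Finset.univ.image f, (ψ : G → ℂ) k₀ * conj ((ψ : G → ℂ) k₀) =
      (Nat.card K' : ℂ) - (K'.index : ℂ) - 2 * m + (Fintype.card
        {χ : IrrCharacter N // ∃ k ∈ K', (χ : N → ℂ) k ≠ (χ : N → ℂ) 1} : ℂ) * (m : ℂ) ^ 2 := by
    rw [Finset.sum_image (fun x _ y _ h => hinj h)]
    have h2 : ∀ χ : {χ : IrrCharacter N // ∃ k ∈ K', (χ : N → ℂ) k ≠ (χ : N → ℂ) 1},
        (f χ : G → ℂ) k₀ * conj ((f χ : G → ℂ) k₀) =
          (χ.1 : N → ℂ) k₀ * conj ((χ.1 : N → ℂ) k₀) + (m : ℂ) * (χ.1 : N → ℂ) k₀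
            + (m : ℂ) * conj ((χ.1 : N → ℂ) k₀) + (m : ℂ) ^ 2 := by
      intro χ
      have h3 : (f χ : G → ℂ) k₀ = ε * ((χ.1 : N → ℂ) k₀ + (m : ℂ)) := by
        rw [← hm χ k₀ hk₀ hk₀1, ← mul_assoc, eps_sq ε hε, one_mul]
      rw [h3, map_mul, eps_conj ε hε, map_add, map_intCast]
      linear_combination ((χ.1 : N → ℂ) k₀ + (m : ℂ)) * (conj ((χ.1 : N → ℂ) k₀) + (m : ℂ)) *
        eps_sq ε hε
    rw [Finset.sum_congr rfl (fun χ _ => h2 χ), Finset.sum_add_distrib, Finset.sum_add_distrib,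
      Finset.sum_add_distrib, sum_rel_sq K' hC' hab hk₀ hk₀1, ← Finset.mul_sum, ← Finset.mul_sum,
      ← map_sum, sum_rel_apply K' hC' hab hk₀ hk₀1, Finset.sum_const, Finset.card_univ,
      nsmul_eq_mul, map_neg, map_one]
    ring
  have h4 : ∑ ψ ∈ (Finset.univ.image f)ᶜ, (ψ : G → ℂ) k₀ * conj ((ψ : G → ℂ) k₀) =
      ((∑ ψ ∈ (Finset.univ.image f)ᶜ, (a ψ) ^ 2 : ℤ) : ℂ) := by
    push_cast
    apply Finset.sum_congr rfl
    intro ψ hψ
    rw [Finset.mem_compl, Finset.mem_image] at hψ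
    have hne : ∀ χ, f χ ≠ ψ := fun χ h => hψ ⟨χ, Finset.mem_univ _, h⟩
    rw [ha ψ hne k₀ hk₀ hk₀1, map_intCast]
    ring
  rw [h1, h4] at h0
  have h5 : ((∑ ψ ∈ (Finset.univ.image f)ᶜ, (a ψ) ^ 2 : ℤ) : ℂ) =
      (((K'.index : ℤ) + 2 * m - (Fintype.card
        {χ : IrrCharacter N // ∃ k ∈ K', (χ : N → ℂ) k ≠ (χ : N → ℂ) 1} : ℤ) * m ^ 2 : ℤ) : ℂ) := by
    push_cast at h0 ⊢
    linear_combination h0
  exact_mod_cast h5

end Cfsg.Agent.Helper4.ZassFeitB
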